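import Cfsg.Agent.Lib.ThType.Frame
import Cfsg.Agent.Lib.Extraspecial.Setting
import Cfsg.Agent.Lib.ZStar.Main
import Cfsg.Agent.Lib.ZStar.IsolatedConseq

/-!
Conjugates of an involution in the centraliser.
-/

set_option autoImplicit false
set_option linter.style.haveILetI false
set_option Elab.async false

namespace CfsgLib.ThType

/-- the two conditions on the commutators of a matrix with the vectors -/
def Crit (L : List ℕ) : Prop :=
  (∃ s : Fin 256, qd (linV L s ^^^ s) = true) ∧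
    ∃ s : Fin 256, linV L s ^^^ s ≠ 0 ∧ qd (linV L s ^^^ s) = false

variable {G : Type*} [Group G] {t : G}

/-- the centraliser as a type -/
abbrev Cn (t : G) : Type _ := ↥(Subgroup.centralizer ({t} : Set G))

/-- A conjugate of `t` other than `t` lies in `Q`. -/
def Fused (Q : Subgroup (Subgroup.centralizer ({t} : Set G))) : Prop :=
  ∃ w : ↥(Subgroup.centralizer ({t} : Set G)), w ∈ Q ∧ (w : G) ≠ t ∧ IsConj t (w : G)

/-- A conjugate of `t` in the centraliser outside `Q`. -/
def Cand (π : ↥(Subgroup.centralizer ({t} : Set G)) →* ↥(alternatingGroup (Fin 9)))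
    (u : Subgroup.centralizer ({t} : Set G)) : Prop :=
  π u ≠ 1 ∧ IsConj t (u : G)

/-- The centraliser with its coordinates. -/
structure Ctx (Q : Subgroup (Subgroup.centralizer ({t} : Set G))) (z : Subgroup.centralizer ({t} : Set G))
    (g : ℕ → Subgroup.centralizer ({t} : Set G))
    (π : ↥(Subgroup.centralizer ({t} : Set G)) →* ↥(alternatingGroup (Fin 9))) (M : List (List ℕ)) : Prop where
  fr : Fr Q z g π M
  ex : Cfsg.IsExtraspecial 2 Q
  zt : (z : G) = t
  ord : orderOf t = 2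
  len : M.length = 7

/-- An isolated involution lies in a complement of the odd core. -/
theorem sup_eq_top_of_isolated [Finite G] (hz : Cfsg.IsIsolatedInvolution t) :
    Subgroup.centralizer ({t} : Set G) ⊔ Cfsg.oddCore G = ⊤ := by
  haveI : (Cfsg.pPrimeCore 2 G).Normal := CfsgLib.Transfer.pPrimeCore_normal 2 G
  refine eq_top_iff.mpr fun g _ => ?_
  have h := CfsgLib.ZStar.commutatorsInCore_of_isolated hz g
  obtain ⟨o, ho, he⟩ := CfsgLib.ZStar.exists_mem_conj_of_mem
    (N := Cfsg.pPrimeCore 2 G ⊔ Subgroup.zpowers t) hz (Subgroup.mem_sup_right (Subgroup.mem_zpowers t))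
    (isConj_iff.mpr ⟨g, rfl⟩ : IsConj t (g * t * g⁻¹)) (by
      rw [show g * t * g⁻¹ = (t * g * t⁻¹ * g⁻¹)⁻¹ * t by group]
      exact mul_mem (Subgroup.mem_sup_left (inv_mem h)) (Subgroup.mem_sup_right (Subgroup.mem_zpowers t)))
  have hc : o⁻¹ * g ∈ Subgroup.centralizer ({t} : Set G) := by
    rw [Subgroup.mem_centralizer_singleton_iff]
    apply mul_inv_eq_iff_eq_mul.mp
    calc o⁻¹ * g * t * (o⁻¹ * g)⁻¹ = o⁻¹ * (g * t * g⁻¹) * o := by group
      _ = t := by rw [← he]; group
  have ho' : o ∈ Subgroup.centralizer ({t} : Set G) ⊔ Cfsg.oddCore G := by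
    refine (sup_le le_sup_right ?_ : Cfsg.pPrimeCore 2 G ⊔ Subgroup.zpowers t ≤ _) ho
    exact Subgroup.zpowers_le.mpr (Subgroup.mem_sup_left (Subgroup.mem_centralizer_singleton_iff.mpr rfl))
  have := mul_mem ho' (Subgroup.mem_sup_left hc)
  rwa [mul_inv_cancel_left] at this

namespace Ctx

variable {Q : Subgroup (Subgroup.centralizer ({t} : Set G))} {z : Subgroup.centralizer ({t} : Set G)}
  {g : ℕ → Subgroup.centralizer ({t} : Set G)}
  {π : ↥(Subgroup.centralizer ({t} : Set G)) →* ↥(alternatingGroup (Fin 9))} {M : List (List ℕ)}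
  (h : Ctx Q z g π M)

include h

theorem t_sq : t * t = 1 := by rw [← pow_two, ← h.ord, pow_orderOf_eq_one]

theorem t_ne : t ≠ 1 := fun e => by
  have := h.ord; rw [e, orderOf_one] at this; exact absurd this (by norm_num)

theorem conj_sq {x : G} (hx : IsConj t x) : x * x = 1 := by
  obtain ⟨c, rfl⟩ := isConj_iff.mp hx
  rw [show c * t * c⁻¹ * (c * t * c⁻¹) = c * (t * t) * c⁻¹ by group, h.t_sq, mul_one, mul_inv_cancel]

theorem cand_sq {u : Subgroup.centralizer ({t} : Set G)} (hu : Cand π u) : u * u = 1 :=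
  Subtype.ext (h.conj_sq hu.2)

theorem cand_conj {u : Subgroup.centralizer ({t} : Set G)} (hu : Cand π u)
    (c : Subgroup.centralizer ({t} : Set G)) : Cand π (c * u * c⁻¹) := by
  refine ⟨fun e => hu.1 ?_, hu.2.trans (isConj_iff.mpr ⟨(c : G), rfl⟩)⟩
  rwa [map_mul, map_mul, map_inv, mul_inv_eq_one, mul_eq_left] at e

theorem el_ne {e : ℕ} (he : e < 512) (h0 : e &&& 255 ≠ 0) :
    ((el z g e : Cn t) : G) ≠ t ∧ el z g e ≠ 1 := by
  refine ⟨fun e1 => h0 ?_, fun e1 => h0 ?_⟩
  · have := h.fr.coords.el_inj e he 256 (by norm_num) (by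
      rw [h.fr.coords.el_256]; exact Subtype.ext (e1.trans h.zt.symm))
    subst this; rfl
  · have := h.fr.coords.el_inj e he 0 (by norm_num) (by rw [e1, h.fr.coords.el_zero])
    subst this; rfl

/-- A nonsingular commutator fuses `u` with `u z`. -/
theorem shift {u : Subgroup.centralizer ({t} : Set G)} (hu : Cand π u) {A : List ℕ} (hA : Acts z g u A)
    {s : ℕ} (hs : s < 256) (hq : qd (linV (linPart A) s ^^^ s) = true) :
    IsConj (u : G) ((u * z : Subgroup.centralizer ({t} : Set G)) : G) := by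
  have hC := h.fr.coords
  have hu2 := h.cand_sq hu
  obtain ⟨er, hr⟩ := hC.comm_el hA (s := s) (hs.trans (by norm_num))
  set q := el z g s
  set r := el z g (comCode A s)
  have hrr : r * r = z := by
    rw [hC.el_sq hr, comCode_low, and_255_of_lt hs, hq]; rfl
  have hui : u⁻¹ = u := inv_eq_of_mul_eq_one_right hu2
  have hur : u * r * u = r⁻¹ := by
    rw [← er]
    calc u * (u * q * u⁻¹ * q⁻¹) * u = (u * u) * q * u⁻¹ * q⁻¹ * u := by group
      _ = (u * q * u⁻¹ * q⁻¹)⁻¹ := by rw [hu2, hui]; simp [mul_assoc, hui]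
  refine isConj_iff.mpr ⟨(r⁻¹ : Subgroup.centralizer ({t} : Set G)), ?_⟩
  have e : r⁻¹ * u * r⁻¹⁻¹ = u * z := by
    calc r⁻¹ * u * r⁻¹⁻¹ = r⁻¹ * (u * r) * (u * u) := by rw [hu2, mul_one, inv_inv, mul_assoc]
      _ = r⁻¹ * (u * r * u) * u := by group
      _ = (r * r)⁻¹ * u := by rw [hur]; group
      _ = u * z := by rw [hrr, hC.z_inv, hC.z_comm]
  exact congrArg Subtype.val e

/-- Both conditions at all candidates of the two classes force fusion into `Q`. -/
theorem fused_of_crit [Finite G] (hG : Subgroup.centralizer ({t} : Set G) ⊔ Cfsg.oddCore G ≠ ⊤)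
    (hcrit : ¬ Fused Q → ∀ (u : Subgroup.centralizer ({t} : Set G)) (A : List ℕ), Cand π u →
      (π u = g7Word w2 ∨ π u = g7Word w4) → Acts z g u A → Crit (linPart A)) : Fused Q := by
  by_contra hnf
  have hC := h.fr.coords
  have rep : ∀ u, Cand π u → ∃ c, π (c * u * c⁻¹) = g7Word w2 ∨ π (c * u * c⁻¹) = g7Word w4 := by
    intro u hu
    obtain ⟨τ, hτ⟩ := invol_rep (σ := π u) (by rw [← map_mul, h.cand_sq hu, map_one]) hu.1
    obtain ⟨c, rfl⟩ := h.fr.surj τ
    exact ⟨c, by rwa [map_mul, map_mul, map_inv]⟩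
  have hz : ∀ u, Cand π u → IsConj t ((u * z : Subgroup.centralizer ({t} : Set G)) : G) := by
    intro u hu
    obtain ⟨c, hc⟩ := rep u hu
    obtain ⟨A, hA⟩ := hC.exists_acts (c * u * c⁻¹)
    obtain ⟨⟨s, hs⟩, -⟩ := hcrit hnf _ A (h.cand_conj hu c) hc hA
    refine (h.cand_conj hu c).2.trans ((h.shift (h.cand_conj hu c) hA s.2 hs).trans ?_)
    refine isConj_iff.mpr ⟨((c⁻¹ : Subgroup.centralizer ({t} : Set G)) : G), ?_⟩
    have e : c⁻¹ * (c * u * c⁻¹ * z) * c⁻¹⁻¹ = u * z := by
      rw [inv_inv]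
      calc c⁻¹ * (c * u * c⁻¹ * z) * c = u * (c⁻¹ * (z * c)) := by group
        _ = u * z := by rw [← hC.z_comm c, inv_mul_cancel_left]
    exact congrArg Subtype.val e
  have none' : ∀ u, ¬ Cand π u := by
    intro u hu
    obtain ⟨c, hc⟩ := rep u hu
    set u' := c * u * c⁻¹
    have hu' := h.cand_conj hu c
    obtain ⟨A, hA⟩ := hC.exists_acts u'
    obtain ⟨-, s, hs0, hsq⟩ := hcrit hnf u' A hu' hc hA
    obtain ⟨er, hr⟩ := hC.comm_el hA (s := s) (s.2.trans (by norm_num))
    set q := el z g (s : ℕ)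
    set r := el z g (comCode A s)
    have hlow : comCode A s &&& 255 = linV (linPart A) s ^^^ s := by
      rw [comCode_low, and_255_of_lt s.2]
    have hrr : r * r = 1 := by rw [hC.el_sq hr, hlow, hsq]; rfl
    obtain ⟨hrt, hr1⟩ := h.el_ne hr (by rw [hlow]; exact hs0)
    have hu2 : u' * u' = 1 := h.cand_sq hu'
    have hui : u'⁻¹ = u' := inv_eq_of_mul_eq_one_right hu2
    have e1 : u' * r = q * u' * q⁻¹ := by
      rw [← er, hui]
      simp only [← mul_assoc, hu2, one_mul]
    have hcommu : u' * r = r * u' := by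
      have e2 : u' * r * u' = r⁻¹ := by
        rw [← er]
        calc u' * (u' * q * u'⁻¹ * q⁻¹) * u' = (u' * u') * q * u'⁻¹ * q⁻¹ * u' := by group
          _ = (u' * q * u'⁻¹ * q⁻¹)⁻¹ := by rw [h.cand_sq hu', hui]; simp [mul_assoc, hui]
      rw [inv_eq_of_mul_eq_one_right hrr] at e2
      calc u' * r = u' * r * (u' * u') := by rw [h.cand_sq hu', mul_one]
        _ = r * u' := by rw [← mul_assoc, e2]
    obtain ⟨γ, hγ⟩ := isConj_iff.mp hu'.2
    have hur : IsConj t ((u' * r : Subgroup.centralizer ({t} : Set G)) : G) := by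
      rw [e1]
      exact hu'.2.trans (isConj_iff.mpr ⟨(q : G), rfl⟩)
    set v : G := γ⁻¹ * ((u' * r : Subgroup.centralizer ({t} : Set G)) : G) * γ with hv
    have hvconj : IsConj t v := hur.trans (isConj_iff.mpr ⟨γ⁻¹, by rw [inv_inv]⟩)
    have hvt : v = t * (γ⁻¹ * (r : G) * γ) := by
      rw [hv, Subgroup.coe_mul, ← hγ]; group
    have hvC : v * t = t * v := by
      have e3 : (u' : G) * ((u' : G) * r) = (u' : G) * r * u' := by
        have := congrArg (fun x : Subgroup.centralizer ({t} : Set G) => (x : G)) hcommu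
        simp only [Subgroup.coe_mul] at this
        rw [mul_assoc (u' : G) (r : G), ← this]
      calc v * t = γ⁻¹ * (((u' : G) * r) * u') * γ := by rw [hv, ← hγ, Subgroup.coe_mul, ← hγ]; group
        _ = γ⁻¹ * ((u' : G) * ((u' : G) * r)) * γ := by rw [e3]
        _ = t * v := by rw [hv, ← hγ, Subgroup.coe_mul, ← hγ]; group
    have hmem : v ∈ Subgroup.centralizer ({t} : Set G) := Subgroup.mem_centralizer_singleton_iff.mpr hvC
    by_cases hvQ : π ⟨v, hmem⟩ = 1
    · refine hnf ⟨⟨v, hmem⟩, (h.fr.mem_iff _).mpr hvQ, fun e4 => hr1 ?_, hvconj⟩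
      have e5 : γ⁻¹ * (r : G) * γ = 1 := mul_eq_left.mp (hvt.symm.trans e4)
      refine Subtype.ext ?_
      calc (r : G) = γ * (γ⁻¹ * (r : G) * γ) * γ⁻¹ := by group
        _ = 1 := by rw [e5, mul_one, mul_inv_cancel]
    · have h6 := hz _ (show Cand π ⟨v, hmem⟩ from ⟨hvQ, hvconj⟩)
      have h7 : IsConj t (γ⁻¹ * (r : G) * γ) := by
        rw [Subgroup.coe_mul, h.zt, hvC, hvt, ← mul_assoc, h.t_sq, one_mul] at h6
        exact h6
      refine hnf ⟨r, h.fr.coords.el_mem _, hrt, h7.trans (isConj_iff.mpr ⟨γ, by group⟩)⟩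
  refine hG (sup_eq_top_of_isolated ⟨h.ord, fun x hx => ?_⟩)
  by_contra hne
  have hmem : x * t * x⁻¹ ∈ Subgroup.centralizer ({t} : Set G) :=
    Subgroup.mem_centralizer_singleton_iff.mpr hx.eq.symm
  by_cases hQ : π ⟨_, hmem⟩ = 1
  · exact hnf ⟨⟨_, hmem⟩, (h.fr.mem_iff _).mpr hQ, hne, isConj_iff.mpr ⟨x, rfl⟩⟩
  · exact none' _ ⟨hQ, isConj_iff.mpr ⟨x, rfl⟩⟩

/-- `Q` in `G` is a setting. -/
theorem setting [Finite G] : CfsgLib.Extraspecial.Setting (Q.map (Subgroup.centralizer ({t} : Set G)).subtype) t := by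
  haveI := Fact.mk Nat.prime_two
  have hC := h.fr.coords
  have hmem : ∀ x : G, x ∈ Subgroup.zpowers t → x = 1 ∨ x = t := by
    intro x hx
    obtain ⟨n, rfl⟩ := Subgroup.mem_zpowers_iff.mp hx
    rcases Int.even_or_odd' n with ⟨m, rfl | rfl⟩
    · exact Or.inl (by rw [zpow_mul, zpow_two, h.t_sq, one_zpow])
    · exact Or.inr (by rw [zpow_add, zpow_mul, zpow_two, h.t_sq, one_zpow, one_mul, zpow_one])
  have hex : Cfsg.IsExtraspecial 2 (Q.map (Subgroup.centralizer ({t} : Set G)).subtype) :=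
    CfsgLib.Extraspecial.isExtraspecial_congr
      (Q.equivMapOfInjective _ (Subgroup.subtype_injective _)) h.ex
  have htmem : t ∈ Q.map (Subgroup.centralizer ({t} : Set G)).subtype := ⟨z, hC.z_mem, h.zt⟩
  refine ⟨hex, ?_, h.ord, ?_, ?_⟩
  · apply le_antisymm
    · rintro _ ⟨⟨_, c, hc, rfl⟩, hcen, rfl⟩
      show (c : G) ∈ Subgroup.zpowers t
      obtain ⟨e, he, rfl⟩ := hC.surj c hc
      have h0 : e &&& 255 = 0 := by
        by_contra h0
        obtain ⟨x, -, hx⟩ := h.fr.exists_move he h0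
        have e1 : ((el z g x : Cn t) : G) * ((el z g e : Cn t) : G) = ((el z g e : Cn t) : G) * ((el z g x : Cn t) : G) :=
          congrArg Subtype.val (Subgroup.mem_center_iff.mp hcen ⟨_, el z g x, hC.el_mem x, rfl⟩)
        have e2 : el z g x * el z g e * (el z g x)⁻¹ = el z g e := mul_inv_eq_iff_eq_mul.mpr (Subtype.ext e1)
        exact hC.z_ne (mul_eq_left.mp (hx.symm.trans e2))
      rcases hC.el_lowzero he h0 with e1 | e1
      · rw [e1]; exact one_mem _
      · rw [e1]; show (z : G) ∈ _; rw [h.zt]; exact Subgroup.mem_zpowers t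
    · rw [Subgroup.zpowers_le]
      refine ⟨⟨t, htmem⟩, Subgroup.mem_center_iff.mpr ?_, rfl⟩
      rintro ⟨_, c, hc, rfl⟩
      exact Subtype.ext (Subgroup.mem_centralizer_singleton_iff.mp c.2)
  · apply le_antisymm
    · intro x hx
      have hxC : x ∈ Subgroup.centralizer ({t} : Set G) :=
        Subgroup.mem_centralizer_singleton_iff.mpr (hx t htmem).symm
      have hxQ : (⟨x, hxC⟩ : Subgroup.centralizer ({t} : Set G)) ∈ Q := hC.self
        (Subgroup.mem_centralizer_iff.mpr fun q hq => Subtype.ext (hx _ ⟨q, hq, rfl⟩))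
      obtain ⟨e, he, hee⟩ := hC.surj _ hxQ
      by_cases h0 : e &&& 255 = 0
      · rcases hC.el_lowzero he h0 with e1 | e1 <;> rw [e1] at hee <;>
          have e2 := congrArg Subtype.val hee
        · rw [show x = 1 from e2.symm]; exact one_mem _
        · rw [show x = t from e2.symm.trans h.zt]; exact Subgroup.mem_zpowers t
      · obtain ⟨y, -, hy⟩ := h.fr.exists_move he h0
        rw [hee] at hy
        have e2 : el z g y * ⟨x, hxC⟩ * (el z g y)⁻¹ = ⟨x, hxC⟩ :=
          mul_inv_eq_iff_eq_mul.mpr (Subtype.ext (hx _ ⟨_, hC.el_mem y, rfl⟩))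
        exact absurd (mul_eq_left.mp (hy.symm.trans e2)) hC.z_ne
    · rw [Subgroup.zpowers_le, Subgroup.mem_centralizer_iff]
      rintro _ ⟨q, -, rfl⟩
      exact Subgroup.mem_centralizer_singleton_iff.mp q.2
  · intro x hx
    rw [Subgroup.mem_normalizer_iff]
    intro y
    constructor
    · rintro ⟨q, hq, rfl⟩
      exact ⟨⟨x, hx⟩ * q * ⟨x, hx⟩⁻¹, hC.normal.conj_mem q hq _, rfl⟩
    · rintro ⟨q, hq, e⟩
      refine ⟨⟨x, hx⟩⁻¹ * q * ⟨x, hx⟩⁻¹⁻¹, hC.normal.conj_mem q hq _, ?_⟩
      show x⁻¹ * (q : G) * x⁻¹⁻¹ = y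
      rw [show (q : G) = x * y * x⁻¹ from e]; group

theorem card_map [Finite G] : 16 ≤ Nat.card (Q.map (Subgroup.centralizer ({t} : Set G)).subtype) := by
  rw [Subgroup.card_map_of_injective (Subgroup.subtype_injective _), h.fr.coords.card]; norm_num

/-- The conjugate of `Q` with a fused centre, met with the centraliser. -/
theorem fused_group [Finite G] {w : Subgroup.centralizer ({t} : Set G)} (hw : w ∈ Q) (hwt : (w : G) ≠ t)
    {γ : G} (hγ : γ * t * γ⁻¹ = (w : G)) :
    ∃ R : Subgroup (Subgroup.centralizer ({t} : Set G)),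
      (∀ c, c ∈ R ↔ γ⁻¹ * (c : G) * γ ∈ Q.map (Subgroup.centralizer ({t} : Set G)).subtype) ∧
      256 ≤ Nat.card R ∧
      (∀ a ∈ R, ∀ b ∈ R, a ∈ Q → b ∈ Q → a * b = b * a ∧ a * a = 1) ∧
      (∀ a ∈ R, ∀ b ∈ R, π (a * b) = π (b * a)) := by
  have hC := h.fr.coords
  have s := h.setting
  set Q' := Q.map (Subgroup.centralizer ({t} : Set G)).subtype with hQ'
  let R : Subgroup (Subgroup.centralizer ({t} : Set G)) :=
    (Q'.map (MulAut.conj γ).toMonoidHom).comap (Subgroup.centralizer ({t} : Set G)).subtype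
  have hR : ∀ c, c ∈ R ↔ γ⁻¹ * (c : G) * γ ∈ Q' := fun c => by
    constructor
    · rintro ⟨q, hq, e⟩
      have e' : γ * q * γ⁻¹ = (c : G) := e
      rw [← e']
      simpa [mul_assoc] using hq
    · intro hc
      refine ⟨_, hc, ?_⟩
      show γ * (γ⁻¹ * (c : G) * γ) * γ⁻¹ = c
      group
  have hv : γ⁻¹ * t * γ ∈ Q' := by
    obtain ⟨q, hq, e⟩ := s.conj_center_mem (g := γ) ⟨w, hw, hγ.symm⟩ (hγ.symm ▸ hwt) h.card_map
    have e' : γ * q * γ⁻¹ = t := e
    rw [← e']
    simpa [mul_assoc] using hq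
  have hlow : ∀ x ∈ Q', x = 1 ∨ x = t → γ * x * γ⁻¹ = 1 ∨ γ * x * γ⁻¹ = (w : G) := by
    rintro x - (rfl | rfl)
    · left; group
    · exact Or.inr hγ
  refine ⟨R, hR, ?_, ?_, ?_⟩
  · obtain ⟨vq, hvq, hve⟩ := hv
    obtain ⟨e, he, rfl⟩ := hC.surj vq hvq
    have hve' : ((el z g e : Cn t) : G) = γ⁻¹ * t * γ := hve
    have h0 : e &&& 255 ≠ 0 := by
      intro h0
      rcases hC.el_lowzero he h0 with e1 | e1 <;> rw [e1] at hve'
      · apply h.t_ne
        calc t = γ * (γ⁻¹ * t * γ) * γ⁻¹ := by group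
          _ = 1 := by rw [← hve', Subgroup.coe_one, mul_one, mul_inv_cancel]
      · apply hwt
        rw [← hγ]
        calc γ * t * γ⁻¹ = γ * (γ⁻¹ * t * γ) * γ⁻¹ := by rw [← hve', h.zt]
          _ = t := by group
    set l := (List.range 256).filter fun x => !bil x (e &&& 255) with hl
    have hlen : l.length = 128 := perp_card ⟨_, and_255_lt e⟩ fun e1 => h0 (congrArg Fin.val e1)
    obtain ⟨xi, hxi⟩ : ∃ xi : Fin 128 → ℕ, ∀ i, xi i = l.getD i.val 0 := ⟨_, fun i => rfl⟩
    have hlm : ∀ i : Fin 128, (xi i) < 256 ∧ bil ((xi i)) (e &&& 255) = false := by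
      intro i
      have hi : i.val < l.length := by omega
      have := List.getElem_mem hi
      rw [hxi, List.getD_eq_getElem _ _ hi]
      obtain ⟨m1, m2⟩ := List.mem_filter.mp this
      exact ⟨List.mem_range.mp m1, by simpa using m2⟩
    have hcomm : ∀ i : Fin 128, ∀ b : Bool,
        el z g ((xi i) ^^^ (if b then 256 else 0)) * el z g e =
          el z g e * el z g ((xi i) ^^^ (if b then 256 else 0)) := by
      intro i b
      obtain ⟨hx, hb⟩ := hlm i
      have hx' : (xi i) ^^^ (if b then 256 else 0) < 512 :=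
        xor_lt (k := 9) (hx.trans (by norm_num)) (by cases b <;> norm_num)
      rw [hC.el_mul he, hC.el_mul hx']
      congr 1
      have hlo : ((xi i) ^^^ (if b then 256 else 0)) &&& 255 = (xi i) := by
        rw [Nat.and_xor_distrib_right, and_255_of_lt hx]; cases b <;> simp
      rw [emul_eq, emul_eq, hlo, Nat.xor_comm e]
      congr 1
      rw [bil] at hb
      revert hb
      cases bet ((xi i)) (e &&& 255) <;> cases bet (e &&& 255) ((xi i)) <;> simp
    have hmem : ∀ (i : Fin 128) (b : Bool), γ * ((el z g (xi i ^^^ (if b then 256 else 0)) : Cn t) : G) * γ⁻¹ ∈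
        Subgroup.centralizer ({t} : Set G) := by
      intro i b
      rw [Subgroup.mem_centralizer_singleton_iff]
      have e2 : ((el z g ((xi i) ^^^ (if b then 256 else 0)) : Cn t) : G) * (γ⁻¹ * t * γ) =
          (γ⁻¹ * t * γ) * ((el z g ((xi i) ^^^ (if b then 256 else 0)) : Cn t) : G) := by
        rw [← hve']
        exact congrArg Subtype.val (hcomm i b)
      calc γ * ((el z g ((xi i) ^^^ (if b then 256 else 0)) : Cn t) : G) * γ⁻¹ * t
          = γ * (((el z g ((xi i) ^^^ (if b then 256 else 0)) : Cn t) : G) * (γ⁻¹ * t * γ)) * γ⁻¹ := by group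
        _ = t * (γ * ((el z g ((xi i) ^^^ (if b then 256 else 0)) : Cn t) : G) * γ⁻¹) := by
            rw [e2]; group
    let f : Bool × Fin 128 → R := fun p => ⟨⟨_, hmem p.2 p.1⟩, (hR _).mpr (by
      show γ⁻¹ * (γ * ((el z g _ : Cn t) : G) * γ⁻¹) * γ ∈ Q'
      rw [show γ⁻¹ * (γ * ((el z g ((xi p.2) ^^^ (if p.1 then 256 else 0)) : Cn t) : G) * γ⁻¹) * γ =
        ((el z g ((xi p.2) ^^^ (if p.1 then 256 else 0)) : Cn t) : G) by group]
      exact ⟨_, hC.el_mem _, rfl⟩)⟩
    have hf : Function.Injective f := by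
      rintro ⟨b, i⟩ ⟨b', i'⟩ e2
      have e3 := congrArg (fun r : R => γ⁻¹ * ((r : Subgroup.centralizer ({t} : Set G)) : G) * γ) e2
      simp only [f] at e3
      have e4 : el z g ((xi i) ^^^ (if b then 256 else 0)) =
          el z g ((xi i') ^^^ (if b' then 256 else 0)) := Subtype.ext (by simpa [mul_assoc] using e3)
      have e5 := hC.el_inj _ (xor_lt (k := 9) ((hlm i).1.trans (by norm_num)) (by cases b <;> norm_num)) _
        (xor_lt (k := 9) ((hlm i').1.trans (by norm_num)) (by cases b' <;> norm_num)) e4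
      have e6 := congrArg (· &&& 255) e5
      have e7 := congrArg (fun x => x.testBit 8) e5
      simp only [Nat.and_xor_distrib_right, and_255_of_lt (hlm i).1, and_255_of_lt (hlm i').1] at e6
      simp only [Nat.testBit_xor, Nat.testBit_lt_two_pow (show _ < 2 ^ 8 from (hlm i).1),
        Nat.testBit_lt_two_pow (show _ < 2 ^ 8 from (hlm i').1)] at e7
      have hb : b = b' := by
        cases b <;> cases b' <;> simp_all [show Nat.testBit 256 8 = true from rfl]
      subst hb
      have e8 : (xi i) = (xi i') := by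
        cases b <;> simpa using e6
      have hnd : l.Nodup := List.Nodup.filter _ List.nodup_range
      rw [hxi, hxi, List.getD_eq_getElem _ _ (show i.val < l.length by omega),
        List.getD_eq_getElem _ _ (show i'.val < l.length by omega)] at e8
      exact Prod.ext rfl (Fin.ext ((hnd.getElem_inj_iff).mp e8))
    have := Nat.card_le_card_of_injective f hf
    simpa using this
  · intro a ha b hb haQ hbQ
    have ha' := (hR a).mp ha
    have hb' := (hR b).mp hb
    have hm : ∀ c : Subgroup.centralizer ({t} : Set G), c ∈ Q → (c : G) ∈ Q' := fun c hc => ⟨c, hc, rfl⟩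
    have wne : (w : G) ≠ 1 := fun e => h.t_ne (by
      rw [e] at hγ
      calc t = γ⁻¹ * (γ * t * γ⁻¹) * γ := by group
        _ = 1 := by rw [hγ]; group)
    constructor
    · apply Subtype.ext
      rcases s.comm_cases (hm a haQ) (hm b hbQ) with e1 | e1
      · exact mul_inv_eq_iff_eq_mul.mp e1
      · exfalso
        rcases s.comm_cases ha' hb' with e2 | e2
        · apply h.t_ne
          have e3 : (a : G) * b * (a : G)⁻¹ = b := by
            calc (a : G) * b * (a : G)⁻¹ = γ * ((γ⁻¹ * a * γ) * (γ⁻¹ * b * γ) * (γ⁻¹ * a * γ)⁻¹) * γ⁻¹ := by group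
              _ = b := by rw [e2]; group
          exact mul_eq_right.mp (e1.symm.trans e3)
        · apply hwt
          have e3 : (a : G) * b * (a : G)⁻¹ = (w : G) * b := by
            calc (a : G) * b * (a : G)⁻¹ = γ * ((γ⁻¹ * a * γ) * (γ⁻¹ * b * γ) * (γ⁻¹ * a * γ)⁻¹) * γ⁻¹ := by group
              _ = (w : G) * b := by rw [e2, ← hγ]; group
          exact mul_right_cancel (e3.symm.trans e1)
    · apply Subtype.ext
      show (a : G) * a = 1
      rcases s.sq_cases (hm a haQ) with e1 | e1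
      · exact e1
      · exfalso
        have e3 : (a : G) * a = γ * ((γ⁻¹ * a * γ) * (γ⁻¹ * a * γ)) * γ⁻¹ := by group
        rcases s.sq_cases ha' with e2 | e2 <;> rw [e2] at e3
        · exact h.t_ne (e1.symm.trans (e3.trans (by group)))
        · exact hwt (hγ.symm.trans (e3.symm.trans e1))
  · intro a ha b hb
    have ha' := (hR a).mp ha
    have hb' := (hR b).mp hb
    have hπ : π (a * b * a⁻¹ * b⁻¹) = 1 := by
      rcases s.comm_cases ha' hb' with e2 | e2
      · have e3 : a * b * a⁻¹ * b⁻¹ = 1 := Subtype.ext (by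
          show (a : G) * b * (a : G)⁻¹ * (b : G)⁻¹ = 1
          calc (a : G) * b * (a : G)⁻¹ * (b : G)⁻¹
              = γ * ((γ⁻¹ * a * γ) * (γ⁻¹ * b * γ) * (γ⁻¹ * a * γ)⁻¹) * γ⁻¹ * (b : G)⁻¹ := by group
            _ = 1 := by rw [e2]; group)
        rw [e3, map_one]
      · have e3 : a * b * a⁻¹ * b⁻¹ = w := Subtype.ext (by
          show (a : G) * b * (a : G)⁻¹ * (b : G)⁻¹ = w
          calc (a : G) * b * (a : G)⁻¹ * (b : G)⁻¹
              = γ * ((γ⁻¹ * a * γ) * (γ⁻¹ * b * γ) * (γ⁻¹ * a * γ)⁻¹) * γ⁻¹ * (b : G)⁻¹ := by group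
            _ = (w : G) := by rw [e2, ← hγ]; group)
        rw [e3]; exact (h.fr.mem_iff w).mp hw
    rw [map_mul, map_mul, map_mul, map_inv, map_inv, mul_inv_eq_one, mul_inv_eq_iff_eq_mul] at hπ
    rw [map_mul, map_mul, hπ]

omit h in
/-- A subgroup with commutative image and small intersection with the kernel is small. -/
theorem card_le_of_image {C : Type*} [Group C] [Finite C] (π : C →* ↥(alternatingGroup (Fin 9))) (R : Subgroup C)
    (hR : ∀ a ∈ R, ∀ b ∈ R, π (a * b) = π (b * a)) :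
    Nat.card R ≤ 27 * Nat.card ↥(π.ker ⊓ R) := by
  have hker : Nat.card (π.comp R.subtype).ker = Nat.card ↥(π.ker ⊓ R) :=
    Nat.card_congr
      { toFun := fun x => ⟨(x.1 : C), x.2, x.1.2⟩
        invFun := fun x => ⟨⟨x.1, x.2.2⟩, x.2.1⟩
        left_inv := fun x => rfl
        right_inv := fun x => rfl }
  rw [(π.comp R.subtype).ker.card_eq_card_quotient_mul_card_subgroup, hker,
    Nat.card_congr (QuotientGroup.quotientKerEquivRange (π.comp R.subtype)).toEquiv]
  refine Nat.mul_le_mul_right _ (card_abelian_le _ ?_)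
  rintro _ ⟨a, rfl⟩ _ ⟨b, rfl⟩
  rw [← map_mul, ← map_mul]
  exact hR a a.2 b b.2

end Ctx

end CfsgLib.ThType
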