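import Cfsg.Agent.Lib.ThType.Setup
import Cfsg.Agent.Lib.Perm.AbelianOrderBound

/-!
The alternating group of degree nine: words in seven generators, involutions, abelian subgroups.
-/

set_option autoImplicit false
set_option linter.style.haveILetI false
set_option Elab.async false

open Equiv

namespace CfsgLib.ThType

/-- a word in the seven generators, the leftmost applied last -/
def g7Word : List ℕ → ↥(alternatingGroup (Fin 9))
  | [] => 1
  | k :: w => g7 ⟨k % 7, Nat.mod_lt _ (by norm_num)⟩ * g7Word w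

/-- the same as a permutation -/
def p7Word : List ℕ → Perm (Fin 9)
  | [] => 1
  | k :: w => gen7 false ⟨k % 7, Nat.mod_lt _ (by norm_num)⟩ * p7Word w

theorem g7Word_coe : ∀ w : List ℕ, (g7Word w : Perm (Fin 9)) = p7Word w
  | [] => rfl
  | k :: w => by
    show (g7 _ * g7Word w : ↥(alternatingGroup (Fin 9))).1 = _
    rw [Subgroup.coe_mul, g7Word_coe w, g7, alt_of_mem (gen7_even _ _)]
    rfl

theorem g7Word_single (k : Fin 7) : g7Word [k] = g7 k := by
  simp [g7Word, Nat.mod_eq_of_lt k.2]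

/-- the identification of the points -/
def pts : Bool ⊕ Fin 7 ≃ Fin 9 where
  toFun x := match x with
    | Sum.inl false => 0
    | Sum.inl true => 1
    | Sum.inr k => ⟨k + 2, by omega⟩
  invFun i := if h : i.val < 2 then Sum.inl (decide (i.val = 1)) else Sum.inr ⟨i.val - 2, by omega⟩
  left_inv := by decide +kernel
  right_inv := by decide +kernel

theorem pts_cyc : ∀ k : Fin 7, ∀ x : Fin 9,
    pts (CfsgLib.AltPres.cyc3 k (pts.symm x)) = gen7 false k x := by
  decide +kernel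

theorem closure_g7 : Subgroup.closure (Set.range g7) = ⊤ := by
  let φ : ↥(alternatingGroup (Bool ⊕ Fin 7)) ≃* ↥(alternatingGroup (Fin 9)) := Equiv.altCongrHom pts
  have hr : Set.range g7 = φ.toMonoidHom '' Set.range (CfsgLib.AltPres.cycA (Ω := Fin 7)) := by
    rw [← Set.range_comp]
    refine congrArg Set.range (funext fun k => Subtype.ext (Equiv.ext fun x => ?_))
    rw [g7, alt_of_mem (gen7_even _ _)]
    exact (pts_cyc k x).symm
  rw [hr, ← MonoidHom.map_closure, CfsgLib.AltPres.closure_cycA,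
    Subgroup.map_top_of_surjective _ φ.surjective]

/-- the representative of the involutions moving four points -/
def w2 : List ℕ := [0, 1]

/-- the double transposition of four further points -/
def wb : List ℕ := [3, 2, 4, 5, 3, 2]

/-- the representative of the involutions moving eight points -/
def w4 : List ℕ := [0, 1] ++ [3, 2, 4, 5, 3, 2]

theorem reps_eq : (∀ x : Fin 9, p7Word w2 (p7Word w2 x) = x) ∧ (∀ x : Fin 9, p7Word w4 (p7Word w4 x) = x) ∧
    (∀ x : Fin 9, p7Word w2 (swap (0 : Fin 9) 2 x) = swap (0 : Fin 9) 2 (p7Word w2 x)) ∧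
    (∀ x : Fin 9, p7Word w4 (swap (0 : Fin 9) 2 x) = swap (0 : Fin 9) 2 (p7Word w4 x)) ∧
    p7Word w2 0 ≠ 0 ∧ p7Word w4 0 ≠ 0 ∧ p7Word wb 4 ≠ 4 ∧ ∀ x : Fin 9, p7Word wb (p7Word wb x) = x := by
  decide +kernel

theorem invol_rep {σ : ↥(alternatingGroup (Fin 9))} (h2 : σ * σ = 1) (h1 : σ ≠ 1) :
    ∃ τ, τ * σ * τ⁻¹ = g7Word w2 ∨ τ * σ * τ⁻¹ = g7Word w4 := by
  obtain ⟨i2, i4, c2, c4, n2, n4, -, -⟩ := reps_eq
  have hσ : (σ : Perm (Fin 9)) ^ 2 = 1 := by rw [pow_two, ← Subgroup.coe_mul, h2]; rfl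
  have hct := Perm.cycleType_of_pow_prime_eq_one (p := 2) hσ
  have hsum : (σ : Perm (Fin 9)).cycleType.sum ≤ 9 := by
    rw [Perm.sum_cycleType]
    exact (Finset.card_le_univ _).trans_eq (by simp)
  have hsign := Perm.mem_alternatingGroup.mp σ.2
  rw [Perm.sign_of_cycleType, hct] at hsign
  rw [hct, Multiset.sum_replicate, smul_eq_mul] at hsum
  obtain ⟨n, hn⟩ : ∃ n, Multiset.card (σ : Perm (Fin 9)).cycleType = n := ⟨_, rfl⟩
  rw [hn] at hct hsum hsign
  rw [Multiset.sum_replicate, Multiset.card_replicate, smul_eq_mul] at hsign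
  have hn' : n = 2 ∨ n = 4 := by
    have : n ≤ 4 := by omega
    interval_cases n
    · exact absurd (Subtype.ext (Perm.cycleType_eq_zero.mp (by rw [hct]; rfl))) h1
    · exact absurd hsign (by decide)
    · exact Or.inl rfl
    · exact absurd hsign (by decide)
    · exact Or.inr rfl
  have key : ∀ w : List ℕ, (∀ x, p7Word w (p7Word w x) = x) →
      (∀ x, p7Word w (swap (0 : Fin 9) 2 x) = swap (0 : Fin 9) 2 (p7Word w x)) →
      (p7Word w).cycleType = Multiset.replicate n 2 → ∃ τ, τ * σ * τ⁻¹ = g7Word w := by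
    intro w _ hc hw
    obtain ⟨π, hπ⟩ := isConj_iff.mp (Perm.isConj_iff_cycleType_eq.mpr (hct.trans hw.symm))
    rcases Int.units_eq_one_or (Perm.sign π) with h | h
    · refine ⟨⟨π, Perm.mem_alternatingGroup.mpr h⟩, Subtype.ext ?_⟩
      rw [g7Word_coe]
      exact hπ
    · refine ⟨⟨swap 0 2 * π, Perm.mem_alternatingGroup.mpr (by
        rw [map_mul, h, Perm.sign_swap (by decide), Int.units_mul_self])⟩, Subtype.ext ?_⟩
      rw [g7Word_coe]
      show swap 0 2 * π * (σ : Perm (Fin 9)) * (swap 0 2 * π)⁻¹ = p7Word w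
      rw [show swap 0 2 * π * (σ : Perm (Fin 9)) * (swap 0 2 * π)⁻¹ =
        swap (0 : Fin 9) 2 * (π * (σ : Perm (Fin 9)) * π⁻¹) * (swap (0 : Fin 9) 2)⁻¹ by group, hπ, swap_inv]
      refine Equiv.ext fun x => ?_
      rw [Perm.mul_apply, Perm.mul_apply, hc, Equiv.swap_apply_self]
  have ct : ∀ w : List ℕ, (∀ x, p7Word w (p7Word w x) = x) → ∀ m : ℕ,
      (p7Word w).support.card = 2 * m → (p7Word w).cycleType = Multiset.replicate m 2 := by
    intro w hw m hm
    have e := Perm.cycleType_of_pow_prime_eq_one (p := 2) (σ := p7Word w)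
      (by rw [pow_two]; exact Equiv.ext hw)
    rw [e]
    congr 1
    have := Perm.sum_cycleType (p7Word w)
    rw [e, Multiset.sum_replicate, smul_eq_mul, hm] at this
    omega
  rcases hn' with rfl | rfl
  · obtain ⟨τ, hτ⟩ := key w2 i2 c2 (ct w2 i2 2 (by decide +kernel))
    exact ⟨τ, Or.inl hτ⟩
  · obtain ⟨τ, hτ⟩ := key w4 i4 c4 (ct w4 i4 4 (by decide +kernel))
    exact ⟨τ, Or.inr hτ⟩

theorem reps_ne_one : g7Word w2 ≠ 1 ∧ g7Word w4 ≠ 1 ∧ g7Word wb ≠ 1 := by
  obtain ⟨-, -, -, -, n2, n4, nb, -⟩ := reps_eq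
  refine ⟨fun h => n2 ?_, fun h => n4 ?_, fun h => nb ?_⟩
  · rw [← g7Word_coe, h]; rfl
  · rw [← g7Word_coe, h]; rfl
  · rw [← g7Word_coe, h]; rfl

theorem g7Word_sq (w : List ℕ) (h : ∀ x : Fin 9, p7Word w (p7Word w x) = x) : g7Word w * g7Word w = 1 := by
  apply Subtype.ext
  rw [Subgroup.coe_mul, g7Word_coe, Subgroup.coe_one]
  exact Equiv.ext h

theorem reps_sq : g7Word w2 * g7Word w2 = 1 ∧ g7Word w4 * g7Word w4 = 1 ∧ g7Word wb * g7Word wb = 1 := by
  obtain ⟨i2, i4, -, -, -, -, -, ib⟩ := reps_eq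
  exact ⟨g7Word_sq _ i2, g7Word_sq _ i4, g7Word_sq _ ib⟩

/-- An abelian subgroup has order at most `27`. -/
theorem card_abelian_le (H : Subgroup ↥(alternatingGroup (Fin 9)))
    (hc : ∀ a ∈ H, ∀ b ∈ H, a * b = b * a) : Nat.card H ≤ 27 := by
  have h := CfsgLib.PermAbelianBound.card_le_maxOrd 9 (α := Fin 9) (by simp)
    (H.map (alternatingGroup (Fin 9)).subtype) (by
      rintro _ ⟨a, ha, rfl⟩ _ ⟨b, hb, rfl⟩
      rw [← map_mul, ← map_mul, hc a ha b hb])
  rw [Subgroup.card_map_of_injective (Subgroup.subtype_injective _)] at h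
  exact h

end CfsgLib.ThType
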