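import Cfsg.Agent.Lib.ThType.Blocks

/-!
Bases adapted to the components and the matrices of the normalising elements.
-/

set_option autoImplicit false
set_option Elab.async false

open Equiv

namespace CfsgLib.ThType

theorem fin27_unit : ∀ j : Fin 3, ∀ l : Fin 27,
    (fin27 (add27 (3 ^ (j : ℕ)) l) = fin27 (add27 (fin27 (3 ^ (j : ℕ))) l)) ∧
    dig (fin27 (3 ^ (j : ℕ))) 0 = (if (j : ℕ) = 0 then 1 else 0) ∧
    dig (fin27 (3 ^ (j : ℕ))) 1 = (if (j : ℕ) = 1 then 1 else 0) ∧
    dig (fin27 (3 ^ (j : ℕ))) 2 = (if (j : ℕ) = 2 then 1 else 0) := by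
  decide +kernel

theorem code_shift : ∀ blk : Fin 4, (1 <<< (2 * (blk : ℕ)) = 2 ^ (2 * (blk : ℕ))) ∧
    (2 <<< (2 * (blk : ℕ)) = 2 ^ (2 * (blk : ℕ) + 1)) ∧
    (3 <<< (2 * (blk : ℕ)) = 2 ^ (2 * (blk : ℕ)) ^^^ 2 ^ (2 * (blk : ℕ) + 1)) := by
  decide +kernel

theorem bil_blocks : ∀ i j : Fin 8, ((i : ℕ) / 2 ≠ (j : ℕ) / 2 → bil (2 ^ (i : ℕ)) (2 ^ (j : ℕ)) = false) ∧
    ((i : ℕ) / 2 = (j : ℕ) / 2 → bil (2 ^ (i : ℕ)) (2 ^ (j : ℕ)) = decide (i ≠ j)) := by
  decide +kernel

theorem qdC_blocks : ∀ c : Bool, ∀ i : Fin 8, qdC c (2 ^ (i : ℕ)) = (decide ((i : ℕ) < 6) || c) := by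
  decide +kernel

theorem par_even : ∀ i : Fin 8, 2 * ((i : ℕ) / 2) + (i : ℕ) % 2 = i := by decide +kernel

variable {V : Type*} [CommGroup V]

/-- the vector of a basis adapted to blocks -/
def blkVec (A : ↥(alternatingGroup (Fin 9)) →* MulAut V) (spin : Bool) (e : ℕ → V) (i : ℕ) : V :=
  op (triA A) (mulTri (i % 2) (blkOp spin (i / 2))) (e (i / 2))

/-- a basis for the second module -/
def natVec (A : ↥(alternatingGroup (Fin 9)) →* MulAut V) (e : ℕ → V) (f f' : V) (i : ℕ) : V :=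
  if i < 6 then blkVec A false e i else if i = 6 then f else f'

namespace Mo

variable {q : V → Bool} {b : V → V → Bool} {A : ↥(alternatingGroup (Fin 9)) →* MulAut V} (h : Mo q b A)

include h

theorem op_unit (j : Fin 3) : op (triA A) (fin27 (3 ^ (j : ℕ))) = triA A j := by
  obtain ⟨-, e0, e1, e2⟩ := fin27_unit j 0
  rw [op, e0, e1, e2]
  fin_cases j <;> simp

theorem mem_op {j : Fin 14} {w : V} (hw : w ∈ h.comp j) (l : Fin 27) : op (triA A) l w ∈ h.comp j := by
  show act (triA A) (mask j) (op (triA A) l w) = op (triA A) l w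
  rw [h.tri.op_apply_of_mem hw, h.tri.act_act, funext (mask_shift j l)]

/-- the three nonidentity members of a block -/
theorem blk_facts {spin : Bool} {blk : Fin 4} (hblk : (blk : ℕ) < nBlk spin)
    (hc : Nat.card (h.comp (blkChar spin blk)) = 4) {e : V} (he : e ∈ h.comp (blkChar spin blk))
    (he1 : e ≠ 1) :
    b e (op (triA A) (blkOp spin blk) e) = true ∧ q e = true ∧ q (op (triA A) (blkOp spin blk) e) = true := by
  set l := blkOp spin blk
  have hf := h.mem_op he l
  have hmove := h.tri.op_move he l (blk_move spin blk hblk)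
  have h3 : ∀ x : V, op (triA A) l (op (triA A) l x) = op (triA A) (fin27 (add27 l l)) x := fun x => by
    rw [← h.tri.op_add]; rfl
  have hne : e ≠ op (triA A) l e := fun hh => by
    rw [← h3, ← hh, ← hh, ← mul_assoc, h.two, one_mul] at hmove
    exact he1 hmove
  have hf1 : op (triA A) l e ≠ 1 := fun hh => he1 ((op (triA A) l).injective (hh.trans (map_one _).symm))
  obtain ⟨-, hb⟩ := h.plane hc he hf he1 hf1 hne
  refine ⟨hb, ?_⟩
  have qf : q (op (triA A) l e) = q e := by rw [h.op_perm, h.inv]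
  have qf2 : q (op (triA A) (fin27 (add27 l l)) e) = q e := by rw [h.op_perm, h.inv]
  have e3 : op (triA A) (fin27 (add27 l l)) e = e * op (triA A) l e := by
    have := congrArg (fun x => e * op (triA A) l e * x) hmove
    simp only [mul_one] at this
    rw [← this, show e * op (triA A) l e * (e * (op (triA A) l e * op (triA A) (fin27 (add27 l l)) e)) =
      (e * e) * ((op (triA A) l e * op (triA A) l e) * op (triA A) (fin27 (add27 l l)) e) by
        simp only [mul_assoc, mul_left_comm], h.two, h.two, one_mul, one_mul]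
  rw [e3, h.q_mul, qf, hb] at qf2
  rw [qf]
  revert qf2
  cases q e <;> simp

/-- a triple acts on a block as a multiple of its triple -/
theorem op_blk {spin : Bool} {blk : Fin 4} (hblk : (blk : ℕ) < nBlk spin) {e : V}
    (he : e ∈ h.comp (blkChar spin blk)) (k : Fin 27) {bb : ℕ → V}
    (hb0 : bb (2 * (blk : ℕ)) = e) (hb1 : bb (2 * (blk : ℕ) + 1) = op (triA A) (blkOp spin blk) e)
    {c : Bool} (hb : Basis8 q b c bb) :
    op (triA A) k e = pv bb (blkCode spin blk k) 8 := by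
  set l := blkOp spin blk
  have e1 : op (triA A) k e = op (triA A) (mulTri (blkPow spin blk k) l) e := by
    rw [h.tri.op_apply_of_mem he, h.tri.op_apply_of_mem he, funext (blkPow_spec spin blk hblk k)]
  have hmove := h.tri.op_move he l (blk_move spin blk hblk)
  obtain ⟨s0, s1, s2⟩ := code_shift blk
  have hi : 2 * (blk : ℕ) + 1 < 8 := by omega
  rw [e1, blkCode]
  rcases (show blkPow spin blk k = 0 ∨ blkPow spin blk k = 1 ∨ blkPow spin blk k = 2 by
    unfold blkPow; split <;> [exact Or.inl rfl; skip]; split <;> simp) with hm | hm | hm <;> rw [hm]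
  · simp only [mulTri, List.getD_cons_zero]
    rw [s0, h.bb_eq hb (by omega), hb0, h.tri.op_zero]; rfl
  · simp only [mulTri, List.getD_cons_zero, List.getD_cons_succ]
    rw [s1, h.bb_eq hb hi, hb1]
  · simp only [mulTri, List.getD_cons_zero, List.getD_cons_succ]
    rw [s2, h.vec_xor bb _ _ 8, h.bb_eq hb (by omega), h.bb_eq hb hi, hb0, hb1]
    have := congrArg (fun x => e * op (triA A) l e * x) hmove
    simp only [mul_one] at this
    rw [← this, show e * op (triA A) l e * (e * (op (triA A) l e * op (triA A) (fin27 (add27 l l)) e)) =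
      (e * e) * ((op (triA A) l e * op (triA A) l e) * op (triA A) (fin27 (add27 l l)) e) by
        simp only [mul_assoc, mul_left_comm], h.two, h.two, one_mul, one_mul]

/-- the forms on the vectors of blocks -/
theorem blkVec_forms {spin : Bool} {e : ℕ → V} {n : ℕ} (hn : n ≤ nBlk spin) (hn4 : n ≤ 4)
    (hc : ∀ x : Fin 4, (x : ℕ) < n → Nat.card (h.comp (blkChar spin x)) = 4)
    (he : ∀ x : Fin 4, (x : ℕ) < n → e x ∈ h.comp (blkChar spin x) ∧ e x ≠ 1) (i j : Fin 8)
    (hi : (i : ℕ) / 2 < n) (hj : (j : ℕ) / 2 < n) :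
    q (blkVec A spin e i) = true ∧ b (blkVec A spin e i) (blkVec A spin e j) = bil (2 ^ (i : ℕ)) (2 ^ (j : ℕ)) ∧
      blkVec A spin e i ∈ h.comp (blkChar spin ((i : ℕ) / 2)) := by
  obtain ⟨hne, heq⟩ := bil_blocks i j
  have mem : ∀ k : Fin 8, (k : ℕ) / 2 < n → blkVec A spin e k ∈ h.comp (blkChar spin ((k : ℕ) / 2)) :=
    fun k hk => h.mem_op (he ⟨(k : ℕ) / 2, by omega⟩ hk).1 _
  have hval : ∀ k : Fin 8, (k : ℕ) / 2 < n →
      q (blkVec A spin e k) = true := fun k hk => by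
    rw [blkVec, h.op_perm, h.inv]
    exact (h.blk_facts (blk := ⟨(k : ℕ) / 2, by omega⟩) (lt_of_lt_of_le hk hn) (hc _ hk)
      (he ⟨(k : ℕ) / 2, by omega⟩ hk).1 (he ⟨(k : ℕ) / 2, by omega⟩ hk).2).2.1
  refine ⟨hval i hi, ?_, mem i hi⟩
  by_cases hij : (i : ℕ) / 2 = (j : ℕ) / 2
  · rw [heq hij]
    by_cases hij' : i = j
    · subst hij'; rw [h.b_self]; simp
    · rw [decide_eq_true hij']
      obtain ⟨hb, -⟩ := h.blk_facts (blk := ⟨(i : ℕ) / 2, by omega⟩) (lt_of_lt_of_le hi hn) (hc _ hi)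
        (he ⟨(i : ℕ) / 2, by omega⟩ hi).1 (he ⟨(i : ℕ) / 2, by omega⟩ hi).2
      have hz : op (triA A) (mulTri 0 (blkOp spin ((i : ℕ) / 2))) (e ((i : ℕ) / 2)) = e ((i : ℕ) / 2) := by
        simp only [mulTri]
        rw [h.tri.op_zero]; rfl
      rcases Nat.mod_two_eq_zero_or_one (i : ℕ) with hi2 | hi2
      · have hj2 : (j : ℕ) % 2 = 1 := by omega
        rw [blkVec, blkVec, hi2, hj2, ← hij, hz]
        exact hb
      · have hj2 : (j : ℕ) % 2 = 0 := by omega
        rw [blkVec, blkVec, hi2, hj2, ← hij, hz, h.b_comm]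
        exact hb
  · rw [hne hij]
    exact h.orth_comp (fun hh => blkChar_inj spin ⟨(i : ℕ) / 2, by omega⟩ (lt_of_lt_of_le hi hn)
      ⟨(j : ℕ) / 2, by omega⟩ (lt_of_lt_of_le hj hn) (fun e' => hij (congrArg Fin.val e')) hh) (mem i hi) (mem j hj)

theorem matOf_eq {bb : ℕ → V} {c : Bool} (hb : Basis8 q b c bb) {n : MulAut V} {M : List ℕ}
    (hl : M.length = 8) (hlt : ∀ i < 8, M.getD i 0 < 256) (hM : ∀ i < 8, n (bb i) = pv bb (M.getD i 0) 8) :
    matOf bb n = M := by
  refine List.ext_getElem (by simp [matOf, hl]) fun i h1 h2 => ?_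
  have hi : i < 8 := hl ▸ h2
  have := h.matOf_getD hb n hi
  rw [hM i hi, h.cod_pv hb (hlt i hi)] at this
  simpa [List.getD_eq_getElem?_getD, List.getElem?_eq_getElem h1, List.getElem?_eq_getElem h2] using this

end Mo

end CfsgLib.ThType
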