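import Cfsg.Agent.Lib.ThType.Form
import Cfsg.Agent.Lib.ThType.Data

/-!
The possible images of the fourth generator in the two modules.
-/

set_option autoImplicit false
set_option Elab.async false

namespace CfsgLib.ThType

/-- the quadratic form, the type of the last plane as a parameter -/
def qdC (c : Bool) (v : ℕ) : Bool := xor (qd v) (!c && par8 (v &&& 192))

/-- equality of lists, by Boolean comparisons -/
def eqL : List ℕ → List ℕ → Bool
  | [], [] => true
  | a :: l, b :: m => Nat.beq a b && eqL l m
  | _, _ => false

/-- the composite along a word in four maps, the leftmost applied last -/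
def linWord (M : List (List ℕ)) : List ℕ → List ℕ
  | [] => autId
  | k :: w => linComp (M.getD k autId) (linWord M w)

/-- the conditions on the fourth generator -/
def good4 (c : Bool) (X T : List (List ℕ)) (y : List ℕ) : Bool :=
  (List.range 8).all (fun i => decide (y.getD i 0 < 256) && (qdC c (y.getD i 0) == qdC c (2 ^ i))) &&
  (List.range 8).all (fun i => (List.range i).all fun j =>
    bil (y.getD i 0) (y.getD j 0) == bil (2 ^ i) (2 ^ j)) &&
  T.all (fun t => eqL (linComp t y) (linComp y t)) &&
  !(eqL y autId) && eqL (linComp y (linComp y y)) autId &&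
  X.all (fun x => let m := linComp x y; eqL (linComp m (linComp (linComp m m) (linComp m m))) autId) &&
  (let M := X ++ [y];
    eqL (linWord M [1, 3, 3, 0, 3]) (linWord M [3, 3, 0, 3, 1]) &&
    eqL (linWord M [2, 3, 3, 1, 3]) (linWord M [3, 3, 1, 3, 2]))

/-- the domain of a column -/
def domAt (c : Bool) (T : List (List ℕ)) (i : ℕ) : List ℕ :=
  (List.range 256).filter fun v =>
    (qdC c v == qdC c (2 ^ i)) &&
    T.all (fun t => !(Nat.beq (linV t (2 ^ i)) (2 ^ i)) || Nat.beq (linV t v) v)

/-- the choices for the image of the `i`-th generator -/
def colsAt (T : List (List ℕ)) (D : List (List ℕ)) (cols : List ℕ) : List ℕ :=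
  let i := cols.length
  (D.getD i []).filter fun v =>
    (List.range i).all (fun j => bil v (cols.getD j 0) == bil (2 ^ i) (2 ^ j)) &&
    T.all (fun t => (List.range (i + 1)).all fun j =>
      !(Nat.blt (linV t (2 ^ j)) (2 ^ (i + 1))) ||
        Nat.beq (linV (cols ++ [v]) (linV t (2 ^ j))) (linV t ((cols ++ [v]).getD j 0)))

/-- the extensions of the first columns -/
def extend (T : List (List ℕ)) (D : List (List ℕ)) : ℕ → List (List ℕ)
  | 0 => [[]]
  | n + 1 => (extend T D n).flatMap fun cols => (colsAt T D cols).map fun v => cols ++ [v]

/-- the columns determined by the first two in the first module -/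
def spinCols (u v : ℕ) : List ℕ :=
  let t := spinT.getD 0 []
  let s := spinT.getD 1 []
  [u, v, linV t u, linV t v ^^^ linV t u, linV s u, linV s v ^^^ linV s u,
    linV t (linV s u), linV t (linV s v) ^^^ linV t (linV s u)]

/-- the search in the first module -/
def spinSearch : Bool :=
  ((List.range 256).filter qd).all fun u => ((List.range 256).filter fun v => qd v && bil u v).all fun v =>
    !(good4 true spinX spinT (spinCols u v)) || spinSols.any (eqL (spinCols u v))

/-- the involutions on the fixed part of the second module -/
def natTs (fa fb : Bool) : List (List ℕ) :=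
  [if fa then (natT.getD 0 []).take 6 ++ [128, 64] else natT.getD 0 [],
    if fb then (natT.getD 1 []).take 6 ++ [128, 64] else natT.getD 1 []]

/-- the index of a case of the second search -/
def caseIx (c fa fb : Bool) : ℕ :=
  (if c then 4 else 0) + (if fa then 2 else 0) + (if fb then 1 else 0)

/-- the search in the second module -/
def natSearch (c fa fb : Bool) : Bool :=
  (extend (natTs fa fb) (natDom.getD (caseIx c fa fb) []) 8).all fun y =>
    !(good4 c natX (natTs fa fb) y) || (c && !fa && !fb && natSols.any (eqL y))

theorem natDom_ok : ∀ c fa fb : Bool, ∀ i : Fin 8,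
    eqL (domAt c (natTs fa fb) i) ((natDom.getD (caseIx c fa fb) []).getD i []) = true := by
  decide +kernel

end CfsgLib.ThType
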