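import Mathlib

/-!
Three commuting automorphisms of order three of a group of exponent two: the decomposition along
the characters of the group of order `27` that they generate.
-/

set_option autoImplicit false
set_option Elab.async false

namespace CfsgLib.ThType

/-- the indices `0 ≤ k < 27` as triples modulo three -/
def dig (k i : ℕ) : ℕ := k / 3 ^ i % 3

/-- the sum of two triples -/
def add27 (k l : ℕ) : ℕ :=
  (dig k 0 + dig l 0) % 3 + 3 * ((dig k 1 + dig l 1) % 3) + 9 * ((dig k 2 + dig l 2) % 3)

/-- the negative of a triple -/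
def neg27 (k : ℕ) : ℕ :=
  (3 - dig k 0) % 3 + 3 * ((3 - dig k 1) % 3) + 9 * ((3 - dig k 2) % 3)

/-- The fourteen characters up to sign: the trivial one, three of weight one, six of weight two
and four of weight three. -/
def chars : List (List ℕ) := [[0, 0, 0], [1, 0, 0], [0, 1, 0], [0, 0, 1], [1, 1, 0], [1, 2, 0],
  [1, 0, 1], [1, 0, 2], [0, 1, 1], [0, 1, 2], [1, 1, 1], [1, 1, 2], [1, 2, 1], [2, 1, 1]]

/-- the idempotent of a character, as a set of triples -/
def mask (j : Fin 14) (k : Fin 27) : Bool :=
  let c := chars.getD j [0, 0, 0]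
  decide (j.val = 0) || decide ((c.getD 0 0 * dig k 0 + c.getD 1 0 * dig k 1 + c.getD 2 0 * dig k 2) % 3 ≠ 0)

/-- the triple of a number -/
def fin27 (k : ℕ) : Fin 27 := ⟨k % 27, Nat.mod_lt _ (by norm_num)⟩

/-- translation of a set -/
def shiftM (l : Fin 27) (f : Fin 27 → Bool) (k : Fin 27) : Bool := f (fin27 (add27 k (neg27 l)))

/-- the product in the group algebra over the field of two elements -/
def convM (f g : Fin 27 → Bool) (k : Fin 27) : Bool :=
  (List.finRange 27).foldr (fun l s => xor (f l && g (fin27 (add27 k (neg27 l)))) s) false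

/-- the one element set of zero -/
def deltaM (k : Fin 27) : Bool := decide (k.val = 0)

theorem mask_orth_0 : ∀ j : Fin 14, ∀ k : Fin 27,
    convM (mask 0) (mask j) k = (decide (((0) : Fin 14) = j) && mask 0 k) := by
  decide +kernel

theorem mask_orth_1 : ∀ j : Fin 14, ∀ k : Fin 27,
    convM (mask 1) (mask j) k = (decide (((1) : Fin 14) = j) && mask 1 k) := by
  decide +kernel

theorem mask_orth_2 : ∀ j : Fin 14, ∀ k : Fin 27,
    convM (mask 2) (mask j) k = (decide (((2) : Fin 14) = j) && mask 2 k) := by
  decide +kernel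

theorem mask_orth_3 : ∀ j : Fin 14, ∀ k : Fin 27,
    convM (mask 3) (mask j) k = (decide (((3) : Fin 14) = j) && mask 3 k) := by
  decide +kernel

theorem mask_orth_4 : ∀ j : Fin 14, ∀ k : Fin 27,
    convM (mask 4) (mask j) k = (decide (((4) : Fin 14) = j) && mask 4 k) := by
  decide +kernel

theorem mask_orth_5 : ∀ j : Fin 14, ∀ k : Fin 27,
    convM (mask 5) (mask j) k = (decide (((5) : Fin 14) = j) && mask 5 k) := by
  decide +kernel

theorem mask_orth_6 : ∀ j : Fin 14, ∀ k : Fin 27,
    convM (mask 6) (mask j) k = (decide (((6) : Fin 14) = j) && mask 6 k) := by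
  decide +kernel

theorem mask_orth_7 : ∀ j : Fin 14, ∀ k : Fin 27,
    convM (mask 7) (mask j) k = (decide (((7) : Fin 14) = j) && mask 7 k) := by
  decide +kernel

theorem mask_orth_8 : ∀ j : Fin 14, ∀ k : Fin 27,
    convM (mask 8) (mask j) k = (decide (((8) : Fin 14) = j) && mask 8 k) := by
  decide +kernel

theorem mask_orth_9 : ∀ j : Fin 14, ∀ k : Fin 27,
    convM (mask 9) (mask j) k = (decide (((9) : Fin 14) = j) && mask 9 k) := by
  decide +kernel

theorem mask_orth_10 : ∀ j : Fin 14, ∀ k : Fin 27,
    convM (mask 10) (mask j) k = (decide (((10) : Fin 14) = j) && mask 10 k) := by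
  decide +kernel

theorem mask_orth_11 : ∀ j : Fin 14, ∀ k : Fin 27,
    convM (mask 11) (mask j) k = (decide (((11) : Fin 14) = j) && mask 11 k) := by
  decide +kernel

theorem mask_orth_12 : ∀ j : Fin 14, ∀ k : Fin 27,
    convM (mask 12) (mask j) k = (decide (((12) : Fin 14) = j) && mask 12 k) := by
  decide +kernel

theorem mask_orth_13 : ∀ j : Fin 14, ∀ k : Fin 27,
    convM (mask 13) (mask j) k = (decide (((13) : Fin 14) = j) && mask 13 k) := by
  decide +kernel

theorem mask_orth : ∀ i j : Fin 14, ∀ k : Fin 27,
    convM (mask i) (mask j) k = (decide (i = j) && mask i k) := by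
  intro i
  fin_cases i
  exacts [mask_orth_0, mask_orth_1, mask_orth_2, mask_orth_3, mask_orth_4, mask_orth_5, mask_orth_6, mask_orth_7, mask_orth_8, mask_orth_9, mask_orth_10, mask_orth_11, mask_orth_12, mask_orth_13]

theorem mask_sum : ∀ k : Fin 27,
    (List.finRange 14).foldr (fun j s => xor (mask j k) s) false = deltaM k := by
  decide +kernel

theorem mask_shift_0 : ∀ l k : Fin 27,
    convM (mask 0) (shiftM l (mask 0)) k = shiftM l (mask 0) k := by
  decide +kernel

theorem mask_shift_1 : ∀ l k : Fin 27,
    convM (mask 1) (shiftM l (mask 1)) k = shiftM l (mask 1) k := by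
  decide +kernel

theorem mask_shift_2 : ∀ l k : Fin 27,
    convM (mask 2) (shiftM l (mask 2)) k = shiftM l (mask 2) k := by
  decide +kernel

theorem mask_shift_3 : ∀ l k : Fin 27,
    convM (mask 3) (shiftM l (mask 3)) k = shiftM l (mask 3) k := by
  decide +kernel

theorem mask_shift_4 : ∀ l k : Fin 27,
    convM (mask 4) (shiftM l (mask 4)) k = shiftM l (mask 4) k := by
  decide +kernel

theorem mask_shift_5 : ∀ l k : Fin 27,
    convM (mask 5) (shiftM l (mask 5)) k = shiftM l (mask 5) k := by
  decide +kernel

theorem mask_shift_6 : ∀ l k : Fin 27,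
    convM (mask 6) (shiftM l (mask 6)) k = shiftM l (mask 6) k := by
  decide +kernel

theorem mask_shift_7 : ∀ l k : Fin 27,
    convM (mask 7) (shiftM l (mask 7)) k = shiftM l (mask 7) k := by
  decide +kernel

theorem mask_shift_8 : ∀ l k : Fin 27,
    convM (mask 8) (shiftM l (mask 8)) k = shiftM l (mask 8) k := by
  decide +kernel

theorem mask_shift_9 : ∀ l k : Fin 27,
    convM (mask 9) (shiftM l (mask 9)) k = shiftM l (mask 9) k := by
  decide +kernel

theorem mask_shift_10 : ∀ l k : Fin 27,
    convM (mask 10) (shiftM l (mask 10)) k = shiftM l (mask 10) k := by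
  decide +kernel

theorem mask_shift_11 : ∀ l k : Fin 27,
    convM (mask 11) (shiftM l (mask 11)) k = shiftM l (mask 11) k := by
  decide +kernel

theorem mask_shift_12 : ∀ l k : Fin 27,
    convM (mask 12) (shiftM l (mask 12)) k = shiftM l (mask 12) k := by
  decide +kernel

theorem mask_shift_13 : ∀ l k : Fin 27,
    convM (mask 13) (shiftM l (mask 13)) k = shiftM l (mask 13) k := by
  decide +kernel

theorem mask_shift : ∀ j : Fin 14, ∀ l k : Fin 27,
    convM (mask j) (shiftM l (mask j)) k = shiftM l (mask j) k := by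
  intro j
  fin_cases j
  exacts [mask_shift_0, mask_shift_1, mask_shift_2, mask_shift_3, mask_shift_4, mask_shift_5, mask_shift_6, mask_shift_7, mask_shift_8, mask_shift_9, mask_shift_10, mask_shift_11, mask_shift_12, mask_shift_13]

theorem triple_zero : ∀ l : Fin 27, fin27 (add27 (fin27 (add27 l l)) l) = 0 := by
  decide +kernel

theorem triple_zero' : ∀ l : Fin 27, fin27 (add27 l (fin27 (add27 l l))) = 0 := by
  decide +kernel

theorem add_neg_self : ∀ k : Fin 27, fin27 (add27 k (fin27 (neg27 k))) = 0 := by
  decide +kernel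

theorem neg_neg27 : ∀ k : Fin 27, fin27 (neg27 (fin27 (neg27 k))) = k := by
  decide +kernel

theorem mask_neg : ∀ j : Fin 14, ∀ k : Fin 27, mask j (fin27 (neg27 k)) = mask j k := by
  decide +kernel

variable {V : Type*} [CommGroup V]

/-- a power with exponent given by a digit -/
def opPow (a : MulAut V) : ℕ → MulAut V
  | 0 => 1
  | n + 1 => a * opPow a n

/-- the automorphism of a triple -/
def op (a : Fin 3 → MulAut V) (k : Fin 27) : MulAut V :=
  a 0 ^ dig k 0 * a 1 ^ dig k 1 * a 2 ^ dig k 2

/-- the action of a set of triples -/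
def act (a : Fin 3 → MulAut V) (f : Fin 27 → Bool) (v : V) : V :=
  ∏ k : Fin 27, if f k then op a k v else 1

/-- Commuting automorphisms of order dividing three of a group of exponent two. -/
structure Tri (a : Fin 3 → MulAut V) : Prop where
  two : ∀ v : V, v * v = 1
  cube : ∀ i, a i ^ 3 = 1
  comm : ∀ i j, a i * a j = a j * a i

namespace Tri

variable {a : Fin 3 → MulAut V} (h : Tri a)

include h

theorem pow_mod (i : Fin 3) (n : ℕ) : a i ^ (n % 3) = a i ^ n := by
  conv_rhs => rw [← Nat.mod_add_div n 3, pow_add, pow_mul, h.cube, one_pow, mul_one]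

theorem op_add (k l : Fin 27) : op a k * op a l = op a (fin27 (add27 k l)) := by
  have h0 : dig (fin27 (add27 k l)) 0 = (dig k 0 + dig l 0) % 3 := by
    revert k l; decide +kernel
  have h1 : dig (fin27 (add27 k l)) 1 = (dig k 1 + dig l 1) % 3 := by
    revert k l; decide +kernel
  have h2 : dig (fin27 (add27 k l)) 2 = (dig k 2 + dig l 2) % 3 := by
    revert k l; decide +kernel
  have c : ∀ i j : Fin 3, ∀ m n : ℕ, Commute (a i ^ m) (a j ^ n) := fun i j m n =>
    (show Commute (a i) (a j) from h.comm i j).pow_pow m n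
  rw [op, op, op, h0, h1, h2, h.pow_mod, h.pow_mod, h.pow_mod, pow_add, pow_add, pow_add]
  calc a 0 ^ dig k 0 * a 1 ^ dig k 1 * a 2 ^ dig k 2 * (a 0 ^ dig l 0 * a 1 ^ dig l 1 * a 2 ^ dig l 2)
      = a 0 ^ dig k 0 * (a 1 ^ dig k 1 * (a 2 ^ dig k 2 * a 0 ^ dig l 0)) * a 1 ^ dig l 1 * a 2 ^ dig l 2 := by
        simp only [mul_assoc]
    _ = a 0 ^ dig k 0 * (a 0 ^ dig l 0 * (a 1 ^ dig k 1 * a 2 ^ dig k 2)) * a 1 ^ dig l 1 * a 2 ^ dig l 2 := by
        rw [(c 2 0 _ _).eq, ← mul_assoc (a 1 ^ dig k 1), (c 1 0 _ _).eq]; simp only [mul_assoc]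
    _ = a 0 ^ dig k 0 * a 0 ^ dig l 0 * (a 1 ^ dig k 1 * (a 2 ^ dig k 2 * a 1 ^ dig l 1)) * a 2 ^ dig l 2 := by
        simp only [mul_assoc]
    _ = _ := by rw [(c 2 1 _ _).eq]; simp only [mul_assoc]

theorem op_zero : op a 0 = 1 := by
  simp [op, dig]

theorem if_xor (b c : Bool) (x : V) :
    (if xor b c then x else 1) = (if b then x else 1) * if c then x else 1 := by
  cases b <;> cases c <;> simp [h.two]

theorem act_xor (f g : Fin 27 → Bool) (v : V) :
    act a (fun k => xor (f k) (g k)) v = act a f v * act a g v := by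
  simp only [act, h.if_xor, Finset.prod_mul_distrib]

theorem act_false (v : V) : act a (fun _ => false) v = 1 := by simp [act]

theorem act_mul (f : Fin 27 → Bool) (v w : V) : act a f (v * w) = act a f v * act a f w := by
  simp only [act, ← Finset.prod_mul_distrib]
  refine Finset.prod_congr rfl fun k _ => ?_
  split <;> simp

theorem act_one (f : Fin 27 → Bool) : act a f (1 : V) = 1 := by simp [act]

theorem act_delta (v : V) : act a deltaM v = v := by
  rw [act, Finset.prod_eq_single (0 : Fin 27)]
  · simp [deltaM, h.op_zero]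
  · intro k _ hk
    rw [show deltaM k = false from decide_eq_false fun e => hk (Fin.ext e)]
    rfl
  · simp

theorem op_act (l : Fin 27) (f : Fin 27 → Bool) (v : V) :
    op a l (act a f v) = act a (shiftM l f) v := by
  simp only [act, map_prod]
  have hp : ∀ k : Fin 27, fin27 (add27 (fin27 (add27 l k)) (neg27 l)) = k := by
    revert l; decide +kernel
  have hq : ∀ k : Fin 27, fin27 (add27 l (fin27 (add27 k (neg27 l)))) = k := by
    revert l; decide +kernel
  refine Fintype.prod_bijective (fun k : Fin 27 => fin27 (add27 l k)) ⟨fun x y e => ?_, fun k => ⟨_, hq k⟩⟩ _ _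
    fun k => ?_
  · rw [← hp x, ← hp y]; simp only at e; rw [e]
  · rw [shiftM, hp k]
    split
    · rw [← h.op_add l k]; rfl
    · rw [map_one]

theorem act_fold {ι : Type*} (l : List ι) (F : ι → Fin 27 → Bool) (v : V) :
    act a (fun k => l.foldr (fun j s => xor (F j k) s) false) v = (l.map fun j => act a (F j) v).prod := by
  induction l with
  | nil => exact h.act_false v
  | cons j l ih => rw [List.map_cons, List.prod_cons, ← ih, ← h.act_xor]; rfl

theorem act_act (f g : Fin 27 → Bool) (v : V) : act a f (act a g v) = act a (convM f g) v := by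
  have key : ∀ l : Fin 27, (if f l then op a l (act a g v) else 1) =
      act a (fun k => f l && g (fin27 (add27 k (neg27 l)))) v := fun l => by
    cases f l
    · simp [h.act_false]
    · simp only [if_true, Bool.true_and]; exact h.op_act l g v
  conv_lhs => rw [act]
  simp only [key]
  rw [show (convM f g) = fun k : Fin 27 => (List.finRange 27).foldr
    (fun l s => xor (f l && g (fin27 (add27 k (neg27 l)))) s) false from rfl, h.act_fold,
    Fin.prod_univ_def]

/-- the component of a vector -/
theorem proj_idem (i j : Fin 14) (v : V) :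
    act a (mask i) (act a (mask j) v) = if i = j then act a (mask i) v else 1 := by
  rw [h.act_act, show convM (mask i) (mask j) = fun k => (decide (i = j) && mask i k) from
    funext (mask_orth i j)]
  by_cases e : i = j
  · simp only [e, decide_true, Bool.true_and, if_true]
  · simp only [e, decide_false, Bool.false_and, if_false, h.act_false]

theorem sum_proj (v : V) : ∏ j : Fin 14, act a (mask j) v = v := by
  conv_rhs => rw [← h.act_delta v, show deltaM = fun k => (List.finRange 14).foldr
    (fun j s => xor (mask j k) s) false from funext fun k => (mask_sum k).symm, h.act_fold]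
  rw [Fin.prod_univ_def]

/-- the component subgroups -/
def W (j : Fin 14) : Subgroup V where
  carrier := {v | act a (mask j) v = v}
  one_mem' := h.act_one _
  mul_mem' := fun {x y} hx hy => by
    simp only [Set.mem_setOf_eq] at hx hy ⊢
    rw [h.act_mul, hx, hy]
  inv_mem' := fun {x} hx => by
    simp only [Set.mem_setOf_eq] at hx ⊢
    rw [inv_eq_of_mul_eq_one_right (h.two x)]; exact hx

theorem proj_mem (j : Fin 14) (v : V) : act a (mask j) v ∈ h.W j := by
  show act a (mask j) (act a (mask j) v) = _
  rw [h.proj_idem, if_pos rfl]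

theorem proj_of_mem {i : Fin 14} (j : Fin 14) {w : V} (hw : w ∈ h.W i) :
    act a (mask j) w = if j = i then w else 1 := by
  conv_lhs => rw [← (show act a (mask i) w = w from hw)]
  rw [h.proj_idem]
  by_cases e : j = i
  · rw [if_pos e, if_pos e, e]; exact hw
  · rw [if_neg e, if_neg e]

/-- the group is the product of the components -/
theorem bijective_components :
    Function.Bijective (fun (v : V) (j : Fin 14) => (⟨act a (mask j) v, h.proj_mem j v⟩ : h.W j)) := by
  refine ⟨fun v w e => ?_, fun f => ⟨∏ j, (f j : V), funext fun j => Subtype.ext ?_⟩⟩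
  · rw [← h.sum_proj v, ← h.sum_proj w]
    exact Finset.prod_congr rfl fun j _ => congrArg Subtype.val (congrFun e j)
  · show act a (mask j) (∏ i, (f i : V)) = f j
    let φ : V →* V := ⟨⟨act a (mask j), h.act_one _⟩, h.act_mul _⟩
    show φ (∏ i, (f i : V)) = f j
    rw [map_prod]
    show ∏ i, act a (mask j) (f i : V) = f j
    rw [Finset.prod_eq_single j (fun i _ hi => by rw [h.proj_of_mem j (f i).2, if_neg (Ne.symm hi)])
      (by simp), h.proj_of_mem j (f j).2, if_pos rfl]

theorem card_eq [Finite V] : Nat.card V = ∏ j, Nat.card (h.W j) := by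
  rw [Nat.card_congr (Equiv.ofBijective _ h.bijective_components), Nat.card_pi]

theorem conj_act {n : MulAut V} {π : Fin 27 → Fin 27} (hπ : Function.Bijective π)
    (hn : ∀ k, n * op a k = op a (π k) * n) (f g : Fin 27 → Bool) (hfg : ∀ k, g (π k) = f k) (v : V) :
    n (act a f v) = act a g (n v) := by
  simp only [act, map_prod]
  refine Fintype.prod_bijective π hπ _ _ fun k => ?_
  rw [hfg]
  split
  · exact (DFunLike.congr_fun (hn k) v).trans rfl
  · exact map_one n

/-- an automorphism permuting the triples maps components to components -/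
theorem map_W {n : MulAut V} {π : Fin 27 → Fin 27} (hπ : Function.Bijective π)
    (hn : ∀ k, n * op a k = op a (π k) * n) {i j : Fin 14} (hij : ∀ k, mask j (π k) = mask i k) :
    Nat.card (h.W i) = Nat.card (h.W j) ∧ ∀ w ∈ h.W i, n w ∈ h.W j := by
  have h1 : ∀ w ∈ h.W i, n w ∈ h.W j := fun w hw => by
    show act a (mask j) (n w) = n w
    rw [← h.conj_act hπ hn (mask i) (mask j) hij, (show act a (mask i) w = w from hw)]
  refine ⟨Nat.card_eq_of_bijective (fun w => (⟨n w, h1 w w.2⟩ : h.W j))
    ⟨fun x y e => Subtype.ext (n.injective (congrArg Subtype.val e)), fun w => ?_⟩, h1⟩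
  refine ⟨⟨n.symm w, ?_⟩, Subtype.ext (n.apply_symm_apply _)⟩
  show act a (mask i) (n.symm w) = n.symm w
  apply n.injective
  rw [h.conj_act hπ hn (mask i) (mask j) hij, n.apply_symm_apply]
  exact w.2

/-- A triple moves every nontrivial vector of a component on which its character is nonzero. -/
theorem op_apply_of_mem {j : Fin 14} {w : V} (hw : w ∈ h.W j) (l : Fin 27) :
    op a l w = act a (shiftM l (mask j)) w := by
  conv_lhs => rw [← (show act a (mask j) w = w from hw)]
  rw [h.op_act]

theorem op_fix {j : Fin 14} {w : V} (hw : w ∈ h.W j) (l : Fin 27)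
    (hl : ∀ k, shiftM l (mask j) k = mask j k) : op a l w = w := by
  rw [h.op_apply_of_mem hw, funext hl]; exact hw

theorem op_move {j : Fin 14} {w : V} (hw : w ∈ h.W j) (l : Fin 27)
    (hl : ∀ k, xor (mask j k) (xor (shiftM l (mask j) k) (shiftM (fin27 (add27 l l)) (mask j) k)) = false) :
    w * (op a l w * op a (fin27 (add27 l l)) w) = 1 := by
  conv_lhs => arg 1; rw [← (show act a (mask j) w = w from hw)]
  rw [h.op_apply_of_mem hw, h.op_apply_of_mem hw, ← h.act_xor, ← h.act_xor, funext hl, h.act_false]

theorem four_le {j : Fin 14} [Finite V] {l : Fin 27} (hl : ∀ k,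
    xor (mask j k) (xor (shiftM l (mask j) k) (shiftM (fin27 (add27 l l)) (mask j) k)) = false)
    (hne : h.W j ≠ ⊥) : 4 ≤ Nat.card (h.W j) ∧ 3 ∣ Nat.card (h.W j) - 1 := by
  classical
  let σ : Equiv.Perm (h.W j) :=
    { toFun := fun w => ⟨op a l w, by
        show act a (mask j) (op a l w) = op a l w
        rw [h.op_apply_of_mem w.2, ← h.op_apply_of_mem w.2]
        conv_lhs => rw [h.op_apply_of_mem w.2, h.act_act]
        rw [h.op_apply_of_mem w.2]
        rw [funext (mask_shift j l)]⟩
      invFun := fun w => ⟨op a (fin27 (add27 l l)) w, by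
        show act a (mask j) (op a (fin27 (add27 l l)) w) = op a (fin27 (add27 l l)) w
        conv_lhs => rw [h.op_apply_of_mem w.2, h.act_act]
        rw [h.op_apply_of_mem w.2]
        rw [funext (mask_shift j (fin27 (add27 l l)))]⟩
      left_inv := fun w => Subtype.ext (by
        show (op a (fin27 (add27 l l)) * op a l) (w : V) = w
        rw [h.op_add, show fin27 (add27 (fin27 (add27 l l)) l) = 0 from triple_zero l, h.op_zero]
        rfl)
      right_inv := fun w => Subtype.ext (by
        show (op a l * op a (fin27 (add27 l l))) (w : V) = w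
        rw [h.op_add, show fin27 (add27 l (fin27 (add27 l l))) = 0 from triple_zero' l, h.op_zero]
        rfl) }
  have hfix : ∀ w, σ w = w → w = 1 := fun w e => by
    have e1 : op a l (w : V) = w := congrArg Subtype.val e
    have e2 : op a (fin27 (add27 l l)) (w : V) = w := by
      rw [← h.op_add]
      show op a l (op a l (w : V)) = w
      rw [e1, e1]
    have := h.op_move w.2 l hl
    rw [e1, e2, h.two, mul_one] at this
    exact Subtype.ext this
  haveI := Fintype.ofFinite (h.W j)
  let τ : Function.End (h.W j) := ⇑σ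
  have hf : τ ^ 3 ^ 1 = 1 := by
    funext w
    refine Subtype.ext ?_
    show op a l (op a l (op a l (w : V))) = w
    show (op a l * (op a l * op a l)) (w : V) = w
    rw [h.op_add, h.op_add, show fin27 (add27 l (fin27 (add27 l l))) = 0 from triple_zero' l, h.op_zero]
    rfl
  haveI : Fact (Nat.Prime 3) := ⟨Nat.prime_three⟩
  have hcnt := Equiv.Perm.card_fixedPoints_modEq (p := 3) (n := 1) hf
  have h1 : Fintype.card τ.fixedPoints = 1 :=
    Fintype.card_eq_one_iff.mpr ⟨⟨1, Subtype.ext (map_one (op a l))⟩, fun w => Subtype.ext (hfix w w.2)⟩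
  rw [h1, ← Nat.card_eq_fintype_card] at hcnt
  haveI := (Subgroup.nontrivial_iff_ne_bot _).mpr hne
  have h2 : 1 < Nat.card (h.W j) := Finite.one_lt_card
  have h3 : 3 ∣ Nat.card (h.W j) - 1 := (Nat.modEq_iff_dvd' h2.le).mp hcnt.symm
  exact ⟨by omega, h3⟩

/-- An adjoint pairing makes distinct components orthogonal. -/
theorem orth {B : V → V → Bool} (hmul : ∀ u v w, B u (v * w) = xor (B u v) (B u w))
    (hmul' : ∀ u v w, B (u * v) w = xor (B u w) (B v w))
    (hinv : ∀ i u v, B (a i u) (a i v) = B u v) {i j : Fin 14} (hij : i ≠ j) {u v : V}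
    (hu : u ∈ h.W i) (hv : v ∈ h.W j) : B u v = false := by
  have hop : ∀ k u v, B (op a k u) (op a k v) = B u v := by
    intro k u v
    have hp : ∀ (i : Fin 3) (n : ℕ) (u v : V), B ((a i ^ n) u) ((a i ^ n) v) = B u v := by
      intro i n
      induction n with
      | zero => intro u v; rfl
      | succ n ih => intro u v; rw [pow_succ, MulAut.mul_apply, MulAut.mul_apply, ih, hinv]
    simp only [op, MulAut.mul_apply, hp]
  have hone : ∀ u, B u 1 = false := fun u => by
    have := hmul u 1 1; rw [one_mul] at this; revert this; cases B u 1 <;> simp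
  have hone' : ∀ u, B 1 u = false := fun u => by
    have := hmul' 1 1 u; rw [one_mul] at this; revert this; cases B 1 u <;> simp
  have hadj : ∀ (f : Fin 27 → Bool) (u v : V),
      B (act a f u) v = B u (act a (fun k => f (fin27 (neg27 k))) v) := by
    intro f u v
    have e1 : ∀ l : List (Fin 27), B ((l.map fun k => if f k then op a k u else 1).prod) v =
        B u ((l.map fun k => if f k then op a (fin27 (neg27 k)) v else 1).prod) := by
      intro l
      induction l with
      | nil => simp [hone, hone']
      | cons k l ih =>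
        simp only [List.map_cons, List.prod_cons, hmul, hmul', ih]
        congr 1
        split
        · conv_rhs => rw [← hop k]
          congr 1
          show v = (op a k * op a (fin27 (neg27 k))) v
          rw [h.op_add, show fin27 (add27 k (fin27 (neg27 k))) = 0 from add_neg_self k, h.op_zero]
          rfl
        · rw [hone, hone']
    have h2 : act a f u = ((List.finRange 27).map fun k => if f k then op a k u else 1).prod :=
      Fin.prod_univ_def _
    have hnn : ∀ k : Fin 27, fin27 (neg27 (fin27 (neg27 k))) = k := neg_neg27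
    have h3 : act a (fun k => f (fin27 (neg27 k))) v =
        ((List.finRange 27).map fun k => if f k then op a (fin27 (neg27 k)) v else 1).prod := by
      rw [← Fin.prod_univ_def]
      refine Fintype.prod_bijective (fun k : Fin 27 => fin27 (neg27 k))
        ⟨fun x y e => by rw [← hnn x, ← hnn y]; exact congrArg (fun t : Fin 27 => fin27 (neg27 t)) e,
          fun k => ⟨_, hnn k⟩⟩ _ _ fun k => ?_
      simp [hnn]
    rw [h2, h3, e1]
  conv_lhs => rw [← (show act a (mask i) u = u from hu)]
  rw [hadj, funext (mask_neg i), h.proj_of_mem i hv, if_neg hij, hone]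

end Tri

end CfsgLib.ThType
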