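import Cfsg.Agent.Lib.ThType.Coords
import Cfsg.Agent.Lib.ThType.Split
import Cfsg.Agent.Lib.ThType.Search

/-!
Finite facts about the blocks of the decomposition in the two modules.
-/

set_option autoImplicit false
set_option Elab.async false

open Equiv

namespace CfsgLib.ThType

/-- the character of a block -/
def blkChar (spin : Bool) (blk : ℕ) : Fin 14 :=
  if spin then ([10, 11, 12, 13] : List (Fin 14)).getD blk 0 else ([1, 2, 3] : List (Fin 14)).getD blk 0

/-- the triple turning the first vector of a block into the second -/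
def blkOp (spin : Bool) (blk : ℕ) : Fin 27 :=
  if spin then ([1, 1, 1, 2] : List (Fin 27)).getD blk 0 else ([1, 3, 9] : List (Fin 27)).getD blk 0

/-- the multiples of a triple -/
def mulTri (m : ℕ) (l : Fin 27) : Fin 27 :=
  match m with
  | 0 => 0
  | 1 => l
  | _ => fin27 (add27 l l)

/-- the multiple of the triple of a block acting as a given triple -/
def blkPow (spin : Bool) (blk : ℕ) (k : Fin 27) : ℕ :=
  if (List.finRange 27).all (fun i => shiftM k (mask (blkChar spin blk)) i == mask (blkChar spin blk) i) then 0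
  else if (List.finRange 27).all
      (fun i => shiftM k (mask (blkChar spin blk)) i == shiftM (blkOp spin blk) (mask (blkChar spin blk)) i)
    then 1 else 2

/-- the code of the image of the first vector of a block -/
def blkCode (spin : Bool) (blk : ℕ) (k : Fin 27) : ℕ :=
  ([1, 2, 3].getD (blkPow spin blk k) 0) <<< (2 * blk)

/-- the number of blocks -/
def nBlk (spin : Bool) : ℕ := if spin then 4 else 3

theorem blkPow_spec : ∀ spin : Bool, ∀ blk : Fin 4, (blk : ℕ) < nBlk spin → ∀ k i : Fin 27,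
    shiftM k (mask (blkChar spin blk)) i =
      shiftM (mulTri (blkPow spin blk k) (blkOp spin blk)) (mask (blkChar spin blk)) i := by
  decide +kernel

theorem blk_move : ∀ spin : Bool, ∀ blk : Fin 4, (blk : ℕ) < nBlk spin → ∀ i : Fin 27,
    xor (mask (blkChar spin blk) i) (xor (shiftM (blkOp spin blk) (mask (blkChar spin blk)) i)
      (shiftM (fin27 (add27 (blkOp spin blk) (blkOp spin blk))) (mask (blkChar spin blk)) i)) = false := by
  decide +kernel

theorem blkChar_inj : ∀ spin : Bool, ∀ x : Fin 4, (x : ℕ) < nBlk spin → ∀ y : Fin 4, (y : ℕ) < nBlk spin →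
    x ≠ y → blkChar spin x ≠ blkChar spin y := by
  decide +kernel

/-- negation of digits in a set of positions -/
def flipTri (s : List ℕ) (k : Fin 27) : Fin 27 :=
  fin27 ((if s.contains 0 then (3 - dig k 0) % 3 else dig k 0) +
    3 * (if s.contains 1 then (3 - dig k 1) % 3 else dig k 1) +
    9 * (if s.contains 2 then (3 - dig k 2) % 3 else dig k 2))

/-- the positions negated by the two involutions -/
def flips (i : ℕ) : List ℕ := [[0, 1], [0, 2]].getD i []

/-- the image of a block under an involution in the first module -/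
def blkPerm (i blk : ℕ) : ℕ := ([[1, 0, 3, 2], [2, 3, 0, 1]].getD i []).getD blk 0

/-- the rotation of digits -/
def rotTri (k : Fin 27) : Fin 27 := fin27 (dig k 2 + 3 * dig k 0 + 9 * dig k 1)

theorem flip_bij : ∀ i : Fin 2, ∀ k : Fin 27, flipTri (flips i) (flipTri (flips i) k) = k := by
  decide +kernel

theorem rot_cube : ∀ k : Fin 27, rotTri (rotTri (rotTri k)) = k := by decide +kernel

theorem rot_masks : ∀ k : Fin 27,
    mask 2 (rotTri k) = mask 1 k ∧ mask 3 (rotTri k) = mask 2 k ∧ mask 8 (rotTri k) = mask 4 k ∧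
    mask 6 (rotTri k) = mask 8 k ∧ mask 9 (rotTri k) = mask 5 k ∧ mask 7 (rotTri k) = mask 9 k := by
  decide +kernel

theorem flip_masks : ∀ k : Fin 27,
    mask 5 (flipTri (flips 1) k) = mask 4 k ∧ mask 11 (flipTri (flips 0) k) = mask 10 k ∧
    mask 12 (flipTri (flips 1) k) = mask 10 k ∧ mask 13 (flipTri (flips 1) k) = mask 11 k ∧
    mask 0 (flipTri (flips 0) k) = mask 0 k ∧ mask 0 (flipTri (flips 1) k) = mask 0 k := by
  decide +kernel

theorem flip_spin : ∀ i : Fin 2, ∀ blk : Fin 4, ∀ k : Fin 27,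
    mask (blkChar true (blkPerm i blk)) (flipTri (flips i) k) = mask (blkChar true blk) k ∧
      blkPerm i blk < 4 := by
  decide +kernel

theorem flip_nat : ∀ i : Fin 2, ∀ blk : Fin 3, ∀ k : Fin 27,
    mask (blkChar false blk) (flipTri (flips i) k) = mask (blkChar false blk) k := by
  decide +kernel

theorem spinX_table : ∀ j : Fin 3, ∀ i : Fin 8,
    (spinX.getD j []).getD i 0 = blkCode true ((i : ℕ) / 2)
      (fin27 (add27 (3 ^ (j : ℕ)) (mulTri ((i : ℕ) % 2) (blkOp true ((i : ℕ) / 2))))) := by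
  decide +kernel

theorem spinT_table : ∀ j : Fin 2, ∀ i : Fin 8,
    (spinT.getD j []).getD i 0 = blkCode true (blkPerm j ((i : ℕ) / 2))
      (flipTri (flips j) (mulTri ((i : ℕ) % 2) (blkOp true ((i : ℕ) / 2)))) := by
  decide +kernel

theorem natX_table : ∀ j : Fin 3, ∀ i : Fin 6,
    (natX.getD j []).getD i 0 = blkCode false ((i : ℕ) / 2)
      (fin27 (add27 (3 ^ (j : ℕ)) (mulTri ((i : ℕ) % 2) (blkOp false ((i : ℕ) / 2))))) := by
  decide +kernel

theorem natT_table : ∀ j : Fin 2, ∀ i : Fin 6,
    (natT.getD j []).getD i 0 = blkCode false ((i : ℕ) / 2)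
      (flipTri (flips j) (mulTri ((i : ℕ) % 2) (blkOp false ((i : ℕ) / 2)))) := by
  decide +kernel

theorem natTs_low : ∀ fa fb : Bool, ∀ j : Fin 2, ∀ i : Fin 6,
    ((natTs fa fb).getD j []).getD i 0 = (natT.getD j []).getD i 0 := by
  decide +kernel

theorem natTs_high : ∀ fa fb : Bool, ∀ j : Fin 2,
    ((natTs fa fb).getD j []).getD 6 0 = (if (if (j : ℕ) = 0 then fa else fb) then 128 else 64) ∧
    ((natTs fa fb).getD j []).getD 7 0 = (if (if (j : ℕ) = 0 then fa else fb) then 64 else 128) ∧
    ((natTs fa fb).getD j []).length = 8 := by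
  decide +kernel

theorem natX_high : ∀ j : Fin 3, (natX.getD j []).getD 6 0 = 64 ∧ (natX.getD j []).getD 7 0 = 128 ∧
    (natX.getD j []).length = 8 := by
  decide +kernel

theorem spin_lengths : (∀ j : Fin 3, (spinX.getD j []).length = 8) ∧
    ∀ j : Fin 2, (spinT.getD j []).length = 8 := by
  decide +kernel

theorem spinCols_basis :
    linV (spinT.getD 0 []) 1 = 4 ∧ linV (spinT.getD 0 []) 2 ^^^ linV (spinT.getD 0 []) 1 = 8 ∧
    linV (spinT.getD 1 []) 1 = 16 ∧ linV (spinT.getD 1 []) 2 ^^^ linV (spinT.getD 1 []) 1 = 32 ∧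
    linV (spinT.getD 0 []) (linV (spinT.getD 1 []) 1) = 64 ∧
    linV (spinT.getD 0 []) (linV (spinT.getD 1 []) 2) ^^^
      linV (spinT.getD 0 []) (linV (spinT.getD 1 []) 1) = 128 := by
  decide +kernel

theorem spin_certs : ∀ s : Fin 6, ∀ k : Fin 7, spinN.length = 6 ∧ spinFlip.length = 6 ∧ spinSols.length = 6 ∧
    (spinN.getD s []).length = 8 ∧ (spinM.getD k []).length = 8 ∧
    eqL (linComp (linWord (spinX ++ [spinSols.getD s []])
        (if spinFlip.getD s false then flipWords.getD k [] else genWords.getD k [])) (spinN.getD s []))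
      (linComp (spinN.getD s []) (spinM.getD k [])) = true := by
  decide +kernel

theorem nat_certs : ∀ s : Fin 6, ∀ k : Fin 7, natN.length = 6 ∧ natSols.length = 6 ∧
    (natN.getD s []).length = 8 ∧ (natM.getD k []).length = 8 ∧
    eqL (linComp (linWord (natX ++ [natSols.getD s []]) (genWords.getD k [])) (natN.getD s []))
      (linComp (natN.getD s []) (natM.getD k [])) = true := by
  decide +kernel

theorem cert_forms : ∀ s : Fin 6, ∀ i : Fin 8, ∀ j : Fin 8,
    ((spinN.getD s []).getD i 0 < 256 ∧ (natN.getD s []).getD i 0 < 256) ∧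
    (qdC true ((spinN.getD s []).getD i 0) = qdC true (2 ^ (i : ℕ)) ∧
      qdC true ((natN.getD s []).getD i 0) = qdC true (2 ^ (i : ℕ))) ∧
    bil ((spinN.getD s []).getD i 0) ((spinN.getD s []).getD j 0) = bil (2 ^ (i : ℕ)) (2 ^ (j : ℕ)) ∧
    bil ((natN.getD s []).getD i 0) ((natN.getD s []).getD j 0) = bil (2 ^ (i : ℕ)) (2 ^ (j : ℕ)) := by
  decide +kernel

theorem gens_bound : ∀ k : Fin 7, ∀ i : Fin 8,
    (spinM.getD k []).getD i 0 < 256 ∧ (natM.getD k []).getD i 0 < 256 := by
  decide +kernel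

end CfsgLib.ThType
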