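import Cfsg.Agent.Lib.ThType.Module
import Cfsg.Agent.Lib.ThType.Tables

/-!
The components of the elementary group of order `27` in a module of degree eight.
-/

set_option autoImplicit false
set_option Elab.async false

open Equiv

namespace CfsgLib.ThType

variable {V : Type*} [CommGroup V]

/-- the automorphisms of the three commuting generators -/
def triA (A : ↥(alternatingGroup (Fin 9)) →* MulAut V) (i : Fin 3) : MulAut V := A (alt (gen4 i))

/-- the permutation of a triple -/
def permTri (k : Fin 27) : Perm (Fin 9) :=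
  gen4 0 ^ dig k 0 * gen4 1 ^ dig k 1 * gen4 2 ^ dig k 2

/-- a normaliser of the elementary group -/
def cycN : Perm (Fin 9) := cyc3 0 3 6 * cyc3 1 4 7 * cyc3 2 5 8

theorem cycN_even : cycN ∈ alternatingGroup (Fin 9) := Perm.mem_alternatingGroup.mpr (by decide +kernel)

theorem tri_rel : ∀ i : Fin 3, (∀ x : Fin 9, (gen4 i ^ 3) x = x) ∧
    ∀ j : Fin 3, ∀ x : Fin 9, (gen4 i * gen4 j) x = (gen4 j * gen4 i) x := by
  decide +kernel

theorem cyc_rel : ∀ k : Fin 27, ∀ x : Fin 9, (cycN * permTri k) x = (permTri (rotTri k) * cycN) x := by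
  decide +kernel

theorem invs_rel : ∀ i : Fin 2, ∀ k : Fin 27, ∀ x : Fin 9,
    (invs i * permTri k) x = (permTri (flipTri (flips i) k) * invs i) x ∧ (invs i * invs i) x = x := by
  decide +kernel

theorem invs_comm : ∀ x : Fin 9, (invs 0 * invs 1) x = (invs 1 * invs 0) x := by
  decide +kernel

theorem prod_fourteen (f : Fin 14 → ℕ) : ∏ j, f j = f 0 * (f 1 * (f 2 * (f 3 * (f 4 * (f 5 * (f 6 * (f 7 *
    (f 8 * (f 9 * (f 10 * (f 11 * (f 12 * f 13)))))))))))) := by
  simp only [Fin.prod_univ_succ, Fin.prod_univ_zero, mul_one]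
  rfl

theorem alt_mul {p r : Perm (Fin 9)} (hp : p ∈ alternatingGroup (Fin 9))
    (hr : r ∈ alternatingGroup (Fin 9)) : alt (p * r) = alt p * alt r := by
  rw [alt_of_mem hp, alt_of_mem hr, alt_of_mem (mul_mem hp hr)]; rfl

theorem alt_one : alt (1 : Perm (Fin 9)) = 1 := by
  rw [alt_of_mem (one_mem _)]; rfl

theorem alt_pow {p : Perm (Fin 9)} (hp : p ∈ alternatingGroup (Fin 9)) : ∀ n : ℕ, alt (p ^ n) = alt p ^ n
  | 0 => by rw [pow_zero, pow_zero, alt_one]
  | n + 1 => by rw [pow_succ, pow_succ, alt_mul (pow_mem hp n) hp, alt_pow hp n]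

theorem permTri_even (k : Fin 27) : permTri k ∈ alternatingGroup (Fin 9) :=
  mul_mem (mul_mem (pow_mem (gen4_even 0) _) (pow_mem (gen4_even 1) _)) (pow_mem (gen4_even 2) _)

namespace Mo

variable {q : V → Bool} {b : V → V → Bool} {A : ↥(alternatingGroup (Fin 9)) →* MulAut V} (h : Mo q b A)

include h

theorem tri : Tri (triA A) := by
  refine ⟨h.two, fun i => ?_, fun i j => ?_⟩
  · have hi := gen4_even ⟨i, lt_trans i.2 (by norm_num)⟩
    rw [triA, ← map_pow, ← alt_pow hi, show gen4 i ^ 3 = 1 from Equiv.ext (tri_rel i).1]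
    exact (congrArg A alt_one).trans (map_one A)
  · have hi := gen4_even ⟨i, lt_trans i.2 (by norm_num)⟩
    have hj := gen4_even ⟨j, lt_trans j.2 (by norm_num)⟩
    rw [triA, triA, ← map_mul, ← map_mul, ← alt_mul hi hj, ← alt_mul hj hi,
      show gen4 i * gen4 j = gen4 j * gen4 i from Equiv.ext ((tri_rel i).2 j)]

theorem op_perm (k : Fin 27) : op (triA A) k = A (alt (permTri k)) := by
  have h0 : gen4 0 ∈ alternatingGroup (Fin 9) := gen4_even 0
  have h1 : gen4 1 ∈ alternatingGroup (Fin 9) := gen4_even 1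
  have h2 : gen4 2 ∈ alternatingGroup (Fin 9) := gen4_even 2
  rw [op, permTri, alt_mul (mul_mem (pow_mem h0 _) (pow_mem h1 _)) (pow_mem h2 _),
    alt_mul (pow_mem h0 _) (pow_mem h1 _), alt_pow h0, alt_pow h1, alt_pow h2, map_mul, map_mul,
    map_pow, map_pow, map_pow]
  rfl

theorem norm_op {p : Perm (Fin 9)} (hp : p ∈ alternatingGroup (Fin 9)) {π : Fin 27 → Fin 27}
    (hrel : ∀ k, ∀ x : Fin 9, (p * permTri k) x = (permTri (π k) * p) x) (k : Fin 27) :
    A (alt p) * op (triA A) k = op (triA A) (π k) * A (alt p) := by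
  rw [h.op_perm, h.op_perm, ← map_mul, ← map_mul, ← alt_mul hp (permTri_even k),
    ← alt_mul (permTri_even _) hp, show p * permTri k = permTri (π k) * p from Equiv.ext (hrel k)]

theorem invs_op (i : Fin 2) (k : Fin 27) :
    A (alt (invs i)) * op (triA A) k = op (triA A) (flipTri (flips i) k) * A (alt (invs i)) :=
  h.norm_op (invs_even i) (fun k x => (invs_rel i k x).1) k

theorem invs_sq (i : Fin 2) : A (alt (invs i)) * A (alt (invs i)) = 1 := by
  rw [← map_mul, ← alt_mul (invs_even i) (invs_even i),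
    show invs i * invs i = 1 from Equiv.ext fun x => (invs_rel i 0 x).2, alt_one, map_one]

theorem invs_commute : A (alt (invs 0)) * A (alt (invs 1)) = A (alt (invs 1)) * A (alt (invs 0)) := by
  have h0 : invs 0 ∈ alternatingGroup (Fin 9) := invs_even 0
  have h1 : invs 1 ∈ alternatingGroup (Fin 9) := invs_even 1
  rw [← map_mul, ← map_mul, ← alt_mul h0 h1, ← alt_mul h1 h0,
    show invs 0 * invs 1 = invs 1 * invs 0 from Equiv.ext invs_comm]

/-- the component of a character -/
def comp (j : Fin 14) : Subgroup V := h.tri.W j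

theorem card_comp_flip {i : Fin 2} {x y : Fin 14}
    (hm : ∀ k, mask y (flipTri (flips i) k) = mask x k) : Nat.card (h.comp x) = Nat.card (h.comp y) :=
  (h.tri.map_W (n := A (alt (invs i))) (Function.Involutive.bijective (flip_bij i)) (h.invs_op i) hm).1

theorem card_comp_rot {x y : Fin 14}
    (hm : ∀ k, mask y (rotTri k) = mask x k) : Nat.card (h.comp x) = Nat.card (h.comp y) := by
  have hbij : Function.Bijective rotTri :=
    ⟨fun a c e => by rw [← rot_cube a, ← rot_cube c, e], fun a => ⟨_, rot_cube a⟩⟩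
  exact (h.tri.map_W (n := A (alt cycN)) hbij (h.norm_op cycN_even cyc_rel) hm).1

theorem flip_mem {i : Fin 2} {x y : Fin 14} (hm : ∀ k, mask y (flipTri (flips i) k) = mask x k) {w : V}
    (hw : w ∈ h.comp x) : A (alt (invs i)) w ∈ h.comp y :=
  (h.tri.map_W (n := A (alt (invs i))) (Function.Involutive.bijective (flip_bij i)) (h.invs_op i) hm).2 w hw

/-- Either the four components of weight three or the three of weight one are planes. -/
theorem comp_cases :
    (∀ x : Fin 4, Nat.card (h.comp (blkChar true x)) = 4) ∨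
      ((∀ x : Fin 3, Nat.card (h.comp (blkChar false x)) = 4) ∧ Nat.card (h.comp 0) = 4) := by
  haveI := h.finite
  have e := h.tri.card_eq
  rw [h.card] at e
  change 256 = ∏ j, Nat.card (h.comp j) at e
  have r := rot_masks
  have f := flip_masks
  have c2 : Nat.card (h.comp 2) = Nat.card (h.comp 1) := (h.card_comp_rot (x := 1) (y := 2) fun k => (r k).1).symm
  have c3 : Nat.card (h.comp 3) = Nat.card (h.comp 2) := (h.card_comp_rot (x := 2) (y := 3) fun k => (r k).2.1).symm
  have c8 : Nat.card (h.comp 8) = Nat.card (h.comp 4) := (h.card_comp_rot (x := 4) (y := 8) fun k => (r k).2.2.1).symm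
  have c6 : Nat.card (h.comp 6) = Nat.card (h.comp 8) := (h.card_comp_rot (x := 8) (y := 6) fun k => (r k).2.2.2.1).symm
  have c9 : Nat.card (h.comp 9) = Nat.card (h.comp 5) := (h.card_comp_rot (x := 5) (y := 9) fun k => (r k).2.2.2.2.1).symm
  have c7 : Nat.card (h.comp 7) = Nat.card (h.comp 9) := (h.card_comp_rot (x := 9) (y := 7) fun k => (r k).2.2.2.2.2).symm
  have c5 : Nat.card (h.comp 5) = Nat.card (h.comp 4) := (h.card_comp_flip (i := 1) (x := 4) (y := 5) fun k => (f k).1).symm
  have c11 : Nat.card (h.comp 11) = Nat.card (h.comp 10) := (h.card_comp_flip (i := 0) (x := 10) (y := 11) fun k => (f k).2.1).symm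
  have c12 : Nat.card (h.comp 12) = Nat.card (h.comp 10) := (h.card_comp_flip (i := 1) (x := 10) (y := 12) fun k => (f k).2.2.1).symm
  have c13 : Nat.card (h.comp 13) = Nat.card (h.comp 11) := (h.card_comp_flip (i := 1) (x := 11) (y := 13) fun k => (f k).2.2.2.1).symm
  rw [prod_fourteen] at e
  rw [c3, c2, c7, c9, c5, c6, c8, c13, c11, c12] at e
  have hsmall : ∀ j : Fin 14, ∀ l : Fin 27, (∀ k, xor (mask j k) (xor (shiftM l (mask j) k)
      (shiftM (fin27 (add27 l l)) (mask j) k)) = false) →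
      Nat.card (h.comp j) = 1 ∨ (4 ≤ Nat.card (h.comp j) ∧ 3 ∣ Nat.card (h.comp j) - 1) := fun j l hl => by
    by_cases hb : h.tri.W j = ⊥
    · left; show Nat.card (h.tri.W j) = 1; rw [hb, Subgroup.card_bot]
    · right; exact h.tri.four_le hl hb
  have s1 := hsmall 1 1 (by decide +kernel)
  have s4 := hsmall 4 1 (by decide +kernel)
  have s10 := hsmall 10 1 (by decide +kernel)
  have p0 : 1 ≤ Nat.card (h.comp 0) := Nat.card_pos
  have hnt : ¬ (Nat.card (h.comp 1) = 1 ∧ Nat.card (h.comp 4) = 1 ∧ Nat.card (h.comp 10) = 1) := by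
    rintro ⟨g1, g4, g10⟩
    have hall : ∀ j : Fin 14, j ≠ 0 → h.tri.W j = ⊥ := by
      intro j hj
      apply Subgroup.eq_bot_of_card_eq
      show Nat.card (h.comp j) = 1
      have hj' : ∀ k : Fin 14, k ≠ 0 → k = 1 ∨ k = 2 ∨ k = 3 ∨ k = 4 ∨ k = 5 ∨ k = 6 ∨ k = 7 ∨ k = 8 ∨
          k = 9 ∨ k = 10 ∨ k = 11 ∨ k = 12 ∨ k = 13 := by decide
      rcases hj' j hj with rfl | rfl | rfl | rfl | rfl | rfl | rfl | rfl | rfl | rfl | rfl | rfl | rfl
      exacts [g1, c2.trans g1, c3.trans (c2.trans g1), g4, c5.trans g4, c6.trans (c8.trans g4),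
        c7.trans (c9.trans (c5.trans g4)), c8.trans g4, c9.trans (c5.trans g4), g10, c11.trans g10,
        c12.trans g10, c13.trans (c11.trans g10)]
    have hfix : op (triA A) 1 = 1 := MulEquiv.ext fun v => by
      conv_lhs => rw [← h.tri.sum_proj v, map_prod]
      conv_rhs => rw [MulAut.one_apply, ← h.tri.sum_proj v]
      refine Finset.prod_congr rfl fun j _ => ?_
      have hm := h.tri.proj_mem j v
      by_cases hj : j = 0
      · subst hj; exact h.tri.op_fix hm 1 (by decide +kernel)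
      · rw [hall j hj, Subgroup.mem_bot] at hm
        rw [hm, map_one]
    rw [h.op_perm, ← map_one A] at hfix
    have := congrArg (fun σ : ↥(alternatingGroup (Fin 9)) => (σ : Perm (Fin 9)) 0) (h.faithful hfix)
    simp only [alt_of_mem (permTri_even 1)] at this
    revert this
    decide +kernel
  obtain ⟨a, ha⟩ : ∃ a, Nat.card (h.comp 0) = a := ⟨_, rfl⟩
  obtain ⟨x, hx⟩ : ∃ x, Nat.card (h.comp 1) = x := ⟨_, rfl⟩
  obtain ⟨y, hy⟩ : ∃ y, Nat.card (h.comp 4) = y := ⟨_, rfl⟩
  obtain ⟨w, hw⟩ : ∃ w, Nat.card (h.comp 10) = w := ⟨_, rfl⟩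
  rw [ha, hx, hy, hw] at e
  rw [hx] at s1 hnt
  rw [hy] at s4 hnt
  rw [hw] at s10 hnt
  rw [ha] at p0
  have e' : 256 = a * x ^ 3 * y ^ 6 * w ^ 4 := by rw [e]; ring
  have hy1 : y = 1 := by
    rcases s4 with s | ⟨s, -⟩
    · exact s
    · have h6 : 4096 ≤ y ^ 6 := le_trans (by norm_num) (Nat.pow_le_pow_left s 6)
      have hx3 : 1 ≤ x ^ 3 := Nat.one_le_pow _ _ (by omega)
      have hw4 : 1 ≤ w ^ 4 := Nat.one_le_pow _ _ (by omega)
      have := Nat.mul_le_mul (Nat.mul_le_mul (Nat.mul_le_mul p0 hx3) h6) hw4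
      omega
  subst hy1
  rw [one_pow, mul_one] at e'
  rcases s10 with s | ⟨s, -⟩
  · subst s
    rw [one_pow, mul_one] at e'
    rcases s1 with t | ⟨t, t3⟩
    · exact absurd ⟨t, rfl, rfl⟩ hnt
    · have hx6 : x ≤ 6 := by
        by_contra hcon
        have := Nat.mul_le_mul p0 (Nat.pow_le_pow_left (by omega : 7 ≤ x) 3)
        omega
      interval_cases x
      · refine Or.inr ⟨fun i => ?_, by omega⟩
        fin_cases i <;> [exact hx; exact c2.trans hx; exact c3.trans (c2.trans hx)]
      all_goals omega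
  · have hx1 : x = 1 := by
      rcases s1 with t | ⟨t, -⟩
      · exact t
      · have := Nat.mul_le_mul (Nat.mul_le_mul p0 (Nat.pow_le_pow_left t 3)) (Nat.pow_le_pow_left s 4)
        omega
    subst hx1
    have hw4 : w ≤ 4 := by
      by_contra hcon
      have := Nat.mul_le_mul (Nat.mul_le_mul p0 (le_refl (1 ^ 3))) (Nat.pow_le_pow_left (by omega : 5 ≤ w) 4)
      omega
    have : w = 4 := by omega
    subst this
    refine Or.inl fun i => ?_
    fin_cases i <;> [exact hw; exact c11.trans hw; exact c12.trans hw; exact c13.trans (c11.trans hw)]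

theorem orth_comp {i j : Fin 14} (hij : i ≠ j) {u v : V} (hu : u ∈ h.comp i) (hv : v ∈ h.comp j) :
    b u v = false :=
  h.tri.orth h.b_mul h.b_mul' (fun i u v => h.b_inv _ u v) hij hu hv

/-- In a plane two distinct nonidentity members are not orthogonal, and they and their product give
all the nonidentity members. -/
theorem plane {j : Fin 14} (hc : Nat.card (h.comp j) = 4) {e f : V} (he : e ∈ h.comp j)
    (hf : f ∈ h.comp j) (he1 : e ≠ 1) (hf1 : f ≠ 1) (hef : e ≠ f) :
    (∀ w ∈ h.comp j, w = 1 ∨ w = e ∨ w = f ∨ w = e * f) ∧ b e f = true := by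
  classical
  have hall : ∀ w ∈ h.comp j, w = 1 ∨ w = e ∨ w = f ∨ w = e * f := by
    have hef1 : e * f ≠ 1 := fun hh => hef (by
      have := congrArg (e * ·) hh
      simp only [← mul_assoc, h.two, one_mul, mul_one] at this
      exact this.symm)
    have hefe : e * f ≠ e := fun hh => hf1 (mul_eq_left.mp hh)
    have heff : e * f ≠ f := fun hh => he1 (mul_eq_right.mp hh)
    haveI : Finite (h.comp j) := Nat.finite_of_card_ne_zero (by rw [hc]; norm_num)
    let m : Fin 4 → h.comp j := ![1, ⟨e, he⟩, ⟨f, hf⟩, ⟨e * f, mul_mem he hf⟩]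
    have hm : Function.Bijective m := by
      refine (Nat.bijective_iff_injective_and_card m).mpr ⟨fun a c hac => ?_, by simp [hc]⟩
      have := congrArg Subtype.val hac
      revert this
      fin_cases a <;> fin_cases c <;> simp [m, he1, hf1, hef, hef1, hefe, heff, Ne.symm he1, Ne.symm hf1,
        Ne.symm hef, Ne.symm hef1, Ne.symm hefe, Ne.symm heff]
    intro w hw
    obtain ⟨i, hi⟩ := hm.2 ⟨w, hw⟩
    have hi' := congrArg Subtype.val hi
    fin_cases i <;> simp [m] at hi' <;> simp [← hi']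
  refine ⟨hall, ?_⟩
  by_contra hb
  rw [Bool.not_eq_true] at hb
  obtain ⟨v, hv⟩ := h.nondeg e he1
  rw [← h.tri.sum_proj v] at hv
  have hz : ∀ w : Fin 14, b e (act (triA A) (mask w) v) = false := fun w => by
    have hm := h.tri.proj_mem w v
    by_cases hw : w = j
    · subst hw
      rcases hall _ hm with h1 | h1 | h1 | h1 <;> rw [h1]
      · exact h.b_one e
      · exact h.b_self e
      · exact hb
      · rw [h.b_mul, h.b_self, hb]; rfl
    · exact h.orth_comp (Ne.symm hw) he hm
  have hzero : ∀ l : List (Fin 14), b e (l.map fun w => act (triA A) (mask w) v).prod = false := by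
    intro l
    induction l with
    | nil => exact h.b_one e
    | cons w l ih => rw [List.map_cons, List.prod_cons, h.b_mul, hz, ih]; rfl
  rw [Fin.prod_univ_def, hzero] at hv
  exact Bool.false_ne_true hv

end Mo

end CfsgLib.ThType
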