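import Mathlib.Data.Nat.Notation

/-!
Words moving the singular vectors of the two modules to representatives.
-/

set_option autoImplicit false

namespace CfsgLib.ThType

/-- words to the two representatives in the second module, by vector -/
def natOrb : List (List ℕ) := [[], [], [], [], [], [], [0, 0], [0], [], [3, 1, 1], [0, 3, 1], [0, 0, 1, 3], [], [3, 1, 2], [0, 3, 2], [0, 0, 2, 3], [], [4, 5, 1, 2], [0, 0, 1, 4, 5, 2], [0, 4, 1, 2, 5], [4, 5], [], [], [], [3, 1, 1, 4, 5], [], [], [], [3, 1, 2, 4, 5], [], [], [], [], [5, 6, 1, 2], [0, 0, 1, 5, 6, 2], [0, 5, 1, 2, 6], [5, 6], [], [], [], [3, 1, 1, 5, 6], [], [], [], [3, 1, 2, 5, 6], [], [], [], [], [4, 6, 1, 2], [0, 0, 1, 4, 6, 2], [0, 4, 1, 2, 6], [4, 6], [], [], [], [3, 1, 1, 4, 6], [], [], [], [3, 1, 2, 4, 6], [], [], [], [], [0, 3], [3], [3, 1], [0, 3,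 1, 2], [], [], [], [0, 0, 2], [], [], [], [0, 0, 1], [], [], [], [], [], [], [], [], [0, 3, 1, 2, 4, 5], [3, 4, 1, 2, 5], [3, 1, 1, 4, 5, 2], [], [0, 0, 2, 4, 5], [4, 1, 2, 5], [4, 5, 2], [], [0, 0, 1, 4, 5], [4, 1, 1, 5], [4, 5, 1], [6, 0, 4], [], [], [], [], [0, 3, 1, 2, 5, 6], [3, 5, 1, 2, 6], [3, 1, 1, 5, 6, 2], [], [0, 0, 2, 5, 6], [5, 1, 2, 6], [5, 6, 2], [], [0, 0, 1, 5, 6], [5, 1, 1, 6], [5, 6, 1], [6, 0, 5], [], [], [], [], [0, 3, 1, 2, 4, 6], [3, 4, 1, 2, 6], [3, 1, 1, 4, 6, 2], [], [0, 0, 2, 4, 6], [4, 1, 2, 6], [4, 6, 2], [], [0, 0, 1, 4, 6], [4, 1, 1, 6], [4, 6, 1], [], [6, 0, 0], [6, 0], [6], [3, 4, 1, 2, 5, 6], [], [], [], [4, 1, 2, 5, 6], [], [], [], [4, 1, 1, 5, 6], [], [], [], [3, 6], [], [], [], [], [3, 6, 1, 2], [0, 0, 1, 3, 6, 2], [0, 3, 1, 2, 6], [], [6, 1, 2], [0, 6, 2], [0, 0, 2, 6], [],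 [6, 1, 1], [0, 6, 1], [0, 0, 1, 6], [3, 4], [], [], [], [], [3, 4, 1, 2], [0, 0, 1, 3, 4, 2], [0, 3, 1, 2, 4], [], [4, 1, 2], [0, 4, 2], [0, 0, 2, 4], [], [4, 1, 1], [0, 4, 1], [0, 0, 1, 4], [3, 5], [], [], [], [], [3, 5, 1, 2], [0, 0, 1, 3, 5, 2], [0, 3, 1, 2, 5], [], [5, 1, 2], [0, 5, 2], [0, 0, 2, 5], [], [5, 1, 1], [0, 5, 1], [0, 0, 1, 5], [], [0, 4, 1, 2, 5, 6], [4, 5, 1, 2, 6], [4, 1, 1, 5, 6, 2], [6, 0, 3], [], [], [], [6, 0, 1], [], [], [], [6, 0, 2], [], [], [], [0, 6, 1, 2], [], [], [], [], [0, 6], [6], [6, 1], [], [0, 0, 1, 3, 6], [3, 1, 1, 6], [3, 6, 1], [], [0, 0, 2, 3, 6], [3, 1, 2, 6], [3, 6, 2], [0, 4, 1, 2], [], [], [], [], [0, 4], [4], [4, 1], [], [0, 0, 1, 3, 4], [3, 1, 1, 4], [3, 4, 1], [], [0, 0, 2, 3, 4], [3, 1, 2, 4], [3, 4, 2], [0, 5, 1, 2], [], [], [], [], [0, 5], [5], [5, 1], [], [0, 0,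 1, 3, 5], [3, 1, 1, 5], [3, 5, 1], [], [0, 0, 2, 3, 5], [3, 1, 2, 5], [3, 5, 2]]

/-- words to the representative in the first module, by vector -/
def spinOrb : List (List ℕ) := [[], [], [], [], [], [6, 3, 5], [6, 4, 4], [0, 2], [], [1, 0], [0, 6, 1, 5], [6, 0, 4], [], [6, 6, 4], [1], [2, 6, 3, 5], [], [1, 6, 5, 1], [0, 6, 1, 3], [6, 0, 2], [0, 6, 5, 0], [], [], [], [2, 5, 6], [], [], [], [1, 6, 4], [], [], [], [], [6, 3, 2], [6, 4, 1], [0, 6, 3, 3], [0, 3, 6], [], [], [], [0, 6, 5], [], [], [], [6, 5, 0], [], [], [], [], [6, 6, 3], [6, 2, 2], [2, 6, 3, 1], [6, 5], [], [], [], [1, 6, 4, 0], [], [], [], [2, 6], [], [], [], [], [6, 1, 0], [0, 5, 6], [0, 6, 2], [6, 4, 2], [], [], [], [0, 6, 1, 1], [], [], [], [6, 2, 3], [], [], [], [0, 6, 1, 4], [], [], [], [], [2, 6, 3, 0], [0, 6, 5, 4], [6, 6, 2], [], [6, 1, 1],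 [3, 6], [0, 6, 2, 4], [], [0, 6, 3, 4], [1, 6, 4, 3], [6, 3], [0], [], [], [], [], [6, 1, 2], [4, 6], [0, 3], [], [2, 0], [0, 6, 5, 1], [6, 6], [], [6, 0, 0], [3], [1, 6, 5, 3], [6, 2, 5], [], [], [], [], [6, 0, 5], [6, 5, 2], [1, 6, 5], [], [0, 6, 3, 0], [1, 6, 4, 5], [6, 3, 1], [], [6, 1, 3], [1, 0, 6], [0, 6, 2, 5], [], [2, 6, 4], [0, 6, 2, 0], [2, 0, 6], [0, 6, 3, 1], [], [], [], [6, 0, 3], [], [], [], [2, 6, 3, 2], [], [], [], [4], [], [], [], [], [6, 2, 1], [6, 6, 0], [0, 1], [], [2, 5], [0, 6, 2, 3], [6], [], [6, 4], [5], [1, 6, 4, 2], [0, 6, 3, 5], [], [], [], [], [2, 6, 4, 5], [0, 6, 2, 1], [1, 6], [], [6, 2], [6, 6, 5], [0, 6, 5, 3], [], [0, 6, 1, 2], [1, 6, 5, 0], [6, 5, 5], [2, 6, 3, 4], [], [], [], [], [0, 6, 1], [1, 6, 5, 4], [6, 5, 1], [], [6, 4, 3], [6, 3, 0], [1, 6, 4, 4], [], [2, 6, 4, 4], [0,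 6, 2, 2], [0, 1, 6], [], [5, 6], [6, 1], [2, 6, 4, 0], [6, 3, 3], [], [], [], [1, 6, 5, 2], [], [], [], [6, 6, 1], [], [], [], [1, 6, 5, 5], [], [], [], [], [0, 6, 5, 5], [2, 6, 3, 3], [6, 2, 0], [], [0, 2, 6], [6, 1, 5], [2, 6, 4, 2], [], [1, 6, 4, 1], [0, 6, 3], [6, 4, 5], [6, 3, 4], [], [], [], [], [1, 3, 6], [6, 1, 4], [2, 6, 4, 3], [], [0, 6, 5, 2], [2, 6, 3], [6, 2, 4], [], [6, 5, 4], [6, 0, 1], [0, 6, 1, 0], [], [], [], [], [], [6, 5, 3], [6, 0], [0, 5], [], [1, 3], [0, 6, 3, 2], [6, 4, 0], [], [0, 6], [2], [2, 6, 4, 1]]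

end CfsgLib.ThType
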