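import Cfsg.Agent.Lib.ThType.Coords
import Cfsg.Agent.Lib.AltPres.Carmichael

/-!
Two groups with the same coordinates, the same actions and the same relations are isomorphic.
-/

set_option autoImplicit false

namespace CfsgLib.ThType

/-- Seven elements of order three inducing given automorphisms, with given products. -/
structure Rels {C : Type*} [Group C] (Q : Subgroup C) (z : C) (g : ℕ → C) (ε : Bool)
    (Y : List (List ℕ)) (K : Fin 7 → Fin 7 → ℕ) (x : Fin 7 → C) : Prop where
  act : ∀ i : Fin 7, Acts z g (x i) (Y.getD i autId)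
  cube : ∀ i, x i * x i * x i = 1
  pair : ∀ i j, i ≠ j → x i * x j * (x i * x j) = zp z ε * el z g (K i j)
  gen : Q ⊔ Subgroup.closure (Set.range x) = ⊤

theorem emul_four : ∀ e : Fin 512, emul (emul e e) (emul e e) = 0 := by
  decide +kernel

variable {C C' : Type*} [Group C] [Group C'] {Q : Subgroup C} {Q' : Subgroup C'} {z : C} {z' : C'}
  {g : ℕ → C} {g' : ℕ → C'}

/-- the pairs of elements with equal codes -/
def diagQ (h : Coords Q z g) (h' : Coords Q' z' g') : Subgroup (C × C') where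
  carrier := {p | ∃ e < 512, (el z g e, el z' g' e) = p}
  one_mem' := ⟨0, by norm_num, by rw [h.el_zero, h'.el_zero]; rfl⟩
  mul_mem' := by
    rintro _ _ ⟨a, ha, rfl⟩ ⟨b, hb, rfl⟩
    exact ⟨emul a b, emul_lt ha hb, by rw [Prod.mk_mul_mk, h.el_mul hb, h'.el_mul hb]⟩
  inv_mem' := by
    rintro _ ⟨a, ha, rfl⟩
    have h2 : emul a a < 512 := emul_lt ha ha
    have h3 : emul a (emul a a) < 512 := emul_lt ha h2
    refine ⟨emul a (emul a a), h3, (inv_eq_of_mul_eq_one_right ?_).symm⟩
    have h4 := emul_four ⟨a, ha⟩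
    have key : el z g a * el z g (emul a (emul a a)) = 1 := by
      rw [← h.el_mul (x := a) h2, ← mul_assoc, h.el_mul ha, h.el_mul h2]
      exact (congrArg (el z g) h4).trans h.el_zero
    have key' : el z' g' a * el z' g' (emul a (emul a a)) = 1 := by
      rw [← h'.el_mul (x := a) h2, ← mul_assoc, h'.el_mul ha, h'.el_mul h2]
      exact (congrArg (el z' g') h4).trans h'.el_zero
    rw [Prod.mk_mul_mk, key, key']
    rfl

theorem card_diagQ_le (h : Coords Q z g) (h' : Coords Q' z' g') :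
    Finite (diagQ h h') ∧ Nat.card (diagQ h h') ≤ 512 := by
  let f : Fin 512 → diagQ h h' := fun e => ⟨(el z g e, el z' g' e), e, e.2, rfl⟩
  have hf : Function.Surjective f := by
    rintro ⟨_, e, he, rfl⟩
    exact ⟨⟨e, he⟩, rfl⟩
  exact ⟨Finite.of_surjective f hf, (Nat.card_le_card_of_surjective f hf).trans_eq (by simp)⟩

/-- Groups of the same order with the same relations are isomorphic. -/
theorem equiv_of_rels [Finite C] [Finite C'] (h : Coords Q z g) (h' : Coords Q' z' g')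
    (hC : Nat.card C = 92897280) (hC' : Nat.card C' = 92897280) {ε : Bool} {Y : List (List ℕ)}
    {K : Fin 7 → Fin 7 → ℕ} (hK : ∀ i j, K i j < 512) {x : Fin 7 → C} {x' : Fin 7 → C'}
    (hx : Rels Q z g ε Y K x) (hx' : Rels Q' z' g' ε Y K x') :
    ∃ φ : C ≃* C', φ z = z' ∧ Q.map φ.toMonoidHom = Q' := by
  classical
  let p : Fin 7 → C × C' := fun i => (x i, x' i)
  let N := diagQ h h'
  let D := N ⊔ Subgroup.closure (Set.range p)
  have hnorm : ∀ i, p i ∈ Subgroup.normalizer (N : Set (C × C')) := fun i => by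
    have hle : N.map (MulAut.conj (p i)).toMonoidHom ≤ N := by
      rintro _ ⟨_, ⟨e, he, rfl⟩, rfl⟩
      refine ⟨autApp (Y.getD i autId) e, (h.acts_el (hx.act i) he).2, ?_⟩
      show _ = p i * (el z g e, el z' g' e) * (p i)⁻¹
      rw [Prod.inv_mk, Prod.mk_mul_mk, Prod.mk_mul_mk, (h.acts_el (hx.act i) he).1,
        (h'.acts_el (hx'.act i) he).1]
    have heq : N.map (MulAut.conj (p i)).toMonoidHom = N := Subgroup.eq_of_le_of_card_ge hle
      (le_of_eq (Subgroup.card_map_of_injective (MulAut.conj (p i)).injective).symm)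
    rw [Subgroup.mem_normalizer_iff]
    intro n
    refine ⟨fun hn => heq ▸ ⟨n, hn, rfl⟩, fun hn => ?_⟩
    rw [← heq] at hn
    obtain ⟨m, hm, hmn⟩ := hn
    exact (MulAut.conj (p i)).injective hmn ▸ hm
  have hD : D ≤ Subgroup.normalizer (N : Set (C × C')) :=
    sup_le Subgroup.le_normalizer ((Subgroup.closure_le _).mpr (by rintro _ ⟨i, rfl⟩; exact hnorm i))
  have hND : N ≤ D := le_sup_left
  haveI hn : (N.subgroupOf D).Normal := (Subgroup.normal_subgroupOf_iff_le_normalizer hND).mpr hD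
  have hp : ∀ i, p i ∈ D := fun i => Subgroup.mem_sup_right (Subgroup.subset_closure ⟨i, rfl⟩)
  let q := QuotientGroup.mk' (N.subgroupOf D)
  let y : Fin 7 → ↥D ⧸ N.subgroupOf D := fun i => q ⟨p i, hp i⟩
  have hzp : zp z ε ∈ Q ∧ (zp z ε, zp z' ε) ∈ N := by
    refine ⟨h.zp_mem ε, if ε then 256 else 0, by split <;> norm_num, ?_⟩
    cases ε <;> simp [zp, h.el_zero, h'.el_zero, h.el_256, h'.el_256]
  have h3 : ∀ i, y i * y i * y i = 1 := fun i => by
    simp only [y, ← map_mul]
    rw [show (⟨p i, hp i⟩ * ⟨p i, hp i⟩ * ⟨p i, hp i⟩ : ↥D) = 1 from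
      Subtype.ext (Prod.ext (hx.cube i) (hx'.cube i)), map_one]
  have h2 : ∀ i j, i ≠ j → y i * y j * (y i * y j) = 1 := fun i j hij => by
    simp only [y, ← map_mul]
    refine (QuotientGroup.eq_one_iff _).mpr (Subgroup.mem_subgroupOf.mpr ?_)
    show p i * p j * (p i * p j) ∈ N
    rw [show p i * p j * (p i * p j) = (zp z ε, zp z' ε) * (el z g (K i j), el z' g' (K i j)) from
      Prod.ext (hx.pair i j hij) (hx'.pair i j hij)]
    exact N.mul_mem hzp.2 ⟨K i j, hK i j, rfl⟩
  obtain ⟨hfin, hcar⟩ := CfsgLib.AltPres.carmichael_card h3 h2 Finset.univ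
  rw [Finset.coe_univ, Set.image_univ, show (Finset.univ : Finset (Fin 7)).card + 2 = 9 from rfl] at hcar
  have htop : Subgroup.closure (Set.range y) = ⊤ := by
    have : (Subgroup.closure (Set.range y)).comap q = ⊤ := by
      refine eq_top_iff.mpr fun d _ => ?_
      have hle : D ≤ ((Subgroup.closure (Set.range y)).comap q).map D.subtype := by
        refine sup_le (fun n hn => ?_) ((Subgroup.closure_le _).mpr ?_)
        · refine ⟨⟨n, hND hn⟩, Subgroup.mem_comap.mpr ?_, rfl⟩
          rw [show q ⟨n, hND hn⟩ = 1 from (QuotientGroup.eq_one_iff _).mpr (Subgroup.mem_subgroupOf.mpr hn)]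
          exact one_mem _
        · rintro _ ⟨i, rfl⟩
          exact ⟨⟨p i, hp i⟩, Subgroup.subset_closure ⟨i, rfl⟩, rfl⟩
      obtain ⟨d', hd', he⟩ := hle d.2
      rwa [Subtype.ext he] at hd'
    have hq : Function.Surjective q := QuotientGroup.mk'_surjective _
    have h' := congrArg (Subgroup.map q) this
    rwa [Subgroup.map_comap_eq_self_of_surjective hq, Subgroup.map_top_of_surjective q hq] at h'
  rw [htop, Subgroup.card_top] at hcar
  have hcardD : Nat.card D ≤ 92897280 := by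
    rw [← (N.subgroupOf D).card_mul_index, Nat.card_congr (Subgroup.subgroupOfEquivOfLe hND).toEquiv,
      Subgroup.index_eq_card]
    have := Nat.mul_le_mul (card_diagQ_le h h').2 (show Nat.card (↥D ⧸ N.subgroupOf D) ≤ 181440 by
      have : Nat.factorial 9 = 362880 := rfl
      omega)
    omega
  let f₁ : D →* C := (MonoidHom.fst C C').comp D.subtype
  let f₂ : D →* C' := (MonoidHom.snd C C').comp D.subtype
  have s₁ : Function.Surjective f₁ := by
    rw [← MonoidHom.range_eq_top, eq_top_iff, ← hx.gen]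
    refine sup_le (fun a ha => ?_) ((Subgroup.closure_le _).mpr ?_)
    · obtain ⟨e, he, rfl⟩ := h.surj a ha
      exact ⟨⟨(el z g e, el z' g' e), hND ⟨e, he, rfl⟩⟩, rfl⟩
    · rintro _ ⟨i, rfl⟩
      exact ⟨⟨p i, hp i⟩, rfl⟩
  have s₂ : Function.Surjective f₂ := by
    rw [← MonoidHom.range_eq_top, eq_top_iff, ← hx'.gen]
    refine sup_le (fun a ha => ?_) ((Subgroup.closure_le _).mpr ?_)
    · obtain ⟨e, he, rfl⟩ := h'.surj a ha
      exact ⟨⟨(el z g e, el z' g' e), hND ⟨e, he, rfl⟩⟩, rfl⟩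
    · rintro _ ⟨i, rfl⟩
      exact ⟨⟨p i, hp i⟩, rfl⟩
  have e₁ : Function.Bijective f₁ := (Nat.bijective_iff_surjective_and_card f₁).mpr
    ⟨s₁, le_antisymm (hC ▸ hcardD) (Nat.card_le_card_of_surjective f₁ s₁)⟩
  have e₂ : Function.Bijective f₂ := (Nat.bijective_iff_surjective_and_card f₂).mpr
    ⟨s₂, le_antisymm (hC' ▸ hcardD) (Nat.card_le_card_of_surjective f₂ s₂)⟩
  let φ : C ≃* C' := (MulEquiv.ofBijective f₁ e₁).symm.trans (MulEquiv.ofBijective f₂ e₂)
  have hφ : ∀ d : D, φ (d : C × C').1 = (d : C × C').2 := fun d => by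
    show f₂ ((MulEquiv.ofBijective f₁ e₁).symm (f₁ d)) = f₂ d
    rw [show (MulEquiv.ofBijective f₁ e₁).symm (f₁ d) = d from (MulEquiv.ofBijective f₁ e₁).symm_apply_apply d]
  have hel : ∀ e < 512, φ (el z g e) = el z' g' e := fun e he =>
    hφ ⟨(el z g e, el z' g' e), hND ⟨e, he, rfl⟩⟩
  refine ⟨φ, ?_, le_antisymm ?_ ?_⟩
  · have := hel 256 (by norm_num)
    rwa [h.el_256, h'.el_256] at this
  · rintro _ ⟨a, ha, rfl⟩
    obtain ⟨e, he, rfl⟩ := h.surj a ha
    show φ _ ∈ Q'
    rw [hel e he]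
    exact h'.el_mem e
  · intro b hb
    obtain ⟨e, he, rfl⟩ := h'.surj b hb
    exact ⟨el z g e, h.el_mem e, hel e he⟩

end CfsgLib.ThType
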