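import Cfsg.Agent.Lib.ThType.Frame
import Cfsg.Agent.Lib.ThType.Iso

/-!
Generators and relations in the first module.
-/

set_option autoImplicit false
set_option linter.style.haveILetI false
set_option Elab.async false

namespace CfsgLib.ThType

/-- the code over the representative moving four points -/
def codeA : List ℕ := autWord spinY [0, 1]

/-- the code of the conjugate product -/
def codeP (i j : Fin 7) : List ℕ :=
  autComp (autComp (spinY.getD i autId) (spinY.getD j autId))
    (innCode ((pairShift.getD i []).getD j 0))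

/-- the values of the squares of products -/
def pairK (i j : Fin 7) : ℕ := (pairVal.getD i []).getD j 0

/-- a word conjugating one double transposition to another -/
def wab : List ℕ := [5, 4, 1, 0, 3, 2]

/-- the word of a three-cycle -/
def wy : List ℕ := [4, 2, 3, 4, 2]

/-- the code over the second double transposition -/
def codeB : List ℕ := autComp (autWord spinY wb) (innCode 2)

/-- the code over the three-cycle -/
def codeY : List ℕ := autComp (autWord spinY wy) (innCode 3)

/-- the code over the representative moving eight points -/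
def codeX : List ℕ := autComp codeA codeB

theorem spinY_facts : spinY.length = 7 ∧ spinM.length = 7 ∧ ∀ k : Fin 7,
    (spinY.getD k autId).length = 8 ∧ (∀ i : Fin 8, (spinY.getD k autId).getD i 0 < 512) ∧
    linPart (spinY.getD k autId) = spinM.getD k [] ∧
    autComp (spinY.getD k autId) (autComp (spinY.getD k autId) (spinY.getD k autId)) = autId := by
  decide +kernel

theorem pair_facts : ∀ i j : Fin 7, i ≠ j →
    (∀ k ∈ (pairWord.getD i []).getD j [], k < 7) ∧ (pairShift.getD i []).getD j 0 < 512 ∧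
    pairK i j < 512 ∧
    autComp (codeP i j) (autWord spinY ((pairWord.getD i []).getD j [])) =
      autComp (autWord spinY ((pairWord.getD i []).getD j [])) codeA ∧
    emul (autApp (codeP i j) (invCode ((pairShift.getD i []).getD j 0)))
      (invCode ((pairShift.getD i []).getD j 0)) = pairK i j := by
  decide +kernel

theorem pairK_lt : ∀ i j : Fin 7, pairK i j < 512 := by decide +kernel

theorem code_invols : autComp codeA codeA = autId ∧ autComp codeB codeB = autId ∧
    autComp codeA codeB = autComp codeB codeA ∧ autComp codeY codeA = autComp codeA codeY ∧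
    autComp codeY (autComp codeY codeY) = autId ∧ autComp codeX codeX = autId ∧
    autComp (autComp codeB (autComp (autComp codeY codeB) (autComp codeY codeY)))
      (autComp (autComp codeY (autComp (autComp codeY codeB) (autComp codeY codeY))) (autComp codeY codeY))
      = autId := by
  decide +kernel

theorem code_split4 : (∀ v : Fin 256, linV (linPart codeA) v = v → ∃ s : Fin 256, linV (linPart codeA) s ^^^ s = v) ∧
    (∀ v : Fin 256, linV (linPart codeX) v = v → ∃ s : Fin 256, linV (linPart codeX) s ^^^ s = v) := by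
  decide +kernel

theorem wab_spec : ∀ x : Fin 9, p7Word wab (p7Word wb x) = p7Word w2 (p7Word wab x) := by
  decide +kernel

theorem words_lt : (∀ k ∈ wb, k < 7) ∧ (∀ k ∈ wy, k < 7) ∧ (∀ k ∈ w2, k < 7) ∧ ∀ k ∈ w4, k < 7 := by
  decide +kernel

/-- Seven elements inducing the given automorphisms. -/
structure Gens {C : Type*} [Group C] (Q : Subgroup C) (z : C) (g : ℕ → C)
    (π : C →* ↥(alternatingGroup (Fin 9))) (x : ℕ → C) : Prop where
  fr : Fr Q z g π spinM
  img : ∀ k < 7, π (x k) = g7Word [k]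
  act : ∀ k < 7, Acts z g (x k) (spinY.getD k autId)
  cube : ∀ k < 7, x k * x k * x k = 1

theorem exists_gens {C : Type*} [Group C] {Q : Subgroup C} {z : C} {g : ℕ → C}
    {π : C →* ↥(alternatingGroup (Fin 9))} (h : Fr Q z g π spinM) : ∃ x, Gens Q z g π x := by
  have hC := h.coords
  have key : ∀ k : Fin 7, ∃ c, π c = g7 k ∧ Acts z g c (spinY.getD k autId) ∧ c * c * c = 1 := by
    intro k
    obtain ⟨c, hc⟩ := h.surj (g7 k)
    obtain ⟨A, hA⟩ := hC.exists_acts c
    obtain ⟨-, -, hk⟩ := spinY_facts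
    obtain ⟨hl, hlt, hlin, hcube⟩ := hk k
    obtain ⟨q, hq, hq'⟩ := hC.exists_adjust hA hl (fun i hi => hlt ⟨i, hi⟩) (by rw [hlin]; exact h.lin c k A hc hA)
    have h3 : Acts z g (c * q * (c * q * (c * q))) autId := by
      have := hC.acts_mul hq' (hC.acts_mul hq' hq')
      rwa [hcube] at this
    obtain ⟨b, hb⟩ := hC.acts_id_zp h3
    refine ⟨c * q * zp z b, ?_, hC.acts_mul_zp hq' b, ?_⟩
    · rw [map_mul, map_mul, h.pi_zp, mul_one, (h.mem_iff q).mp hq, mul_one, hc]
    · have hz := zp_comm hC.z_comm b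
      calc c * q * zp z b * (c * q * zp z b) * (c * q * zp z b)
          = c * q * (zp z b * (c * q)) * (zp z b * (c * q)) * zp z b := by group
        _ = c * q * ((c * q) * zp z b) * ((c * q) * zp z b) * zp z b := by rw [← hz (c * q)]
        _ = c * q * (c * q) * (zp z b * (c * q)) * (zp z b * zp z b) := by group
        _ = c * q * (c * q) * ((c * q) * zp z b) * 1 := by
            rw [← hz (c * q), zp_mul hC.z_sq, Bool.xor_self]; rfl
        _ = (c * q * (c * q * (c * q))) * zp z b := by group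
        _ = 1 := by rw [hb, zp_mul hC.z_sq, Bool.xor_self]; rfl
  choose c hc using key
  refine ⟨fun n => c ⟨n % 7, Nat.mod_lt _ (by norm_num)⟩, h, fun k hk => ?_, fun k hk => ?_, fun k _ => (hc _).2.2⟩
  · rw [(hc _).1]; simp [g7Word]
  · have := (hc ⟨k, hk⟩).2.1
    simpa [Nat.mod_eq_of_lt hk] using this

namespace Gens

variable {C : Type*} [Group C] {Q : Subgroup C} {z : C} {g : ℕ → C}
  {π : C →* ↥(alternatingGroup (Fin 9))} {x : ℕ → C} (h : Gens Q z g π x)

include h

theorem pi_word : ∀ w : List ℕ, (∀ k ∈ w, k < 7) → π (prodX x w) = g7Word w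
  | [], _ => map_one π
  | k :: w, hw => by
    rw [prodX, map_mul, h.img k (hw k List.mem_cons_self), pi_word w fun j hj => hw j (List.mem_cons_of_mem _ hj)]
    simp [g7Word]

theorem acts_word (w : List ℕ) (hw : ∀ k ∈ w, k < 7) : Acts z g (prodX x w) (autWord spinY w) :=
  h.fr.coords.acts_prodX w fun k hk => h.act k (hw k hk)

theorem acts_a : Acts z g (prodX x w2) codeA := h.acts_word w2 words_lt.2.2.1

theorem a_sq : ∃ ε, prodX x w2 * prodX x w2 = zp z ε := by
  have := h.fr.coords.acts_mul h.acts_a h.acts_a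
  rw [code_invols.1] at this
  exact h.fr.coords.acts_id_zp this

/-- Squares of products of two of the generators. -/
theorem pair {ε : Bool} (hε : prodX x w2 * prodX x w2 = zp z ε) {i j : Fin 7} (hij : i ≠ j) :
    x i * x j * (x i * x j) = zp z ε * el z g (pairK i j) := by
  have hC := h.fr.coords
  obtain ⟨hw, hp, -, hcomm, hval⟩ := pair_facts i j hij
  set p := (pairShift.getD i []).getD j 0
  set w := (pairWord.getD i []).getD j []
  set a := prodX x w2
  set H := prodX x w
  set D := x i * x j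
  have hD : Acts z g (D * el z g p) (codeP i j) :=
    hC.acts_mul (hC.acts_mul (h.act i i.2) (h.act j j.2)) (hC.acts_el_self hp)
  have h1 : Acts z g (D * el z g p * H) (autComp (autWord spinY w) codeA) :=
    hcomm ▸ hC.acts_mul hD (h.acts_word w hw)
  have h2 : Acts z g (H * a) (autComp (autWord spinY w) codeA) := hC.acts_mul (h.acts_word w hw) h.acts_a
  obtain ⟨b, hb⟩ : ∃ b, D * el z g p = H * a * H⁻¹ * zp z b := by
    rcases hC.acts_same h1 h2 with e | e
    · refine ⟨false, ?_⟩
      rw [← e]; simp [zp]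
    · refine ⟨true, ?_⟩
      calc D * el z g p = D * el z g p * H * H⁻¹ := by group
        _ = H * a * (z * H⁻¹) := by rw [e]; group
        _ = H * a * H⁻¹ * zp z true := by rw [← hC.z_comm H⁻¹]; simp [zp, mul_assoc]
  set m := H * a * H⁻¹
  have hm : m = D * el z g p * zp z b := by
    rw [hb, mul_assoc, zp_mul hC.z_sq, Bool.xor_self]; exact (mul_one m).symm
  have hmA : Acts z g m (codeP i j) := hm ▸ hC.acts_mul_zp hD b
  have hm2 : m * m = zp z ε := by
    calc m * m = H * (a * a) * H⁻¹ := by simp only [m]; group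
      _ = zp z ε := by rw [hε, zp_comm hC.z_comm, mul_inv_cancel_right]
  set q := el z g (invCode p) with hqdef
  have hDq : D = m * q * zp z b := by
    rw [hm, hqdef, ← hC.el_inv hp, mul_assoc _ (zp z b), ← zp_comm hC.z_comm b (el z g p)⁻¹, ← mul_assoc,
      mul_inv_cancel_right, mul_assoc, zp_mul hC.z_sq, Bool.xor_self]
    exact (mul_one D).symm
  obtain ⟨hc1, hc2⟩ := hC.acts_el hmA (invCode_lt hp)
  calc D * D = m * q * (zp z b * (m * q)) * zp z b := by rw [hDq]; group
    _ = m * q * (m * q) * (zp z b * zp z b) := by rw [← zp_comm hC.z_comm b (m * q)]; group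
    _ = m * q * (m * q) := by rw [zp_mul hC.z_sq, Bool.xor_self]; exact mul_one _
    _ = (m * q * m⁻¹) * (m * m) * q := by group
    _ = zp z ε * ((m * q * m⁻¹) * q) := by rw [hm2, zp_comm hC.z_comm, mul_assoc]
    _ = zp z ε * el z g (pairK i j) := by rw [hqdef, hc1, hC.el_mul (invCode_lt hp), hval]

theorem rels {ε : Bool} (hε : prodX x w2 * prodX x w2 = zp z ε) :
    Rels Q z g ε spinY pairK (fun k : Fin 7 => x k) where
  act k := h.act k k.2
  cube k := h.cube k k.2
  pair i j hij := h.pair hε hij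
  gen := h.fr.gen_top fun k => by rw [h.img k k.2]; exact g7Word_single k

/-- An element with central square over an involution whose fixed vectors are commutators is a
conjugate of any other up to the centre. -/
theorem lift_conj {x0 : C} {X : List ℕ} (hX : Acts z g x0 X) (hX2 : autComp X X = autId)
    (hsplit : ∀ v : Fin 256, linV (linPart X) v = v → ∃ s : Fin 256, linV (linPart X) s ^^^ s = v)
    {u : C} (hu : π u = π x0) {k : Bool} (hu2 : u * u = zp z k) :
    ∃ s < 256, ∃ b, u = el z g s * x0 * (el z g s)⁻¹ * zp z b := by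
  have hC := h.fr.coords
  obtain ⟨k0, hk0⟩ : ∃ k0, x0 * x0 = zp z k0 := hC.acts_id_zp (hX2 ▸ hC.acts_mul hX hX)
  obtain ⟨e, he, hee⟩ := hC.surj (x0⁻¹ * u)
    ((h.fr.mem_iff _).mpr (by rw [map_mul, map_inv, hu, inv_mul_cancel]))
  obtain ⟨hc1, hc2⟩ := hC.acts_el hX he
  have hsum : el z g (autApp X e) * el z g e = zp z (xor k k0) := by
    have h1 : zp z k = el z g (autApp X e) * zp z k0 * el z g e := by
      rw [← hu2, show u = x0 * el z g e by rw [hee, mul_inv_cancel_left], ← hc1, ← hk0]; group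
    rw [← zp_mul hC.z_sq, h1, zp_comm hC.z_comm k0 (el z g (autApp X e)), mul_assoc (zp z k0),
      mul_assoc (zp z k0), zp_comm hC.z_comm k0 (el z g (autApp X e) * el z g e), ← mul_assoc (zp z k0),
      zp_mul hC.z_sq, Bool.xor_self]
    exact (one_mul _).symm
  have hlow : linV (linPart X) (e &&& 255) = e &&& 255 := by
    rw [hC.el_mul he] at hsum
    have e1 : el z g (emul (autApp X e) e) = el z g (if xor k k0 then 256 else 0) := by
      rw [hsum]; cases xor k k0 <;> simp [zp, hC.el_256, hC.el_zero]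
    have e2 := congrArg (· &&& 255) (hC.el_inj _ (emul_lt hc2 he) _ (by split <;> norm_num) e1)
    simp only [emul_and_255, autApp_low] at e2
    rw [show (if xor k k0 then 256 else 0) &&& 255 = 0 by split <;> rfl] at e2
    exact Nat.xor_eq_zero_iff.mp e2
  obtain ⟨s, hs⟩ := hsplit ⟨_, and_255_lt e⟩ hlow
  obtain ⟨hm, hmlt⟩ := hC.comm_el hX (s := (s : ℕ)) (s.2.trans (by norm_num))
  have hq : el z g s * x0 * (el z g s)⁻¹ = x0 * el z g (comCode X s) := by
    have hinv : x0⁻¹ = x0 * zp z k0 := by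
      apply inv_eq_of_mul_eq_one_right
      rw [← mul_assoc, hk0, zp_mul hC.z_sq, Bool.xor_self]; rfl
    rw [← hm]
    symm
    calc x0 * (x0 * el z g (s : ℕ) * x0⁻¹ * (el z g (s : ℕ))⁻¹)
        = (x0 * x0) * el z g (s : ℕ) * x0⁻¹ * (el z g (s : ℕ))⁻¹ := by group
      _ = el z g (s : ℕ) * (zp z k0 * x0) * (zp z k0 * (el z g (s : ℕ))⁻¹) := by
          rw [hk0, hinv, ← zp_comm hC.z_comm k0 (el z g (s : ℕ))]; group
      _ = el z g (s : ℕ) * x0 * (zp z k0 * zp z k0) * (el z g (s : ℕ))⁻¹ := by
          rw [← zp_comm hC.z_comm k0 x0]; group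
      _ = el z g (s : ℕ) * x0 * (el z g (s : ℕ))⁻¹ := by
          rw [zp_mul hC.z_sq, Bool.xor_self, show zp z false = 1 from rfl, mul_one]
  have hlowe : comCode X s &&& 255 = e &&& 255 := by
    rw [comCode_low, and_255_of_lt s.2]; exact hs
  rw [show u = x0 * el z g e by rw [hee, mul_inv_cancel_left]]
  rcases hC.el_low he hmlt hlowe.symm with e1 | e1
  · refine ⟨s, s.2, false, ?_⟩
    rw [hq, e1]; exact (mul_one _).symm
  · refine ⟨s, s.2, true, ?_⟩
    rw [hq, e1, ← mul_assoc]; rfl

theorem lift_sq {x0 : C} {X : List ℕ} (hX : Acts z g x0 X) (hX2 : autComp X X = autId)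
    (hsplit : ∀ v : Fin 256, linV (linPart X) v = v → ∃ s : Fin 256, linV (linPart X) s ^^^ s = v)
    {u : C} (hu : π u = π x0) {k : Bool} (hu2 : u * u = zp z k) : u * u = x0 * x0 := by
  have hC := h.fr.coords
  obtain ⟨k0, hk0⟩ : ∃ k0, x0 * x0 = zp z k0 := hC.acts_id_zp (hX2 ▸ hC.acts_mul hX hX)
  obtain ⟨s, -, b, rfl⟩ := h.lift_conj hX hX2 hsplit hu hu2
  set q := el z g s
  calc q * x0 * q⁻¹ * zp z b * (q * x0 * q⁻¹ * zp z b)
      = q * x0 * q⁻¹ * (zp z b * (q * x0 * q⁻¹)) * zp z b := by group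
    _ = q * (x0 * x0) * q⁻¹ * (zp z b * zp z b) := by rw [← zp_comm hC.z_comm b (q * x0 * q⁻¹)]; group
    _ = x0 * x0 := by
        rw [zp_mul hC.z_sq, Bool.xor_self, hk0, zp_comm hC.z_comm k0 q, mul_inv_cancel_right]
        exact mul_one _

/-- The squares over the first class. -/
theorem sq_class2 {u : C} {τ : ↥(alternatingGroup (Fin 9))} (hu : τ * π u * τ⁻¹ = g7Word w2) {k : Bool}
    (hu2 : u * u = zp z k) : u * u = prodX x w2 * prodX x w2 := by
  have hC := h.fr.coords
  obtain ⟨c, rfl⟩ := h.fr.surj τ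
  have h1 : c * u * c⁻¹ * (c * u * c⁻¹) = zp z k := by
    calc c * u * c⁻¹ * (c * u * c⁻¹) = c * (u * u) * c⁻¹ := by group
      _ = zp z k := by rw [hu2, zp_comm hC.z_comm, mul_inv_cancel_right]
  have h2 := h.lift_sq h.acts_a code_invols.1 code_split4.1 (u := c * u * c⁻¹)
    (by rw [map_mul, map_mul, map_inv, hu, h.pi_word w2 words_lt.2.2.1]) h1
  rw [← h2, h1, hu2]

/-- If the square over the first class is trivial, so is the one over the second. -/
theorem sq_x0 (hε : prodX x w2 * prodX x w2 = 1) :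
    ∃ x0, Acts z g x0 codeX ∧ π x0 = g7Word w4 ∧ x0 * x0 = 1 := by
  have hC := h.fr.coords
  obtain ⟨lb, ly, l2, l4⟩ := words_lt
  obtain ⟨-, cB, cAB, cYA, cY3, -, cP⟩ := code_invols
  set a := prodX x w2 with hadef
  set b := prodX x wb * el z g 2 with hbdef
  set y := prodX x wy * el z g 3 with hydef
  have hA : Acts z g a codeA := h.acts_a
  have hB : Acts z g b codeB := hC.acts_mul (h.acts_word wb lb) (hC.acts_el_self (by norm_num))
  have hY : Acts z g y codeY := hC.acts_mul (h.acts_word wy ly) (hC.acts_el_self (by norm_num))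
  have hpb : π b = g7Word wb := by rw [hbdef, map_mul, h.fr.pi_el, mul_one, h.pi_word wb lb]
  have hb2 : b * b = 1 := by
    obtain ⟨k, hk⟩ : ∃ k, b * b = zp z k := hC.acts_id_zp (cB ▸ hC.acts_mul hB hB)
    refine (h.sq_class2 (τ := g7Word wab) ?_ hk).trans hε
    rw [hpb, mul_inv_eq_iff_eq_mul]
    refine Subtype.ext ?_
    rw [Subgroup.coe_mul, Subgroup.coe_mul, g7Word_coe, g7Word_coe, g7Word_coe]
    refine Equiv.ext fun i => ?_
    rw [Equiv.Perm.mul_apply, Equiv.Perm.mul_apply]
    exact wab_spec i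
  have zc := fun (k : Bool) (c : C) => zp_comm hC.z_comm k c
  have two : ∀ {c d : C} {A B : List ℕ}, Acts z g c A → Acts z g d B → autComp A B = autComp B A →
      ∃ k, c * d = d * c * zp z k := fun hc hd e => by
    rcases hC.acts_same (hC.acts_mul hc hd) (e.symm ▸ hC.acts_mul hd hc) with e1 | e1
    · exact ⟨false, by rw [e1]; exact (mul_one _).symm⟩
    · exact ⟨true, e1⟩
  obtain ⟨k, hk⟩ := two hA hB cAB
  obtain ⟨k1, hk1⟩ := two hY hA cYA
  have conjstep : ∀ c, a * c = c * a * zp z k → a * (y * c * y⁻¹) = y * c * y⁻¹ * a * zp z k := by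
    intro c hc
    have e1 : y * a * y⁻¹ = a * zp z k1 := by
      rw [hk1, mul_assoc, ← zc, ← mul_assoc, mul_inv_cancel_right]
    have e2 : (y * a * y⁻¹) * (y * c * y⁻¹) = (y * c * y⁻¹) * (y * a * y⁻¹) * zp z k := by
      calc (y * a * y⁻¹) * (y * c * y⁻¹) = y * (a * c) * y⁻¹ := by group
        _ = y * (c * a) * (zp z k * y⁻¹) := by rw [hc]; group
        _ = _ := by rw [← zc]; group
    rw [e1] at e2
    refine mul_right_cancel (b := zp z k1) ?_
    calc a * (y * c * y⁻¹) * zp z k1 = a * zp z k1 * (y * c * y⁻¹) := by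
          rw [mul_assoc a, zc, ← mul_assoc]
      _ = y * c * y⁻¹ * (a * zp z k1) * zp z k := e2
      _ = y * c * y⁻¹ * a * zp z k * zp z k1 := by
          rw [← mul_assoc, mul_assoc _ (zp z k1) (zp z k), mul_assoc _ (zp z k) (zp z k1), zc k (zp z k1)]
  obtain ⟨Yi, hYi⟩ : ∃ Yi, Acts z g y⁻¹ Yi ∧ Yi = autComp codeY codeY := by
    obtain ⟨k3, hk3⟩ : ∃ k3, y * (y * y) = zp z k3 := hC.acts_id_zp (cY3 ▸ hC.acts_mul hY (hC.acts_mul hY hY))
    refine ⟨_, ?_, rfl⟩
    have e : y⁻¹ = y * y * zp z k3 := by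
      apply inv_eq_of_mul_eq_one_right
      rw [← mul_assoc, hk3, zp_mul hC.z_sq, Bool.xor_self]; rfl
    rw [e]
    exact hC.acts_mul_zp (hC.acts_mul hY hY) k3
  set b1 := y * b * y⁻¹ with hb1def
  set b2 := y * b1 * y⁻¹ with hb2def
  have k_b1 : a * b1 = b1 * a * zp z k := conjstep b hk
  have k_b2 : a * b2 = b2 * a * zp z k := conjstep b1 k_b1
  have hP : Acts z g (b * b1 * b2) autId := by
    have hB1 : Acts z g b1 (autComp (autComp codeY codeB) (autComp codeY codeY)) :=
      hYi.2 ▸ hC.acts_mul (hC.acts_mul hY hB) hYi.1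
    have := hC.acts_mul (hC.acts_mul hB hB1)
      (hYi.2 ▸ hC.acts_mul (hC.acts_mul hY hB1) hYi.1 : Acts z g b2 _)
    rwa [cP] at this
  obtain ⟨kp, hkp⟩ := hC.acts_id_zp hP
  have hk0 : k = false := by
    have e1 : a * (b * b1 * b2) = b * b1 * b2 * a * (zp z k * zp z k * zp z k) := by
      calc a * (b * b1 * b2) = (a * b) * (b1 * b2) := by group
        _ = b * a * (zp z k * (b1 * b2)) := by rw [hk, mul_assoc _ (zp z k)]
        _ = b * (a * b1) * (b2 * zp z k) := by rw [← zc]; group
        _ = b * b1 * a * (zp z k * b2) * zp z k := by rw [k_b1]; group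
        _ = b * b1 * (a * b2) * (zp z k * zp z k) := by rw [← zc k b2]; group
        _ = _ := by rw [k_b2]; group
    rw [hkp, zc, zp_mul hC.z_sq, zp_mul hC.z_sq] at e1
    have e2 : zp z (xor (xor k k) k) = 1 := mul_eq_left.mp e1.symm
    cases k
    · rfl
    · exact absurd e2 hC.z_ne
  refine ⟨a * b, hC.acts_mul hA hB, ?_, ?_⟩
  · rw [map_mul, hpb, hadef, h.pi_word w2 l2]
    simp [w2, w4, wb, g7Word, mul_assoc]
  · rw [hk0] at hk
    have hab : a * b = b * a := hk.trans (mul_one _)
    calc a * b * (a * b) = a * (b * a) * b := by group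
      _ = (a * a) * (b * b) := by rw [← hab]; group
      _ = 1 := by rw [hε, hb2, one_mul]

end Gens

end CfsgLib.ThType
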