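import Cfsg.Agent.Lib.ThType.Move
import Cfsg.Agent.Lib.ThType.Spin
import Cfsg.Agent.Lib.ThType.OrbitData

/-!
In the first module a conjugate of the central involution lies in the extraspecial subgroup, and the
products of two generators square to it.
-/

set_option autoImplicit false
set_option linter.style.haveILetI false
set_option Elab.async false

namespace CfsgLib.ThType

/-- a five-cycle commuting with the representative -/
def wf : List ℕ := [3, 2, 6, 5, 4, 3, 2]

/-- the code of the square of the five-cycle -/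
def codeF : List ℕ := autComp (autComp (autWord spinY wf) (innCode 9)) (autComp (autWord spinY wf) (innCode 9))

/-- the matrix of the five-cycle -/
def linF : List ℕ := linPart codeF

/-- a preimage of a commutator vector -/
def sofU (v : ℕ) : ℕ :=
  ((List.range 256).find? fun s => Nat.beq (linV (linPart codeA) s ^^^ s) v).getD 0

/-- the allowed element over a fixed vector -/
def sigU (v : ℕ) : ℕ := comCode codeA (sofU v) ^^^ 256

/-- the fixed codes -/
def fixU : List ℕ := (List.range 512).filter fun e => Nat.beq (autApp codeA e) e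

theorem wf_lt : ∀ k ∈ wf, k < 7 := by decide +kernel

theorem codeF_comm : autComp (autComp (autWord spinY wf) (innCode 9)) codeA =
    autComp codeA (autComp (autWord spinY wf) (innCode 9)) := by
  decide +kernel

theorem fixU_facts : fixU.length = 32 ∧ fixU.Nodup ∧ ∀ a ∈ fixU, ∀ b ∈ fixU,
    a < 512 ∧ emul a b = emul b a := by
  decide +kernel

theorem sigU_ok : ∀ v : Fin 256, (v : ℕ) ≠ 0 → linV (linPart codeA) v = v →
    sofU v < 256 ∧ comCode codeA (sofU v) &&& 255 = v := by
  decide +kernel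

theorem sigU_open : ∀ a : Fin 256, (a : ℕ) ≠ 0 → linV (linPart codeA) a = a →
    ((a : ℕ) ≠ linV linF a ∧ emul (sigU a) (sigU (linV linF a)) ≠ sigU ((a : ℕ) ^^^ linV linF a)) ∨
    ((a : ℕ) ≠ linV linF (linV linF a) ∧
      emul (sigU a) (sigU (linV linF (linV linF a))) ≠ sigU ((a : ℕ) ^^^ linV linF (linV linF a))) ∨
    ((a : ℕ) ≠ linV linF a ∧ (a : ℕ) ^^^ linV linF a ≠ linV linF (linV linF a) ∧
      emul (sigU ((a : ℕ) ^^^ linV linF a)) (sigU (linV linF (linV linF a))) ≠
        sigU ((a : ℕ) ^^^ linV linF a ^^^ linV linF (linV linF a))) := by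
  decide +kernel

theorem spin_crit : Crit (linWord spinM w4) := by decide +kernel

theorem spinOrb_ok : ∀ v : Fin 256, v ≠ 0 → qd v = false →
    (∀ k ∈ spinOrb.getD v [], k < 7) ∧ linV (linWord spinM (spinOrb.getD v [])) v = 240 := by
  decide +kernel

theorem roots_code : autComp (autComp codeX (innCode 3)) (autComp codeX (innCode 3)) = innCode 240 ∧
    qd (comCode (autComp codeX (innCode 3)) 1 &&& 255) = true ∧
    emul 1 240 = emul 240 1 := by
  decide +kernel

theorem code_split4' : ∀ v : Fin 256, linV (linPart codeX) v = v →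
    ∃ s : Fin 256, linV (linPart codeX) s ^^^ s = v := code_split4.2

namespace Ctx

variable {G : Type*} [Group G] [Finite G] {t : G}
  {Q : Subgroup (Subgroup.centralizer ({t} : Set G))} {z : Subgroup.centralizer ({t} : Set G)}
  {g : ℕ → Subgroup.centralizer ({t} : Set G)}
  {π : ↥(Subgroup.centralizer ({t} : Set G)) →* ↥(alternatingGroup (Fin 9))}
  {x : ℕ → Subgroup.centralizer ({t} : Set G)}
  (h : Ctx Q z g π spinM) (hx : Gens Q z g π x)

include h hx

/-- No conjugate over the first class, if none is in `Q`. -/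
theorem no_cand2 (hnf : ¬ Fused Q) {u : Subgroup.centralizer ({t} : Set G)} (hu : Cand π u)
    (hπ : π u = g7Word w2) : False := by
  have hC := h.fr.coords
  obtain ⟨-, -, l2, -⟩ := words_lt
  obtain ⟨s0, hs0, b0, hu0⟩ := hx.lift_conj hx.acts_a code_invols.1 code_split4.1 (u := u) (k := false)
    (by rw [hπ, hx.pi_word w2 l2]) (by rw [h.cand_sq hu]; rfl)
  set q0 := el z g s0
  set v := q0⁻¹ * u * q0⁻¹⁻¹ with hvdef
  have hv : Cand π v := h.cand_conj hu q0⁻¹
  have hveq : v = prodX x w2 * zp z b0 := by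
    rw [hvdef, hu0, inv_inv]
    calc q0⁻¹ * (q0 * prodX x w2 * q0⁻¹ * zp z b0) * q0
        = prodX x w2 * (q0⁻¹ * (zp z b0 * q0)) := by group
      _ = prodX x w2 * zp z b0 := by rw [← zp_comm hC.z_comm, inv_mul_cancel_left]
  have hvA : Acts z g v codeA := hveq ▸ hC.acts_mul_zp hx.acts_a b0
  have hv2 := h.cand_sq hv
  obtain ⟨γ, hγ⟩ := isConj_iff.mp hv.2
  have hvt : (v : G) ≠ t := fun e => hv.1 (by
    rw [show v = z from Subtype.ext (e.trans h.zt.symm), ← hC.el_256, h.fr.pi_el])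
  -- the five-cycle
  set f0 := prodX x wf * el z g 9 with hf0def
  have hF0 : Acts z g f0 (autComp (autWord spinY wf) (innCode 9)) :=
    hC.acts_mul (hx.acts_word wf wf_lt) (hC.acts_el_self (by norm_num))
  set f := f0 * f0 with hfdef
  have hF : Acts z g f codeF := hC.acts_mul hF0 hF0
  have hfv : f * v = v * f := by
    obtain ⟨k, hk⟩ : ∃ k, f0 * v = v * f0 * zp z k := by
      rcases hC.acts_same (hC.acts_mul hF0 hvA) (codeF_comm ▸ hC.acts_mul hvA hF0) with e | e
      · exact ⟨false, by rw [e]; exact (mul_one _).symm⟩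
      · exact ⟨true, e⟩
    calc f0 * f0 * v = f0 * (f0 * v) := mul_assoc _ _ _
      _ = f0 * (v * f0 * zp z k) := by rw [hk]
      _ = (f0 * v) * (f0 * zp z k) := by group
      _ = v * f0 * (zp z k * f0) * zp z k := by rw [hk]; group
      _ = v * (f0 * f0) * (zp z k * zp z k) := by rw [← zp_comm hC.z_comm k f0]; group
      _ = v * (f0 * f0) := by rw [zp_mul hC.z_sq, Bool.xor_self]; exact mul_one _
  set Q' := Q.map (Subgroup.centralizer ({t} : Set G)).subtype with hQ'
  -- the fixed elements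
  have hfix : ∀ e < 512, autApp codeA e = e → v * el z g e = el z g e * v := fun e he hea => by
    have := (hC.acts_el hvA he).1
    rw [hea] at this
    exact mul_inv_eq_iff_eq_mul.mp this
  set N : Set ℕ := {e | e < 512 ∧ v * el z g e = el z g e * v ∧ γ⁻¹ * ((el z g e : Cn t) : G) * γ ∈ Q'} with hN
  have hNmul : ∀ a ∈ N, ∀ b ∈ N, emul a b ∈ N := by
    rintro a ⟨ha, hac, ham⟩ b ⟨hb, hbc, hbm⟩
    refine ⟨emul_lt ha hb, ?_, ?_⟩ <;> rw [← hC.el_mul hb]
    · rw [← mul_assoc, hac, mul_assoc, hbc, mul_assoc]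
    · have := Subgroup.mul_mem _ ham hbm
      rw [show γ⁻¹ * ((el z g a : Cn t) : G) * γ * (γ⁻¹ * ((el z g b : Cn t) : G) * γ) =
        γ⁻¹ * ((el z g a * el z g b : Cn t) : G) * γ by rw [Subgroup.coe_mul]; group] at this
      exact this
  have hNf : ∀ a ∈ N, autApp codeF a ∈ N := by
    rintro a ⟨ha, hac, ham⟩
    obtain ⟨e1, e2⟩ := hC.acts_el hF ha
    refine ⟨e2, ?_, ?_⟩ <;> rw [← e1]
    · have hfi : v * f⁻¹ = f⁻¹ * v := by
        calc v * f⁻¹ = f⁻¹ * (f * v) * f⁻¹ := by group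
          _ = f⁻¹ * v := by rw [hfv]; group
      calc v * (f * el z g a * f⁻¹) = (v * f) * el z g a * f⁻¹ := by group
        _ = f * (v * el z g a) * f⁻¹ := by rw [← hfv]; group
        _ = f * el z g a * (v * f⁻¹) := by rw [hac]; group
        _ = f * el z g a * f⁻¹ * v := by rw [hfi]; group
    · exact h.invariant hγ hfv ham
  have hNfix : ∀ a ∈ N, linV (linPart codeA) (a &&& 255) = a &&& 255 := by
    rintro a ⟨ha, hac, -⟩
    obtain ⟨e1, e2⟩ := hC.acts_el hvA ha
    rw [mul_inv_eq_iff_eq_mul.mpr hac] at e1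
    rw [← autApp_low, ← hC.el_inj a ha _ e2 e1]
  have hN256 : 256 ∉ N := by
    rintro ⟨-, -, hm⟩
    rw [hC.el_256, h.zt] at hm
    obtain ⟨q, hq, e⟩ := hm
    have e' : (q : G) = γ⁻¹ * t * γ := e
    refine hnf ⟨q, hq, fun e2 => hvt ?_, isConj_iff.mpr ⟨γ⁻¹, by rw [e', inv_inv]⟩⟩
    rw [← hγ]
    rw [e'] at e2
    calc γ * t * γ⁻¹ = γ * (γ⁻¹ * t * γ) * γ⁻¹ := by rw [e2]
      _ = t := by group
  have hNsig : ∀ a ∈ N, a &&& 255 ≠ 0 → a = sigU (a &&& 255) := by
    intro a haN h0
    obtain ⟨ha, hac, ham⟩ := id haN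
    obtain ⟨hs, hlow⟩ := sigU_ok ⟨_, and_255_lt a⟩ h0 (hNfix a haN)
    obtain ⟨hc1, hc2⟩ := hC.comm_el hvA (s := sofU (a &&& 255)) (hs.trans (by norm_num))
    have hnot : el z g a ≠ el z g (comCode codeA (sofU (a &&& 255))) := by
      intro e
      set q := el z g (sofU (a &&& 255))
      rw [← hc1] at e
      have hvi : v⁻¹ = v := inv_eq_of_mul_eq_one_right hv2
      have e1 : v * el z g a = q * v * q⁻¹ := by
        rw [e, hvi]; simp only [← mul_assoc, hv2, one_mul]
      obtain ⟨qq, hqq, e2⟩ := ham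
      have e2' : (qq : G) = γ⁻¹ * ((el z g a : Cn t) : G) * γ := e2
      refine hnf ⟨z * qq, Q.mul_mem hC.z_mem hqq, fun e3 => ?_, ?_⟩
      · have e4 : (qq : G) = 1 := by
          rw [Subgroup.coe_mul, h.zt] at e3
          exact mul_eq_left.mp e3
        have e5 : el z g a = 1 := by
          refine Subtype.ext ?_
          calc ((el z g a : Cn t) : G) = γ * (γ⁻¹ * ((el z g a : Cn t) : G) * γ) * γ⁻¹ := by group
            _ = 1 := by rw [← e2', e4, mul_one, mul_inv_cancel]
        exact (h.el_ne ha h0).2 e5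
      · have e6 : ((z * qq : Cn t) : G) = γ⁻¹ * ((v * el z g a : Cn t) : G) * γ := by
          rw [Subgroup.coe_mul, Subgroup.coe_mul, h.zt, e2', ← hγ]; group
        rw [e6]
        have e7 : IsConj t ((v * el z g a : Cn t) : G) := by
          rw [e1]
          exact hv.2.trans (isConj_iff.mpr ⟨(q : G), rfl⟩)
        exact e7.trans (isConj_iff.mpr ⟨γ⁻¹, by rw [inv_inv]⟩)
    have hlt : comCode codeA (sofU (a &&& 255)) ^^^ 256 < 512 := xor_lt (k := 9) hc2 (by norm_num)
    rcases hC.el_low ha hc2 hlow.symm with e | e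
    · exact absurd e hnot
    · refine hC.el_inj a ha _ hlt ?_
      rw [e]
      show _ = el z g (comCode codeA (sofU (a &&& 255)) ^^^ 256)
      rw [el_eq, el_eq z g (_ ^^^ 256), Nat.testBit_xor, Nat.and_xor_distrib_right,
        show 256 &&& 255 = 0 from rfl, Nat.xor_zero, show Nat.testBit 256 8 = true from rfl,
        ← zp_mul hC.z_sq, mul_assoc, mul_assoc]
      congr 1
      exact hC.z_comm _
  have hNzero : ∀ a ∈ N, a = 0 := by
    intro a haN
    by_cases h0 : a &&& 255 = 0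
    · have ha := haN.1
      have h1 : a % 256 = 0 := by
        rw [show (256 : ℕ) = 2 ^ 8 from rfl, ← Nat.and_two_pow_sub_one_eq_mod]; exact h0
      rcases (show a = 0 ∨ a = 256 by omega) with rfl | rfl
      · rfl
      · exact absurd haN hN256
    exfalso
    have hb := hNf a haN
    have hc := hNf _ hb
    have lb : autApp codeF a &&& 255 = linV linF (a &&& 255) := autApp_low _ _
    have lc : autApp codeF (autApp codeF a) &&& 255 = linV linF (linV linF (a &&& 255)) := by
      rw [autApp_low, lb]; rfl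
    have key : ∀ p ∈ N, ∀ r ∈ N, p &&& 255 ≠ 0 → r &&& 255 ≠ 0 → p &&& 255 ≠ r &&& 255 →
        emul (sigU (p &&& 255)) (sigU (r &&& 255)) = sigU ((p &&& 255) ^^^ (r &&& 255)) := by
      intro p hp r hr hp0 hr0 hpr
      have e := hNsig _ (hNmul p hp r hr) (by
        rw [emul_and_255]; exact fun e => hpr (Nat.xor_eq_zero_iff.mp e))
      rw [emul_and_255] at e
      rw [← hNsig p hp hp0, ← hNsig r hr hr0]
      exact e
    have nz : ∀ p ∈ N, autApp codeF p &&& 255 = 0 → p &&& 255 = 0 := by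
      intro p hp e0
      obtain ⟨e1, e2⟩ := hC.acts_el hF hp.1
      rcases hC.el_lowzero e2 e0 with e3 | e3 <;> rw [e3] at e1
      · have e4 : el z g p = el z g 0 := by
          rw [hC.el_zero]
          calc el z g p = f⁻¹ * (f * el z g p * f⁻¹) * f := by group
            _ = 1 := by rw [e1]; group
        rw [hC.el_inj p hp.1 0 (by norm_num) e4]; rfl
      · have e4 : el z g p = el z g 256 := by
          rw [hC.el_256]
          calc el z g p = f⁻¹ * (f * el z g p * f⁻¹) * f := by group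
            _ = z := by rw [e1, hC.z_comm f⁻¹, inv_mul_cancel_right]
        rw [hC.el_inj p hp.1 256 (by norm_num) e4]; rfl
    have hb0 : autApp codeF a &&& 255 ≠ 0 := fun e => h0 (nz a haN e)
    have hc0 : autApp codeF (autApp codeF a) &&& 255 ≠ 0 := fun e => hb0 (nz _ hb e)
    rcases sigU_open ⟨_, and_255_lt a⟩ h0 (hNfix a haN) with ⟨d1, d2⟩ | ⟨d1, d2⟩ | ⟨d1, d2, d3⟩
    · exact d2 (by have := key a haN _ hb h0 hb0 (by rw [lb]; exact d1); rwa [lb] at this)
    · exact d2 (by have := key a haN _ hc h0 hc0 (by rw [lc]; exact d1); rwa [lc] at this)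
    · refine d3 ?_
      have hl : emul a (autApp codeF a) &&& 255 = (a &&& 255) ^^^ linV linF (a &&& 255) := by
        rw [emul_and_255, lb]
      have := key _ (hNmul a haN _ hb) _ hc (by rw [hl]; exact fun e => d1 (Nat.xor_eq_zero_iff.mp e)) hc0
        (by rw [hl, lc]; exact d2)
      rwa [hl, lc] at this
  -- an elementary subgroup of order thirty-two inside the alternating group
  set A : Subgroup (Subgroup.centralizer ({t} : Set G)) :=
    Subgroup.closure {a | ∃ e ∈ fixU, el z g e = a} with hA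
  obtain ⟨hlen, hnd, hfixc⟩ := fixU_facts
  have hgen : ∀ a ∈ A, a ∈ Q ∧ v * a = a * v := by
    intro a ha
    induction ha using Subgroup.closure_induction with
    | mem a ha =>
      obtain ⟨e, he, rfl⟩ := ha
      have he' := List.mem_filter.mp he
      exact ⟨hC.el_mem e, hfix e (List.mem_range.mp he'.1) (Nat.eq_of_beq_eq_true he'.2)⟩
    | one => exact ⟨Q.one_mem, by rw [mul_one, one_mul]⟩
    | mul a b _ _ ia ib => exact ⟨Q.mul_mem ia.1 ib.1, by rw [← mul_assoc, ia.2, mul_assoc, ib.2, mul_assoc]⟩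
    | inv a _ ia =>
      refine ⟨Q.inv_mem ia.1, ?_⟩
      calc v * a⁻¹ = a⁻¹ * (a * v) * a⁻¹ := by group
        _ = a⁻¹ * v := by rw [← ia.2]; group
  have hcomA : ∀ a ∈ A, ∀ b ∈ A, a * b = b * a := by
    intro a ha b hb
    have hle : A ≤ Subgroup.centralizer {a | ∃ e ∈ fixU, el z g e = a} := by
      rw [hA, Subgroup.closure_le]
      rintro _ ⟨e, he, rfl⟩
      rw [SetLike.mem_coe, Subgroup.mem_centralizer_iff]
      rintro _ ⟨e', he', rfl⟩
      rw [hC.el_mul (hfixc e he e he).1, hC.el_mul (hfixc e' he' e' he').1, (hfixc e' he' e he).2]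
    have hle2 : A ≤ Subgroup.centralizer (A : Set (Subgroup.centralizer ({t} : Set G))) := by
      conv_rhs => rw [hA, Subgroup.centralizer_closure]
      exact hle
    exact (Subgroup.mem_centralizer_iff.mp (hle2 hb) a ha)
  have hmemC : ∀ a : A, γ⁻¹ * ((a : Cn t) : G) * γ ∈ Subgroup.centralizer ({t} : Set G) := fun a => by
    rw [Subgroup.mem_centralizer_singleton_iff]
    have e : (v : G) * ((a : Cn t) : G) = ((a : Cn t) : G) * v := congrArg Subtype.val (hgen a a.2).2
    calc γ⁻¹ * ((a : Cn t) : G) * γ * t = γ⁻¹ * (((a : Cn t) : G) * (γ * t * γ⁻¹)) * γ := by group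
      _ = γ⁻¹ * ((γ * t * γ⁻¹) * ((a : Cn t) : G)) * γ := by rw [hγ, e]
      _ = t * (γ⁻¹ * ((a : Cn t) : G) * γ) := by group
  let φ : A →* ↥(alternatingGroup (Fin 9)) :=
    { toFun := fun a => π ⟨_, hmemC a⟩
      map_one' := by
        rw [← map_one π]; exact congrArg π (Subtype.ext (by simp))
      map_mul' := fun a b => by
        rw [← map_mul]; exact congrArg π (Subtype.ext (by simp [mul_assoc])) }
  have hφ : Function.Injective φ := by
    rw [← MonoidHom.ker_eq_bot_iff, Subgroup.eq_bot_iff_forall]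
    intro a ha
    rw [MonoidHom.mem_ker] at ha
    obtain ⟨haQ, hav⟩ := hgen a a.2
    obtain ⟨e, he, hee⟩ := hC.surj (a : Cn t) haQ
    have : e ∈ N := ⟨he, by rw [hee]; exact hav, ⟨⟨_, hmemC a⟩, (h.fr.mem_iff _).mpr ha, by rw [hee]; rfl⟩⟩
    rw [hNzero e this, hC.el_zero] at hee
    exact Subtype.ext hee.symm
  have h32 : 32 ≤ Nat.card A := by
    have hm : ∀ i : Fin 32, el z g (fixU.getD i.val 0) ∈ A := fun i => by
      rw [List.getD_eq_getElem _ _ (show i.val < fixU.length by omega)]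
      exact Subgroup.subset_closure ⟨_, List.getElem_mem _, rfl⟩
    have := Nat.card_le_card_of_injective (fun i : Fin 32 => (⟨_, hm i⟩ : A)) fun i j e => by
      have hi : i.val < fixU.length := by omega
      have hj : j.val < fixU.length := by omega
      have e1 := congrArg Subtype.val e
      simp only [List.getD_eq_getElem _ _ hi, List.getD_eq_getElem _ _ hj] at e1
      have e2 := hC.el_inj _ (hfixc _ (List.getElem_mem hi) _ (List.getElem_mem hi)).1 _
        (hfixc _ (List.getElem_mem hj) _ (List.getElem_mem hj)).1 e1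
      exact Fin.ext ((hnd.getElem_inj_iff).mp e2)
    simpa using this
  have := card_abelian_le φ.range (by
    rintro _ ⟨a, rfl⟩ _ ⟨b, rfl⟩
    rw [← map_mul, ← map_mul]
    exact congrArg φ (Subtype.ext (hcomA a a.2 b b.2)))
  rw [Nat.card_congr (MonoidHom.ofInjective hφ).toEquiv] at h32
  omega

theorem spin_fused (hG : Subgroup.centralizer ({t} : Set G) ⊔ Cfsg.oddCore G ≠ ⊤) : Fused Q :=
  h.fused_of_crit hG fun hnf u A hu hπ hA => by
    rcases hπ with e | e
    · exact (h.no_cand2 hx hnf hu e).elim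
    · rw [h.fr.lift h.len w4 words_lt.2.2.2 u A e hA]; exact spin_crit

/-- The products of two generators square to the central involution. -/
theorem spin_sq (hG : Subgroup.centralizer ({t} : Set G) ⊔ Cfsg.oddCore G ≠ ⊤) :
    prodX x w2 * prodX x w2 = z := by
  have hC := h.fr.coords
  obtain ⟨ε, hε⟩ := hx.a_sq
  cases ε
  swap
  · exact hε
  exfalso
  have hε1 : prodX x w2 * prodX x w2 = 1 := hε
  obtain ⟨x0, hX0, hπ0, hx0⟩ := hx.sq_x0 hε1
  obtain ⟨-, -, -, -, -, cX, -⟩ := code_invols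
  have roots : ∀ c : Subgroup.centralizer ({t} : Set G), c * c = z → π c = 1 := by
    intro c hc
    by_contra hne
    have hπz : π z = 1 := (h.fr.mem_iff z).mp hC.z_mem
    obtain ⟨τ, hτ⟩ := invol_rep (σ := π c) (by rw [← map_mul, hc, hπz]) hne
    obtain ⟨d, rfl⟩ := h.fr.surj τ
    have hd : d * c * d⁻¹ * (d * c * d⁻¹) = zp z true := by
      calc d * c * d⁻¹ * (d * c * d⁻¹) = d * (c * c) * d⁻¹ := by group
        _ = zp z true := by rw [hc, hC.z_comm d, mul_inv_cancel_right]; rfl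
    rw [← map_inv, ← map_mul, ← map_mul] at hτ
    rcases hτ with e | e
    · have := hx.sq_class2 (u := d * c * d⁻¹) (τ := 1) (by rw [one_mul, inv_one, mul_one, e]) hd
      rw [hd, hε1] at this
      exact hC.z_ne this
    · have := hx.lift_sq hX0 cX code_split4' (u := d * c * d⁻¹) (by rw [e, hπ0]) hd
      rw [hd, hx0] at this
      exact hC.z_ne this
  obtain ⟨r1, r2, r3⟩ := roots_code
  obtain ⟨x1, hX1⟩ : ∃ x1, Acts z g x1 (autComp codeX (innCode 3)) :=
    ⟨x0 * el z g 3, hC.acts_mul hX0 (hC.acts_el_self (by norm_num))⟩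
  obtain ⟨e₀, he₀, γ₀, h0, hq0, hγ₀⟩ := h.fused_el (h.spin_fused hx hG)
  obtain ⟨hwl, hr⟩ := spinOrb_ok ⟨_, and_255_lt e₀⟩ (fun e => h0 (congrArg Fin.val e)) hq0
  obtain ⟨e, he, γ₁, hγ₁, hlow⟩ := h.fused_moved he₀ hγ₀ hwl
  have hlow' : e &&& 255 = 240 := hlow.trans hr
  have hne : e &&& 255 ≠ 0 := by rw [hlow']; decide
  have hsq : Acts z g (x1 * x1) (innCode 240) := r1 ▸ hC.acts_mul hX1 hX1
  have hsq' : x1 * x1 = el z g 240 ∨ x1 * x1 = el z g 240 * z :=
    hC.acts_same hsq (hC.acts_el_self (by norm_num))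
  have he240 : el z g e = el z g 240 ∨ el z g e = el z g 240 * z :=
    hC.el_low he (by norm_num) (by rw [hlow']; rfl)
  obtain ⟨γ, hγ⟩ : ∃ γ : G, γ * t * γ⁻¹ = ((x1 * x1 : Cn t) : G) := by
    rcases hsq' with a | a <;> rcases he240 with b | b
    · exact ⟨γ₁, by rw [hγ₁, a, b]⟩
    · obtain ⟨γ', hγ'⟩ := h.fused_flip he hne hγ₁
      exact ⟨γ', by rw [hγ', a, b, mul_assoc, hC.z_sq, mul_one]⟩
    · obtain ⟨γ', hγ'⟩ := h.fused_flip he hne hγ₁
      exact ⟨γ', by rw [hγ', a, b]⟩
    · exact ⟨γ₁, by rw [hγ₁, a, b]⟩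
  have hwQ : x1 * x1 ∈ Q := by
    rcases hsq' with a | a <;> rw [a]
    · exact hC.el_mem _
    · exact Q.mul_mem (hC.el_mem _) hC.z_mem
  have hwt : ((x1 * x1 : Cn t) : G) ≠ t := by
    intro e1
    have e2 : x1 * x1 = el z g 256 := by rw [hC.el_256]; exact Subtype.ext (e1.trans h.zt.symm)
    rcases hsq' with a | a <;> rw [e2] at a
    · exact absurd (hC.el_inj _ (by norm_num) _ (by norm_num) a) (by norm_num)
    · rw [show el z g 240 * z = el z g (emul 240 256) by rw [← hC.el_mul (by norm_num), hC.el_256]] at a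
      exact absurd (hC.el_inj _ (by norm_num) _ (emul_lt (by norm_num) (by norm_num)) a) (by decide +kernel)
  obtain ⟨R, hR, -, helem, -⟩ := h.fused_group hwQ hwt hγ
  have hx1R : x1 ∈ R := by
    have hm : γ⁻¹ * (x1 : G) * γ ∈ Subgroup.centralizer ({t} : Set G) := by
      rw [Subgroup.mem_centralizer_singleton_iff]
      calc γ⁻¹ * (x1 : G) * γ * t = γ⁻¹ * ((x1 : G) * (γ * t * γ⁻¹)) * γ := by group
        _ = γ⁻¹ * ((γ * t * γ⁻¹) * (x1 : G)) * γ := by rw [hγ, Subgroup.coe_mul]; simp only [mul_assoc]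
        _ = t * (γ⁻¹ * (x1 : G) * γ) := by group
    refine (hR x1).mpr ⟨⟨_, hm⟩, (h.fr.mem_iff _).mpr (roots _ (Subtype.ext ?_)), rfl⟩
    show γ⁻¹ * (x1 : G) * γ * (γ⁻¹ * (x1 : G) * γ) = (z : G)
    rw [h.zt]
    calc γ⁻¹ * (x1 : G) * γ * (γ⁻¹ * (x1 : G) * γ) = γ⁻¹ * ((x1 * x1 : Cn t) : G) * γ := by
          rw [Subgroup.coe_mul]; group
      _ = t := by rw [← hγ]; group
  set r := el z g 1
  have hrw : r * (x1 * x1) = x1 * x1 * r := by
    have e240 : r * el z g 240 = el z g 240 * r := by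
      rw [hC.el_mul (by norm_num), hC.el_mul (by norm_num), r3]
    rcases hsq' with a | a <;> rw [a]
    · exact e240
    · rw [← mul_assoc, e240, mul_assoc, hC.z_comm r, ← mul_assoc]
  have hm1 : r * x1 * r⁻¹ ∈ R := (hR _).mpr (h.invariant hγ hrw ((hR _).mp hx1R))
  have hm2 : x1 * r * x1⁻¹ * r⁻¹ ∈ R := by
    have := R.mul_mem hx1R (R.inv_mem hm1)
    rwa [show x1 * (r * x1 * r⁻¹)⁻¹ = x1 * r * x1⁻¹ * r⁻¹ by group] at this
  obtain ⟨hc1, hc2⟩ := hC.comm_el hX1 (s := 1) (by norm_num)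
  rw [hc1] at hm2
  have e3 := (helem _ hm2 _ hm2 (hC.el_mem _) (hC.el_mem _)).2
  rw [hC.el_sq hc2, r2] at e3
  exact hC.z_ne e3

end Ctx

end CfsgLib.ThType
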