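import Cfsg.Agent.Lib.ThType.Natural
import Cfsg.Agent.Lib.ThType.Fused
import Cfsg.Agent.Lib.ThPres.CentQuot
import Cfsg.Agent.Lib.ThPres.Simple

/-!
The centraliser of an involution of Thompson type is that in the Thompson group.
-/

set_option autoImplicit false
set_option linter.style.haveILetI false
set_option Elab.async false

namespace CfsgLib.ThType

open Cfsg.Spor

theorem card_centraliser {C : Type*} [Group C] [Finite C] (Q : Subgroup C) [Q.Normal]
    (hcard : Nat.card Q = 512) (e : C ⧸ Q ≃* ↥(alternatingGroup (Fin 9))) : Nat.card C = 92897280 := by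
  rw [Q.card_eq_card_quotient_mul_card_subgroup, Nat.card_congr e.toEquiv, hcard, nat_card_alternatingGroup,
    Nat.card_fin]
  decide +kernel

/-- Coordinates, generators with standard relations, and fusion. -/
theorem exists_relations {G : Type*} [Group G] [Finite G] (t : G) (ht : orderOf t = 2)
    (hG : Subgroup.centralizer ({t} : Set G) ⊔ Cfsg.oddCore G ≠ ⊤)
    (Q : Subgroup (Subgroup.centralizer ({t} : Set G))) [Q.Normal] (hQ : Cfsg.IsExtraspecial 2 Q)
    (hcard : Nat.card Q = 512)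
    (hCQ : Subgroup.centralizer (Q : Set (Subgroup.centralizer ({t} : Set G))) ≤ Q)
    (e : (Subgroup.centralizer ({t} : Set G)) ⧸ Q ≃* ↥(alternatingGroup (Fin 9))) :
    ∃ (z : Subgroup.centralizer ({t} : Set G)) (g : ℕ → Subgroup.centralizer ({t} : Set G))
      (x : Fin 7 → Subgroup.centralizer ({t} : Set G)),
      (z : G) = t ∧ Coords Q z g ∧ Rels Q z g true spinY pairK x ∧ Fused Q := by
  have htt : t * t = 1 := by rw [← pow_two, ← ht, pow_orderOf_eq_one]
  have ht1 : t ≠ 1 := fun e => by rw [e, orderOf_one] at ht; exact absurd ht (by norm_num)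
  let z : Subgroup.centralizer ({t} : Set G) := ⟨t, Subgroup.mem_centralizer_singleton_iff.mpr rfl⟩
  obtain ⟨g, π, M, hfr, hM⟩ := exists_frame Q hQ hcard hCQ e z
    (fun c => Subtype.ext (Subgroup.mem_centralizer_singleton_iff.mp c.2))
    (Subtype.ext htt) (fun h => ht1 (congrArg Subtype.val h))
  rcases hM with rfl | rfl
  · have h : Ctx Q z g π spinM := ⟨hfr, hQ, rfl, ht, spinY_facts.2.1⟩
    obtain ⟨x, hx⟩ := exists_gens hfr
    exact ⟨z, g, fun k => x k, rfl, hfr.coords, hx.rels (ε := true) (h.spin_sq hx hG), h.spin_fused hx hG⟩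
  · exact ((⟨hfr, hQ, rfl, ht, natM_len⟩ : Ctx Q z g π natM).nat_false hG).elim

theorem orderOf_letter : orderOf (CfsgLib.ThPres.toP (CfsgLib.ThPres.pGen 0)) = 2 := by
  haveI := CfsgLib.ThPres.finite_PT
  rw [orderOf_injective _ CfsgLib.ThPres.toP_injective]
  obtain ⟨hz0, hz1⟩ := CfsgLib.ThPres.qe_zero
  have hm : CfsgLib.ThPres.pGen 0 ∈ CfsgLib.ThPres.qGrp := hz1 ▸ CfsgLib.ThPres.qe_mem (by norm_num)
  have hc : (⟨_, hm⟩ : CfsgLib.ThPres.qGrp) ∈ Subgroup.center CfsgLib.ThPres.qGrp :=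
    (CfsgLib.ThPres.center_qGrp _).2 (Or.inr rfl)
  have h2 : (⟨_, hc⟩ : Subgroup.center CfsgLib.ThPres.qGrp) ^ 2 = 1 := by
    rw [← CfsgLib.ThPres.qGrp_extraspecial.2]; exact pow_card_eq_one'
  refine orderOf_eq_prime ?_ fun h => ?_
  · exact congrArg Subtype.val (congrArg Subtype.val h2)
  · have := CfsgLib.ThPres.qe_inj 1 (by norm_num) 0 (by norm_num) (by rw [hz0, hz1, h])
    omega

theorem letter_not_core :
    Subgroup.centralizer ({CfsgLib.ThPres.toP (CfsgLib.ThPres.pGen 0)} : Set Th) ⊔ Cfsg.oddCore Th ≠ ⊤ := by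
  haveI := CfsgLib.ThPres.finite_Th
  haveI := CfsgLib.ThPres.simple_Th
  haveI : (Cfsg.oddCore Th).Normal := CfsgLib.Transfer.pPrimeCore_normal 2 Th
  rcases IsSimpleGroup.eq_bot_or_eq_top_of_normal (Cfsg.oddCore Th) inferInstance with h | h
  · rw [h, sup_bot_eq]
    intro hc
    have := CfsgLib.ThPres.card_centA
    rw [CfsgLib.ThPres.centA, hc, Subgroup.card_top, CfsgLib.ThPres.card_Th] at this
    norm_num at this
  · intro _
    have := CfsgLib.ZStar.odd_card_core (G := Th)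
    rw [show Cfsg.pPrimeCore 2 Th = ⊤ from h, Subgroup.card_top, CfsgLib.ThPres.card_Th] at this
    exact absurd this (by decide)

theorem qCent_self :
    Subgroup.centralizer (CfsgLib.ThPres.qCent : Set CfsgLib.ThPres.centA) ≤ CfsgLib.ThPres.qCent := by
  haveI := CfsgLib.ThPres.finite_Th
  obtain ⟨e⟩ := CfsgLib.ThPres.quot_iso
  haveI : IsSimpleGroup ↥(alternatingGroup (Fin 9)) := alternatingGroup.isSimpleGroup (by simp)
  haveI : Nontrivial (CfsgLib.ThPres.centA ⧸ CfsgLib.ThPres.qCent) := e.toEquiv.nontrivial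
  haveI : IsSimpleGroup (CfsgLib.ThPres.centA ⧸ CfsgLib.ThPres.qCent) :=
    IsSimpleGroup.isSimpleGroup_of_surjective e.symm.toMonoidHom e.symm.surjective
  set N := Subgroup.centralizer (CfsgLib.ThPres.qCent : Set CfsgLib.ThPres.centA)
  haveI : N.Normal := inferInstance
  haveI hn : (N.map (QuotientGroup.mk' CfsgLib.ThPres.qCent)).Normal :=
    Subgroup.Normal.map inferInstance _ (QuotientGroup.mk'_surjective _)
  rcases IsSimpleGroup.eq_bot_or_eq_top_of_normal _ hn with h | h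
  · intro c hc
    have : QuotientGroup.mk' CfsgLib.ThPres.qCent c ∈ N.map (QuotientGroup.mk' CfsgLib.ThPres.qCent) :=
      ⟨c, hc, rfl⟩
    rw [h, Subgroup.mem_bot] at this
    exact (QuotientGroup.eq_one_iff c).mp this
  exfalso
  obtain ⟨hz0, hz1⟩ := CfsgLib.ThPres.qe_zero
  have hel : CfsgLib.ThPres.qElts.getD 2 [] = [2] ∧ CfsgLib.ThPres.qElts.getD 3 [] = [0, 2] ∧
      CfsgLib.ThPres.qElts.getD 4 [] = [3, 2, 3] ∧ CfsgLib.ThPres.certL.inv 3 = 3 := by decide +kernel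
  obtain ⟨e2, e3, e4, e5⟩ := hel
  have hq : CfsgLib.ThPres.qe 3 = CfsgLib.ThPres.pGen 0 * CfsgLib.ThPres.qe 2 ∧
      CfsgLib.ThPres.qe 4 = CfsgLib.ThPres.pGen 3 * CfsgLib.ThPres.qe 2 * CfsgLib.ThPres.pGen 3 := by
    simp only [CfsgLib.ThPres.qe, e2, e3, e4]
    simp [mul_assoc]
  have hinv : CfsgLib.ThPres.pGen 3 * CfsgLib.ThPres.pGen 3 = 1 := by
    have := CfsgLib.ThPres.pAct.inv_mul 3
    rwa [e5] at this
  -- a letter in the centraliser moving an element of `Q` to neither it nor its translate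
  have h3 : CfsgLib.ThPres.toP (CfsgLib.ThPres.pGen 3) ∈ CfsgLib.ThPres.centA := by
    rw [CfsgLib.ThPres.toP_gen (by norm_num)]
    exact CfsgLib.ThPres.centC_le (CfsgLib.ThPres.tg_mem_centC (by decide))
  have hmem : ∀ k < 512, CfsgLib.ThPres.toP (CfsgLib.ThPres.qe k) ∈ CfsgLib.ThPres.qTh :=
    fun k hk => ⟨_, CfsgLib.ThPres.qe_mem hk, rfl⟩
  set c : CfsgLib.ThPres.centA := ⟨_, h3⟩
  set q : CfsgLib.ThPres.centA := ⟨_, CfsgLib.ThPres.qTh_le (hmem 2 (by norm_num))⟩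
  have hqQ : q ∈ CfsgLib.ThPres.qCent := Subgroup.mem_subgroupOf.mpr (hmem 2 (by norm_num))
  obtain ⟨n, hn', hnc⟩ := h.ge (Subgroup.mem_top (QuotientGroup.mk' CfsgLib.ThPres.qCent c))
  have hqc : n⁻¹ * c ∈ CfsgLib.ThPres.qCent := (QuotientGroup.eq).mp hnc
  set d := n⁻¹ * c
  have hconj : c * q * c⁻¹ = d * q * d⁻¹ := by
    have h1 : c = n * d := by simp [d]
    have h2 : n * (d * q * d⁻¹) = d * q * d⁻¹ * n :=
      (Subgroup.mem_centralizer_iff.mp hn' _ (mul_mem (mul_mem hqc hqQ) (inv_mem hqc))).symm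
    calc c * q * c⁻¹ = n * (d * q * d⁻¹) * n⁻¹ := by rw [h1]; group
      _ = d * q * d⁻¹ := by rw [h2, mul_inv_cancel_right]
  obtain ⟨dp, hdp, hdp'⟩ := (Subgroup.mem_subgroupOf.mp hqc : (d : Th) ∈ CfsgLib.ThPres.qTh)
  have hval : CfsgLib.ThPres.toP (CfsgLib.ThPres.qe 4) =
      CfsgLib.ThPres.toP (dp * CfsgLib.ThPres.qe 2 * dp⁻¹) := by
    have e := congrArg Subtype.val hconj
    rw [map_mul, map_mul, map_inv, hdp']
    refine Eq.trans ?_ e
    rw [hq.2, map_mul, map_mul]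
    show _ = CfsgLib.ThPres.toP (CfsgLib.ThPres.pGen 3) * CfsgLib.ThPres.toP (CfsgLib.ThPres.qe 2) *
      (CfsgLib.ThPres.toP (CfsgLib.ThPres.pGen 3))⁻¹
    rw [← map_inv, inv_eq_of_mul_eq_one_right hinv]
  have hval' := CfsgLib.ThPres.toP_injective hval
  have hq2 := CfsgLib.ThPres.qe_mem (k := 2) (by norm_num)
  haveI := Fact.mk Nat.prime_two
  haveI := CfsgLib.ThPres.finite_PT
  have hcm := (CfsgLib.ThPres.center_qGrp _).1
    (CfsgLib.Extraspecial.comm_mem CfsgLib.ThPres.qGrp_extraspecial ⟨dp, hdp⟩ ⟨_, hq2⟩)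
  simp only [commutatorElement_def, Subgroup.coe_mul, InvMemClass.coe_inv] at hcm
  rcases hcm with hcm | hcm <;> rw [mul_inv_eq_iff_eq_mul] at hcm
  · rw [hcm, one_mul] at hval'
    have := CfsgLib.ThPres.qe_inj 4 (by norm_num) 2 (by norm_num) hval'
    omega
  · rw [hcm, ← hq.1] at hval'
    have := CfsgLib.ThPres.qe_inj 4 (by norm_num) 3 (by norm_num) hval'
    omega

/-- The centraliser of an involution of Thompson type is isomorphic to that in the Thompson group,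
and a conjugate of the involution lies in its extraspecial subgroup. -/
theorem exists_cent_equiv {G : Type*} [Group G] [Finite G] (t : G) (ht : orderOf t = 2)
    (hG : Subgroup.centralizer ({t} : Set G) ⊔ Cfsg.oddCore G ≠ ⊤)
    (Q : Subgroup (Subgroup.centralizer ({t} : Set G))) [Q.Normal] (hQ : Cfsg.IsExtraspecial 2 Q)
    (hcard : Nat.card Q = 2 ^ 9)
    (hCQ : Subgroup.centralizer (Q : Set (Subgroup.centralizer ({t} : Set G))) ≤ Q)
    (e : (Subgroup.centralizer ({t} : Set G)) ⧸ Q ≃* alternatingGroup (Fin 9)) :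
    ∃ φ : ↥CfsgLib.ThPres.centA ≃* ↥(Subgroup.centralizer ({t} : Set G)),
      (∀ x : ↥CfsgLib.ThPres.centA, (x : Th) = CfsgLib.ThPres.toP (CfsgLib.ThPres.pGen 0) → (φ x : G) = t) ∧
      Q = CfsgLib.ThPres.qCent.map φ.toMonoidHom ∧
      ∃ w : ↥(Subgroup.centralizer ({t} : Set G)), w ∈ Q ∧ (w : G) ≠ t ∧ IsConj t (w : G) := by
  haveI := CfsgLib.ThPres.finite_Th
  have hcard' : Nat.card Q = 512 := by rw [hcard]; norm_num
  obtain ⟨z, g, x, hz, hC, hR, hfus⟩ := exists_relations t ht hG Q hQ hcard' hCQ e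
  obtain ⟨e0⟩ := CfsgLib.ThPres.quot_iso
  obtain ⟨z0, g0, x0, hz0, hC0, hR0, -⟩ := @exists_relations Th _ _ _ orderOf_letter letter_not_core
    CfsgLib.ThPres.qCent CfsgLib.ThPres.qCent_normal CfsgLib.ThPres.qCent_extraspecial
    CfsgLib.ThPres.card_qCent qCent_self e0
  obtain ⟨φ, hφz, hφQ⟩ := equiv_of_rels hC0 hC
    (@card_centraliser _ _ _ CfsgLib.ThPres.qCent CfsgLib.ThPres.qCent_normal CfsgLib.ThPres.card_qCent e0) (card_centraliser Q hcard' e) pairK_lt hR0 hR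
  refine ⟨φ, fun y hy => ?_, hφQ.symm, hfus⟩
  have hy' : y = z0 := Subtype.ext (hy.trans hz0.symm)
  rw [hy']
  exact (congrArg Subtype.val hφz).trans hz

end CfsgLib.ThType
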