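import Cfsg.Agent.Lib.ThType.SearchFast

/-!
The search in the first module, checked.
-/

set_option autoImplicit false
set_option Elab.async false

namespace CfsgLib.ThType

theorem spinSearch_ok : spinSearch = true := spinSearch_of_fast (by decide +kernel)

end CfsgLib.ThType
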