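import Cfsg.Agent.Lib.ThType.Bases
import Cfsg.Agent.Lib.ThType.SearchSpin
import Cfsg.Agent.Lib.ThType.SearchNatA
import Cfsg.Agent.Lib.ThType.SearchNatB
import Cfsg.Agent.Lib.ThType.SearchNatC
import Cfsg.Agent.Lib.ThType.SearchNatD
import Cfsg.Agent.Lib.ThType.SearchNatE
import Cfsg.Agent.Lib.ThType.SearchNatF
import Cfsg.Agent.Lib.ThType.SearchNatG
import Cfsg.Agent.Lib.ThType.SearchNatH

/-!
The two modules of degree eight: in suitable bases the seven generators have one of two lists of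
matrices.
-/

set_option autoImplicit false
set_option Elab.async false

open Equiv

namespace CfsgLib.ThType

theorem eqL_eq : ∀ {l m : List ℕ}, eqL l m = true ↔ l = m
  | [], [] => by simp [eqL]
  | [], _ :: _ => by simp [eqL]
  | _ :: _, [] => by simp [eqL]
  | a :: l, b :: m => by simp [eqL, eqL_eq (l := l) (m := m)]

theorem linApp_xor (M : List ℕ) (u v : ℕ) : ∀ n, linApp M (u ^^^ v) n = linApp M u n ^^^ linApp M v n
  | 0 => by simp [linApp]
  | n + 1 => by
    rw [linApp, linApp, linApp, Nat.testBit_xor, linApp_xor M u v n]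
    cases u.testBit n <;> cases v.testBit n <;>
      simp [Nat.xor_assoc, Nat.xor_comm, Nat.xor_left_comm, Nat.xor_self]

theorem linV_pow (M : List ℕ) {i : ℕ} (hi : i < 8) : linV M (2 ^ i) = M.getD i 0 := by
  have : ∀ n, linApp M (2 ^ i) n = if i < n then M.getD i 0 else 0 := by
    intro n
    induction n with
    | zero => rfl
    | succ n ih =>
      rw [linApp, ih, Nat.testBit_two_pow]
      rcases lt_trichotomy i n with h | h | h
      · simp [h, Nat.lt_succ_of_lt h, Nat.ne_of_lt h]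
      · simp [h]
      · simp [Nat.ne_of_gt h, Nat.not_lt.mpr h.le, Nat.not_lt.mpr (Nat.succ_le_of_lt h)]
  rw [linV, this 8, if_pos hi]

theorem getD_take (l : List ℕ) {k j : ℕ} (h : j < k) : (l.take k).getD j 0 = l.getD j 0 := by
  rw [List.getD_eq_getElem?_getD, List.getD_eq_getElem?_getD, List.getElem?_take_of_lt h]

theorem linV_take (M : List ℕ) {v k : ℕ} (hv : v < 2 ^ k) : linV (M.take k) v = linV M v := by
  have : ∀ n, linApp (M.take k) v n = linApp M v n := by
    intro n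
    induction n with
    | zero => rfl
    | succ n ih =>
      rw [linApp, linApp, ih]
      by_cases h : v.testBit n
      · have hn : n < k := by
          by_contra hn
          have := Nat.ge_two_pow_of_testBit h
          have := Nat.pow_le_pow_right (show 1 ≤ 2 by norm_num) (Nat.le_of_not_lt hn)
          omega
        rw [getD_take M hn]
      · simp [h]
  exact this 8

theorem getD_map_lin (t : List ℕ) {y : List ℕ} {i : ℕ} (hi : i < y.length) :
    (linComp t y).getD i 0 = linV t (y.getD i 0) := by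
  simp [linComp, List.getD_eq_getElem?_getD, hi]

/-- commuting matrices, one entry -/
theorem comm_entry {t y : List ℕ} (ht : t.length = 8) (hy : y.length = 8) (e : linComp t y = linComp y t)
    {i : ℕ} (hi : i < 8) : linV t (y.getD i 0) = linV y (t.getD i 0) := by
  rw [← getD_map_lin t (hy ▸ hi), e, getD_map_lin y (ht ▸ hi)]

theorem good4_eq {c : Bool} {X T : List (List ℕ)} {y : List ℕ}
    (h1 : ∀ i < 8, y.getD i 0 < 256 ∧ qdC c (y.getD i 0) = qdC c (2 ^ i))
    (h2 : ∀ i < 8, ∀ j < i, bil (y.getD i 0) (y.getD j 0) = bil (2 ^ i) (2 ^ j))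
    (h3 : ∀ t ∈ T, linComp t y = linComp y t) (h4 : y ≠ autId) (h5 : linComp y (linComp y y) = autId)
    (h6 : ∀ x ∈ X, linComp (linComp x y) (linComp (linComp (linComp x y) (linComp x y))
      (linComp (linComp x y) (linComp x y))) = autId)
    (h7 : linWord (X ++ [y]) [1, 3, 3, 0, 3] = linWord (X ++ [y]) [3, 3, 0, 3, 1] ∧
      linWord (X ++ [y]) [2, 3, 3, 1, 3] = linWord (X ++ [y]) [3, 3, 1, 3, 2]) :
    good4 c X T y = true := by
  have e4 : eqL y autId = false := by
    rw [Bool.eq_false_iff]; exact fun h => h4 (eqL_eq.mp h)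
  simp only [good4, Bool.and_eq_true, List.all_eq_true, List.mem_range, decide_eq_true_eq, beq_iff_eq,
    e4, Bool.not_false, eqL_eq]
  exact ⟨⟨⟨⟨⟨⟨h1, h2⟩, h3⟩, trivial⟩, h5⟩, h6⟩, h7⟩

theorem gen4_rel : (∀ i : Fin 2, ∀ x : Fin 9, (invs i * gen4 3) x = (gen4 3 * invs i) x) ∧
    (∀ x : Fin 9, (gen4 3 * (gen4 3 * gen4 3)) x = x) ∧ gen4 3 2 ≠ 2 ∧
    (∀ j : Fin 3, ∀ x : Fin 9, ((gen4 j * gen4 3) * ((gen4 j * gen4 3 * (gen4 j * gen4 3)) *
      (gen4 j * gen4 3 * (gen4 j * gen4 3)))) x = x) ∧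
    ∀ x : Fin 9, gen4Word [1, 3, 3, 0, 3] x = gen4Word [3, 3, 0, 3, 1] x ∧
      gen4Word [2, 3, 3, 1, 3] x = gen4Word [3, 3, 1, 3, 2] x := by
  decide +kernel

theorem natX_len : natX.length = 3 ∧ spinX.length = 3 ∧ spinT.length = 2 ∧
    (∀ j : Fin 3, ∀ i : Fin 8, (spinX.getD j []).getD i 0 < 256 ∧ (natX.getD j []).getD i 0 < 256) ∧
    (∀ j : Fin 2, ∀ i : Fin 8, (spinT.getD j []).getD i 0 < 256) ∧
    (∀ fa fb : Bool, ∀ j : Fin 2, (natTs fa fb).length = 2 ∧ ∀ i : Fin 8,
      ((natTs fa fb).getD j []).getD i 0 < 256) ∧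
    ∀ blk : Fin 4, ∀ j : Fin 3, ∀ k : Fin 27, (mask 0 k = mask 0 (fin27 (add27 k (neg27 (3 ^ (j : ℕ)))))) ∧
      shiftM (fin27 (3 ^ (j : ℕ))) (mask 0) k = mask 0 k ∧ blkPerm 0 blk < 4 := by
  decide +kernel

variable {V : Type*} [CommGroup V]

namespace Mo

variable {q : V → Bool} {b : V → V → Bool} {A : ↥(alternatingGroup (Fin 9)) →* MulAut V} (h : Mo q b A)

include h

/-- the bilinear form in a basis -/
theorem b_pv2 {bb : ℕ → V} {c : Bool} (hb : Basis8 q b c bb) {u v : ℕ} (hu : u < 256) (hv : v < 256) :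
    b (pv bb u 8) (pv bb v 8) = bil u v := by
  have h1 := h.q_mul (pv bb u 8) (pv bb v 8)
  rw [← h.vec_xor bb u v 8, h.q_pv hb _ 8 le_rfl, h.q_pv hb _ 8 le_rfl, h.q_pv hb _ 8 le_rfl,
    Nat.mod_eq_of_lt (xor_lt (k := 8) hu hv), Nat.mod_eq_of_lt (show u < 2 ^ 8 from hu),
    Nat.mod_eq_of_lt (show v < 2 ^ 8 from hv)] at h1
  have h2 : par8 ((u ^^^ v) &&& 192) = xor (par8 (u &&& 192)) (par8 (v &&& 192)) := by
    rw [Nat.and_xor_distrib_right]
    exact par8_xor ⟨_, lt_of_le_of_lt Nat.and_le_left hu⟩ ⟨_, lt_of_le_of_lt Nat.and_le_left hv⟩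
  rw [qdC, qdC, qdC, h2] at h1
  rw [bil_eq_qd hu hv]
  revert h1
  cases b (pv bb u 8) (pv bb v 8) <;> cases c <;> cases qd (u ^^^ v) <;> cases qd u <;> cases qd v <;>
    cases par8 (u &&& 192) <;> cases par8 (v &&& 192) <;> simp

theorem matOf_inj {bb : ℕ → V} {c : Bool} (hb : Basis8 q b c bb) {m n : MulAut V}
    (e : matOf bb m = matOf bb n) : m = n := by
  refine MulEquiv.ext fun w => ?_
  rw [← (h.pv_cod hb w).2, h.apply_pv hb, h.apply_pv hb, e]

theorem matOf_len (bb : ℕ → V) (n : MulAut V) : (matOf bb n).length = 8 := by simp [matOf]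

theorem getD_append4 {X : List (List ℕ)} (hX : X.length = 3) {bb : ℕ → V}
    (hXm : ∀ j : Fin 3, matOf bb (triA A j) = X.getD j []) (hl : ∀ j : Fin 3, (X.getD j []).length = 8)
    (k : ℕ) (hk : k < 4) :
    matOf bb (A (alt (gen4 k))) = (X ++ [matOf bb (A (alt (gen4 3)))]).getD k autId := by
  rcases Nat.lt_or_ge k 3 with h3 | h3
  · have e := hXm ⟨k, h3⟩
    rw [List.getD_eq_getElem?_getD, List.getElem?_append_left (show k < X.length by omega)]
    rw [List.getD_eq_getElem?_getD, List.getElem?_eq_getElem (show k < X.length by omega), Option.getD_some] at e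
    rw [List.getElem?_eq_getElem (show k < X.length by omega), Option.getD_some]
    exact e
  · obtain rfl : k = 3 := by omega
    simp [List.getD_eq_getElem?_getD, hX]

/-- the fourth generator satisfies the conditions of the searches -/
theorem good4_of {bb : ℕ → V} {c : Bool} (hb : Basis8 q b c bb) {X T : List (List ℕ)}
    (hX : X.length = 3) (hXl : ∀ j : Fin 3, (X.getD j []).length = 8) (hT : T.length = 2)
    (hXm : ∀ j : Fin 3, matOf bb (triA A j) = X.getD j [])
    (hTm : ∀ j : Fin 2, matOf bb (A (alt (invs j))) = T.getD j []) :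
    good4 c X T (matOf bb (A (alt (gen4 3)))) = true := by
  obtain ⟨r1, r2, r3, r4, r5⟩ := gen4_rel
  have g3 : gen4 3 ∈ alternatingGroup (Fin 9) := gen4_even 3
  set σ := A (alt (gen4 3)) with hσ
  set y := matOf bb σ with hy
  have hlt := h.matOf_lt hb σ
  have hval : ∀ i < 8, pv bb (y.getD i 0) 8 = σ (bb i) := fun i hi => by
    rw [hy, h.matOf_getD hb σ hi, (h.pv_cod hb _).2]
  refine good4_eq ?_ ?_ ?_ ?_ ?_ ?_ ?_
  · intro i hi
    refine ⟨hlt i hi, ?_⟩
    have e := h.q_pv hb (y.getD i 0) 8 le_rfl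
    rw [hval i hi, Nat.mod_eq_of_lt (show y.getD i 0 < 2 ^ 8 from hlt i hi)] at e
    rw [← e, hσ, h.inv, hb.q_bb i hi]
  · intro i hi j hj
    have hj' : j < 8 := lt_trans hj hi
    rw [← h.b_pv2 hb (hlt i hi) (hlt j hj'), hval i hi, hval j hj', hσ, h.b_inv, hb.b_bb i hi j hj']
  · intro t ht
    obtain ⟨j, hj, rfl⟩ := List.getElem_of_mem ht
    have e := hTm ⟨j, hT ▸ hj⟩
    rw [List.getD_eq_getElem?_getD, List.getElem?_eq_getElem hj, Option.getD_some] at e
    rw [← e, hy, ← h.matOf_mul hb, ← h.matOf_mul hb, hσ, ← map_mul, ← map_mul,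
      ← alt_mul (invs_even ⟨j, hT ▸ hj⟩) g3, ← alt_mul g3 (invs_even ⟨j, hT ▸ hj⟩),
      show invs j * gen4 3 = gen4 3 * invs j from Equiv.ext (r1 ⟨j, hT ▸ hj⟩)]
  · intro e
    rw [hy, ← h.matOf_one hb] at e
    have e1 := h.matOf_inj hb e
    rw [hσ, ← map_one A] at e1
    have e2 := congrArg (fun s : ↥(alternatingGroup (Fin 9)) => (s : Perm (Fin 9)) 2) (h.faithful e1)
    simp only [alt_of_mem g3] at e2
    exact r3 e2
  · rw [hy, ← h.matOf_mul hb, ← h.matOf_mul hb, hσ, ← map_mul, ← map_mul, ← alt_mul g3 g3,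
      ← alt_mul g3 (mul_mem g3 g3), show gen4 3 * (gen4 3 * gen4 3) = 1 from Equiv.ext r2, alt_one, map_one]
    exact h.matOf_one hb
  · intro x hx
    obtain ⟨j, hj, rfl⟩ := List.getElem_of_mem hx
    have e := hXm ⟨j, hX ▸ hj⟩
    rw [List.getD_eq_getElem?_getD, List.getElem?_eq_getElem hj, Option.getD_some] at e
    have gj : gen4 j ∈ alternatingGroup (Fin 9) := gen4_even ⟨j, lt_trans (hX ▸ hj) (by norm_num)⟩
    have gm := mul_mem gj g3
    rw [← e, hy, ← h.matOf_mul hb, ← h.matOf_mul hb, ← h.matOf_mul hb, ← h.matOf_mul hb, hσ]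
    rw [show triA A ⟨j, hX ▸ hj⟩ = A (alt (gen4 j)) from rfl]
    rw [← map_mul, ← map_mul, ← map_mul, ← map_mul, ← alt_mul gj g3, ← alt_mul gm gm,
      ← alt_mul (mul_mem gm gm) (mul_mem gm gm), ← alt_mul gm (mul_mem (mul_mem gm gm) (mul_mem gm gm)),
      show gen4 j * gen4 3 * (gen4 j * gen4 3 * (gen4 j * gen4 3) * (gen4 j * gen4 3 * (gen4 j * gen4 3))) = 1
        from Equiv.ext (r4 ⟨j, hX ▸ hj⟩), alt_one, map_one]
    exact h.matOf_one hb
  · have hM := getD_append4 h hX hXm hXl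
    have w1 : ∀ w : List ℕ, (∀ k ∈ w, k < 4) → matOf bb (A (alt (gen4Word w))) = linWord (X ++ [y]) w :=
      fun w hw => (h.matOf_word hb hM w hw).2
    rw [← w1 _ (by decide), ← w1 _ (by decide), ← w1 _ (by decide), ← w1 _ (by decide),
      Equiv.ext fun x => (r5 x).1, Equiv.ext fun x => (r5 x).2]
    exact ⟨rfl, rfl⟩

/-- a change of basis -/
theorem change_basis {bb : ℕ → V} (hb : Basis8 q b true bb) {N : List ℕ} (hl : N.length = 8)
    (hN : ∀ i : Fin 8, ∀ j : Fin 8, N.getD i 0 < 256 ∧ qdC true (N.getD i 0) = qdC true (2 ^ (i : ℕ)) ∧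
      bil (N.getD i 0) (N.getD j 0) = bil (2 ^ (i : ℕ)) (2 ^ (j : ℕ))) :
    Basis8 q b true (fun i => pv bb (N.getD i 0) 8) ∧
      ∀ (n : MulAut V) (M : List ℕ), M.length = 8 → (∀ i < 8, M.getD i 0 < 256) →
        eqL (linComp (matOf bb n) N) (linComp N M) = true →
          matOf (fun i => pv bb (N.getD i 0) 8) n = M := by
  have hb' : Basis8 q b true (fun i => pv bb (N.getD i 0) 8) := by
    refine ⟨fun i hi => ?_, fun i hi j hj => ?_⟩
    · obtain ⟨l, hq, -⟩ := hN ⟨i, hi⟩ 0
      show q (pv bb (N.getD i 0) 8) = _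
      rw [h.q_pv hb _ 8 le_rfl, Nat.mod_eq_of_lt (show N.getD i 0 < 2 ^ 8 from l)]
      exact hq
    · obtain ⟨l, -, hbil⟩ := hN ⟨i, hi⟩ ⟨j, hj⟩
      show b (pv bb (N.getD i 0) 8) (pv bb (N.getD j 0) 8) = _
      rw [h.b_pv2 hb l (hN ⟨j, hj⟩ 0).1]
      exact hbil
  refine ⟨hb', fun n M hM hMlt he => h.matOf_eq hb' hM hMlt fun i hi => ?_⟩
  have hpv : ∀ m k, pv bb (linApp N m k) 8 = pv (fun i => pv bb (N.getD i 0) 8) m k := by
    intro m k
    induction k with
    | zero => simp [linApp, pv]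
    | succ k ih =>
      rw [linApp]
      conv_rhs => rw [pv]
      by_cases hk : m.testBit k
      · rw [if_pos hk, if_pos hk, h.vec_xor bb _ _ 8, ih]
      · rw [if_neg hk, if_neg hk, ih]
  show n (pv bb (N.getD i 0) 8) = _
  rw [h.apply_pv hb, ← getD_map_lin _ (hl ▸ hi), eqL_eq.mp he, getD_map_lin _ (hM ▸ hi)]
  exact hpv _ 8

/-- a common fixed point of the two involutions in a component -/
theorem common_fixed {j : Fin 14} (hm : ∀ i : Fin 2, ∀ k, mask j (flipTri (flips i) k) = mask j k)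
    (hne : Nat.card (h.comp j) = 4) :
    ∃ e ∈ h.comp j, e ≠ 1 ∧ ∀ i : Fin 2, A (alt (invs i)) e = e := by
  have hone : ∀ i : Fin 2, ∀ x : V, A (alt (invs i)) (A (alt (invs i)) x) = x := fun i x => by
    rw [← MulAut.mul_apply, h.invs_sq, MulAut.one_apply]
  have fix : ∀ (i : Fin 2) (x : V), x ∈ h.comp j → x ≠ 1 →
      ∃ y, y ∈ h.comp j ∧ y ≠ 1 ∧ A (alt (invs i)) y = y ∧ (y = x ∨ y = x * A (alt (invs i)) x) := by
    intro i x hx hx1
    by_cases he : A (alt (invs i)) x = x
    · exact ⟨x, hx, hx1, he, Or.inl rfl⟩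
    · refine ⟨x * A (alt (invs i)) x, mul_mem hx (h.flip_mem (hm i) hx), fun h1 => he ?_, ?_, Or.inr rfl⟩
      · have := congrArg (x * ·) h1
        simp only [← mul_assoc, h.two, one_mul, mul_one] at this
        exact this
      · rw [map_mul, hone, mul_comm]
  obtain ⟨x, hx, hx1⟩ : ∃ x ∈ h.comp j, x ≠ 1 := by
    by_contra hcon
    push Not at hcon
    rw [(Subgroup.eq_bot_iff_forall _).mpr hcon, Subgroup.card_bot] at hne
    exact absurd hne (by norm_num)
  obtain ⟨y, hy, hy1, hyf, -⟩ := fix 0 x hx hx1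
  obtain ⟨z, hz, hz1, hzf, hzc⟩ := fix 1 y hy hy1
  refine ⟨z, hz, hz1, fun i => ?_⟩
  fin_cases i
  · rcases hzc with rfl | rfl
    · exact hyf
    · show A (alt (invs 0)) (y * A (alt (invs 1)) y) = y * A (alt (invs 1)) y
      have hyf' : A (alt (invs 0)) y = y := hyf
      rw [map_mul, hyf', ← MulAut.mul_apply, h.invs_commute, MulAut.mul_apply, hyf']
  · exact hzf

/-- The matrices of the generators in the first module. -/
theorem classify_spin (hc : ∀ x : Fin 4, Nat.card (h.comp (blkChar true x)) = 4) :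
    ∃ (fl : Bool) (bb : ℕ → V), Basis8 q b true bb ∧
      ∀ k : Fin 7, matOf bb (A (alt (gen7 fl k))) = spinM.getD k [] := by
  obtain ⟨e0, he0, he01⟩ : ∃ x ∈ h.comp (blkChar true 0), x ≠ 1 := by
    by_contra hcon
    push Not at hcon
    have := hc 0
    rw [show ((0 : Fin 4) : ℕ) = 0 from rfl, (Subgroup.eq_bot_iff_forall _).mpr hcon, Subgroup.card_bot] at this
    exact absurd this (by norm_num)
  set t0 := A (alt (invs 0)) with ht0
  set t1 := A (alt (invs 1)) with ht1
  let e : ℕ → V := fun x => [e0, t0 e0, t1 e0, t0 (t1 e0)].getD x 1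
  have hmask : ∀ i : Fin 2, ∀ x : Fin 4, ∀ k, mask (blkChar true (blkPerm i x)) (flipTri (flips i) k) =
      mask (blkChar true x) k := fun i x k => (flip_spin i x k).1
  have he : ∀ x : Fin 4, e x ∈ h.comp (blkChar true x) ∧ e x ≠ 1 := by
    intro x
    fin_cases x
    · exact ⟨he0, he01⟩
    · exact ⟨h.flip_mem (hmask 0 0) he0, fun hh => he01 (t0.injective (hh.trans (map_one _).symm))⟩
    · exact ⟨h.flip_mem (hmask 1 0) he0, fun hh => he01 (t1.injective (hh.trans (map_one _).symm))⟩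
    · exact ⟨h.flip_mem (hmask 0 2) (h.flip_mem (hmask 1 0) he0),
        fun hh => he01 (t1.injective (t0.injective (hh.trans (by rw [map_one, map_one]))))⟩
  have hperm : ∀ i : Fin 2, ∀ x : Fin 4, A (alt (invs i)) (e x) = e (blkPerm i x) := by
    have s0 : ∀ v, t0 (t0 v) = v := fun v => DFunLike.congr_fun (h.invs_sq 0) v
    have s1 : ∀ v, t1 (t1 v) = v := fun v => DFunLike.congr_fun (h.invs_sq 1) v
    have cm : ∀ v, t1 (t0 v) = t0 (t1 v) := fun v => (DFunLike.congr_fun h.invs_commute v).symm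
    intro i x
    fin_cases i <;> fin_cases x <;> simp [e, blkPerm, ← ht0, ← ht1, s0, s1, cm]
  set bb := blkVec A true e with hbb
  have hf := fun i j : Fin 8 => h.blkVec_forms (n := 4) le_rfl le_rfl (fun x _ => hc x) (fun x _ => he x) i j
    (by omega) (by omega)
  have hb : Basis8 q b true bb := by
    refine ⟨fun i hi => ?_, fun i hi j hj => (hf ⟨i, hi⟩ ⟨j, hj⟩).2.1⟩
    rw [qdC_blocks true ⟨i, hi⟩, Bool.or_true]
    exact (hf ⟨i, hi⟩ ⟨i, hi⟩).1
  have hev : ∀ x : Fin 4, bb (2 * (x : ℕ)) = e x ∧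
      bb (2 * (x : ℕ) + 1) = op (triA A) (blkOp true x) (e x) := by
    intro x
    have d0 : 2 * (x : ℕ) / 2 = x := by omega
    have d1 : (2 * (x : ℕ) + 1) / 2 = x := by omega
    have m0 : 2 * (x : ℕ) % 2 = 0 := by omega
    have m1 : (2 * (x : ℕ) + 1) % 2 = 1 := by omega
    constructor
    · rw [hbb, blkVec, d0, m0]; simp only [mulTri]; rw [h.tri.op_zero]; rfl
    · rw [hbb, blkVec, d1, m1]; simp only [mulTri]
  have hblk : ∀ (x : Fin 4) (k : Fin 27), op (triA A) k (e x) = pv bb (blkCode true x k) 8 := fun x k =>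
    h.op_blk (spin := true) (by simp [nBlk]) (he x).1 k (hev x).1 (hev x).2 hb
  obtain ⟨-, lx, lt, bx, bt, -, -⟩ := natX_len
  have hX : ∀ j : Fin 3, matOf bb (triA A j) = spinX.getD j [] := by
    intro j
    refine h.matOf_eq hb (spin_lengths.1 j) (fun i hi => (bx j ⟨i, hi⟩).1) fun i hi => ?_
    rw [spinX_table j ⟨i, hi⟩]
    show _ = pv bb (blkCode true (i / 2) _) 8
    rw [← hblk ⟨i / 2, by omega⟩, (fin27_unit j _).1, ← h.tri.op_add, h.op_unit]
    rfl
  have hT : ∀ j : Fin 2, matOf bb (A (alt (invs j))) = spinT.getD j [] := by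
    intro j
    refine h.matOf_eq hb (spin_lengths.2 j) (fun i hi => bt j ⟨i, hi⟩) fun i hi => ?_
    rw [spinT_table j ⟨i, hi⟩]
    show _ = pv bb (blkCode true (blkPerm j (i / 2)) _) 8
    have hp : blkPerm j (i / 2) < 4 := (flip_spin j ⟨i / 2, by omega⟩ 0).2
    rw [← hblk ⟨_, hp⟩]
    show A (alt (invs j)) (op (triA A) (mulTri (i % 2) (blkOp true (i / 2))) (e (i / 2))) = _
    rw [← MulAut.mul_apply, h.invs_op, MulAut.mul_apply, hperm j ⟨i / 2, by omega⟩]
  set y := matOf bb (A (alt (gen4 3))) with hy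
  have hg := h.good4_of hb lx spin_lengths.1 lt hX hT
  have hcols : y = spinCols (y.getD 0 0) (y.getD 1 0) := by
    have hl : y.length = 8 := matOf_len h bb _
    have hcomm : ∀ j : Fin 2, linComp (spinT.getD j []) y = linComp y (spinT.getD j []) := fun j => by
      obtain ⟨r1, -⟩ := gen4_rel
      have g3 : gen4 3 ∈ alternatingGroup (Fin 9) := gen4_even 3
      rw [← hT j, hy, ← h.matOf_mul hb, ← h.matOf_mul hb, ← map_mul, ← map_mul,
        ← alt_mul (invs_even j) g3, ← alt_mul g3 (invs_even j),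
        show invs j * gen4 3 = gen4 3 * invs j from Equiv.ext (r1 j)]
    have ce := fun (j : Fin 2) (i : ℕ) (hi : i < 8) => comm_entry (spin_lengths.2 j) hl (hcomm j) hi
    have lin : ∀ u v, linV y (u ^^^ v) = linV y u ^^^ linV y v := fun u v => linApp_xor y u v 8
    have p := fun i (hi : i < 8) => linV_pow y hi
    have a0 : linV (spinT.getD 0 []) (y.getD 0 0) = y.getD 2 0 := (ce 0 0 (by norm_num)).trans (p 2 (by norm_num))
    have a1 : linV (spinT.getD 0 []) (y.getD 1 0) = y.getD 3 0 ^^^ y.getD 2 0 := by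
      refine (ce 0 1 (by norm_num)).trans ?_
      rw [show (spinT.getD ((0 : Fin 2) : ℕ) []).getD 1 0 = 2 ^ 3 ^^^ 2 ^ 2 from rfl, lin,
        p 3 (by norm_num), p 2 (by norm_num)]
    have a2 : linV (spinT.getD 1 []) (y.getD 0 0) = y.getD 4 0 := (ce 1 0 (by norm_num)).trans (p 4 (by norm_num))
    have a3 : linV (spinT.getD 1 []) (y.getD 1 0) = y.getD 5 0 ^^^ y.getD 4 0 := by
      refine (ce 1 1 (by norm_num)).trans ?_
      rw [show (spinT.getD ((1 : Fin 2) : ℕ) []).getD 1 0 = 2 ^ 5 ^^^ 2 ^ 4 from rfl, lin,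
        p 5 (by norm_num), p 4 (by norm_num)]
    have a4 : linV (spinT.getD 0 []) (y.getD 4 0) = y.getD 6 0 := (ce 0 4 (by norm_num)).trans (p 6 (by norm_num))
    have a5 : linV (spinT.getD 0 []) (y.getD 5 0) = y.getD 7 0 := (ce 0 5 (by norm_num)).trans (p 7 (by norm_num))
    have lin0 : ∀ u v, linV (spinT.getD 0 []) (u ^^^ v) =
        linV (spinT.getD 0 []) u ^^^ linV (spinT.getD 0 []) v := fun u v => linApp_xor _ u v 8
    have cancel : ∀ u v : ℕ, (u ^^^ v) ^^^ v = u := fun u v => by simp [Nat.xor_assoc]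
    simp only [spinCols]
    rw [a0, a1, a2, a3, lin0, a4, a5, cancel, cancel, cancel]
    refine List.ext_getElem (by simp [hl]) fun i h1 h2 => ?_
    have hi : i < 8 := hl ▸ h1
    interval_cases i <;> simp [List.getD_eq_getElem?_getD, h1, hl]
  have hmem : ∃ s : Fin 6, y = spinSols.getD s [] := by
    have hs := spinSearch_ok
    simp only [spinSearch, List.all_eq_true, List.mem_filter, List.mem_range, Bool.and_eq_true,
      Bool.or_eq_true, Bool.not_eq_true', List.any_eq_true] at hs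
    have hqb : ∀ i, i < 8 → y.getD i 0 < 256 ∧ qd (y.getD i 0) = true := by
      intro i hi
      have hlt := h.matOf_lt hb (A (alt (gen4 3))) i hi
      refine ⟨hlt, ?_⟩
      have e := h.q_pv hb (y.getD i 0) 8 le_rfl
      rw [Nat.mod_eq_of_lt (show y.getD i 0 < 2 ^ 8 from hlt), hy, h.matOf_getD hb _ hi, (h.pv_cod hb _).2,
        h.inv, hb.q_bb i hi, qdC_blocks true ⟨i, hi⟩, Bool.or_true] at e
      rw [hy, h.matOf_getD hb _ hi]
      simpa [qdC] using e.symm
    have hbil : bil (y.getD 0 0) (y.getD 1 0) = true := by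
      rw [← h.b_pv2 hb (hqb 0 (by norm_num)).1 (hqb 1 (by norm_num)).1, hy, h.matOf_getD hb _ (by norm_num),
        h.matOf_getD hb _ (by norm_num), (h.pv_cod hb _).2, (h.pv_cod hb _).2, h.b_inv,
        hb.b_bb 0 (by norm_num) 1 (by norm_num)]
      rfl
    rcases hs _ (hqb 0 (by norm_num)) _ ⟨(hqb 1 (by norm_num)).1, (hqb 1 (by norm_num)).2, hbil⟩ with hs | hs
    · rw [← hcols, hg] at hs
      exact Bool.noConfusion hs
    · obtain ⟨x, hx, hxe⟩ := hs
      obtain ⟨s, hsl, rfl⟩ := List.getElem_of_mem hx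
      refine ⟨⟨s, (spin_certs 0 0).2.2.1 ▸ hsl⟩, ?_⟩
      rw [hcols, eqL_eq.mp hxe, List.getD_eq_getElem?_getD, List.getElem?_eq_getElem hsl, Option.getD_some]
  obtain ⟨s, hs⟩ := hmem
  obtain ⟨-, -, -, hNl, -, -⟩ := spin_certs s 0
  obtain ⟨hb', hmat⟩ := h.change_basis hb hNl fun i j => ⟨((cert_forms s i j).1).1, ((cert_forms s i j).2.1).1,
    (cert_forms s i j).2.2.1⟩
  refine ⟨spinFlip.getD s false, _, hb', fun k => ?_⟩
  obtain ⟨-, -, -, -, hMl, he'⟩ := spin_certs s k
  refine hmat _ _ hMl (fun i hi => (gens_bound k ⟨i, hi⟩).1) ?_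
  have hw := word7_ok (spinFlip.getD s false) k
  rw [← Equiv.ext fun i => (hw i).1,
    (h.matOf_word hb (getD_append4 h lx hX spin_lengths.1) _ (hw 0).2).2, ← hy, hs]
  exact he'

/-- The matrices of the generators in the second module. -/
theorem classify_nat (hc : ∀ x : Fin 3, Nat.card (h.comp (blkChar false x)) = 4)
    (h0 : Nat.card (h.comp 0) = 4) :
    ∃ bb : ℕ → V, Basis8 q b true bb ∧
      ∀ k : Fin 7, matOf bb (A (alt (gen7 false k))) = natM.getD k [] := by
  have hm : ∀ i : Fin 2, ∀ x : Fin 3, ∀ k, mask (blkChar false x) (flipTri (flips i) k) = mask (blkChar false x) k :=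
    fun i x k => flip_nat i x k
  have hm0 : ∀ i : Fin 2, ∀ k, mask 0 (flipTri (flips i) k) = mask 0 k := fun i k => by
    fin_cases i
    · exact (flip_masks k).2.2.2.2.1
    · exact (flip_masks k).2.2.2.2.2
  choose e' he' he1' hfix' using fun x : Fin 3 => h.common_fixed (fun i => hm i x) (hc x)
  let e : ℕ → V := fun x => if hx : x < 3 then e' ⟨x, hx⟩ else 1
  -- the distinguished vector of the fixed component
  obtain ⟨u, hu, hu1, huq, hufix⟩ :
      ∃ u ∈ h.comp 0, u ≠ 1 ∧ q u = true ∧ ∀ i : Fin 2, A (alt (invs i)) u = u := by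
    obtain ⟨u0, hu0, hu01, hfix0⟩ := h.common_fixed hm0 h0
    by_cases hq0 : q u0 = true
    · exact ⟨u0, hu0, hu01, hq0, hfix0⟩
    rw [Bool.not_eq_true] at hq0
    obtain ⟨g, hg, hg1, hgu⟩ : ∃ g ∈ h.comp 0, g ≠ 1 ∧ u0 ≠ g := by
      by_contra hcon
      push Not at hcon
      have : Nat.card (h.comp 0) ≤ 2 := by
        haveI := h.finite
        rw [← Nat.card_fin 2]
        refine Nat.card_le_card_of_surjective
          (![⟨1, one_mem _⟩, ⟨u0, hu0⟩] : Fin 2 → h.comp 0) fun w => ?_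
        by_cases hw : (w : V) = 1
        · exact ⟨0, Subtype.ext hw.symm⟩
        · exact ⟨1, Subtype.ext (hcon w w.2 hw)⟩
      omega
    obtain ⟨hall, hbug⟩ := h.plane h0 hu0 hg hu01 hg1 hgu
    have hprod : q (u0 * g) = !q g := by
      rw [h.q_mul, hq0, hbug]; cases q g <;> rfl
    have hug1 : u0 * g ≠ 1 := fun hh => hgu (by
      have := congrArg (u0 * ·) hh
      simp only [← mul_assoc, h.two, one_mul, mul_one] at this
      exact this.symm)
    obtain ⟨v, hv, hv1, hvq⟩ : ∃ v, (v = g ∨ v = u0 * g) ∧ v ≠ 1 ∧ q v = true := by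
      by_cases hq : q g = true
      · exact ⟨g, Or.inl rfl, hg1, hq⟩
      · exact ⟨u0 * g, Or.inr rfl, hug1, by rw [hprod]; simp [hq]⟩
    have hvm : v ∈ h.comp 0 := by
      rcases hv with rfl | rfl
      · exact hg
      · exact mul_mem hu0 hg
    refine ⟨v, hvm, hv1, hvq, fun i => ?_⟩
    have hn : A (alt (invs i)) v ∈ h.comp 0 := h.flip_mem (hm0 i) hvm
    have hnq : q (A (alt (invs i)) v) = true := by rw [h.inv]; exact hvq
    rcases hall _ hn with e1 | e1 | e1 | e1
    · rw [e1, h.q_one] at hnq; exact Bool.noConfusion hnq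
    · rw [e1, hq0] at hnq; exact Bool.noConfusion hnq
    · rcases hv with rfl | rfl
      · exact e1
      · rw [e1] at hnq
        rw [hprod, hnq] at hvq
        exact Bool.noConfusion hvq
    · rcases hv with rfl | rfl
      · rw [e1, hprod, hvq] at hnq
        exact Bool.noConfusion hnq
      · exact e1
  obtain ⟨f, hf, hf1, hfu⟩ : ∃ f ∈ h.comp 0, f ≠ 1 ∧ u ≠ f := by
    by_contra hcon
    push Not at hcon
    have : Nat.card (h.comp 0) ≤ 2 := by
      haveI := h.finite
      rw [← Nat.card_fin 2]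
      refine Nat.card_le_card_of_surjective (![⟨1, one_mem _⟩, ⟨u, hu⟩] : Fin 2 → h.comp 0) fun w => ?_
      by_cases hw : (w : V) = 1
      · exact ⟨0, Subtype.ext hw.symm⟩
      · exact ⟨1, Subtype.ext (hcon w w.2 hw)⟩
    omega
  obtain ⟨hall, hbuf⟩ := h.plane h0 hu hf hu1 hf1 hfu
  set f' := u * f with hf'
  have hqf' : q f' = q f := by rw [hf', h.q_mul, huq, hbuf]; cases q f <;> rfl
  have hbff : b f f' = true := by rw [hf', h.b_mul, h.b_self, h.b_comm, hbuf]; rfl
  have hswap : ∀ i : Fin 2, A (alt (invs i)) f = f ∧ A (alt (invs i)) f' = f' ∨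
      A (alt (invs i)) f = f' ∧ A (alt (invs i)) f' = f := by
    intro i
    have hn := h.flip_mem (hm0 i) hf
    rcases hall _ hn with e1 | e1 | e1 | e1
    · exact absurd ((A (alt (invs i))).injective (e1.trans (map_one _).symm)) hf1
    · exact absurd ((A (alt (invs i))).injective (e1.trans (hufix i).symm)) (Ne.symm hfu)
    · exact Or.inl ⟨e1, by rw [hf', map_mul, hufix, e1]⟩
    · refine Or.inr ⟨e1, ?_⟩
      rw [hf', map_mul, hufix, e1, ← mul_assoc, h.two, one_mul]
  set bb := natVec A e f f' with hbb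
  have he : ∀ x : Fin 4, (x : ℕ) < 3 → e x ∈ h.comp (blkChar false x) ∧ e x ≠ 1 := fun x hx => by
    simp only [e, dif_pos hx]
    exact ⟨he' ⟨x, hx⟩, he1' ⟨x, hx⟩⟩
  have hperm : ∀ i : Fin 2, ∀ x < 3, A (alt (invs i)) (e x) = e x := fun i x hx => by
    simp only [e, dif_pos hx]; exact hfix' ⟨x, hx⟩ i
  have hlow : ∀ i < 6, bb i = blkVec A false e i := fun i hi => by rw [hbb, natVec, if_pos hi]
  have h6 : bb 6 = f := by rw [hbb, natVec]; simp
  have h7 : bb 7 = f' := by rw [hbb, natVec]; simp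
  have hf'm : f' ∈ h.comp 0 := mul_mem hu hf
  have hform := fun (i j : Fin 8) (hi : (i : ℕ) < 6) (hj : (j : ℕ) < 6) =>
    h.blkVec_forms (spin := false) (n := 3) le_rfl (by norm_num) (fun x hx => hc ⟨x, hx⟩) he i j
      (by omega) (by omega)
  have hb : Basis8 q b (q f) bb := by
    have hmem : ∀ i, i < 8 → 6 ≤ i → bb i ∈ h.comp 0 := fun i hi hi6 => by
      interval_cases i <;> [rw [h6]; rw [h7]] <;> assumption
    have horth : ∀ i < 6, ∀ j, j < 8 → 6 ≤ j → b (bb i) (bb j) = false := fun i hi j hj hj6 => by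
      rw [hlow i hi]
      refine h.orth_comp ?_ (hform ⟨i, by omega⟩ ⟨i, by omega⟩ hi hi).2.2 (hmem j hj hj6)
      show blkChar false (i / 2) ≠ 0
      interval_cases i <;> decide
    refine ⟨fun i hi => ?_, fun i hi j hj => ?_⟩
    · rw [qdC_blocks (q f) ⟨i, hi⟩]
      by_cases hi6 : i < 6
      · rw [decide_eq_true (show ((⟨i, hi⟩ : Fin 8) : ℕ) < 6 from hi6), Bool.true_or, hlow i hi6]
        exact (hform ⟨i, hi⟩ ⟨i, hi⟩ hi6 hi6).1
      · rw [decide_eq_false (show ¬ ((⟨i, hi⟩ : Fin 8) : ℕ) < 6 from hi6), Bool.false_or]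
        rcases (show i = 6 ∨ i = 7 by omega) with rfl | rfl
        · rw [h6]
        · rw [h7, hqf']
    · by_cases hi6 : i < 6
      · by_cases hj6 : j < 6
        · rw [hlow i hi6, hlow j hj6]; exact (hform ⟨i, hi⟩ ⟨j, hj⟩ hi6 hj6).2.1
        · rw [horth i hi6 j hj (by omega)]
          exact ((bil_blocks ⟨i, hi⟩ ⟨j, hj⟩).1 (show i / 2 ≠ j / 2 by omega)).symm
      · by_cases hj6 : j < 6
        · rw [h.b_comm, horth j hj6 i hi (by omega)]
          exact ((bil_blocks ⟨i, hi⟩ ⟨j, hj⟩).1 (show i / 2 ≠ j / 2 by omega)).symm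
        · rw [(bil_blocks ⟨i, hi⟩ ⟨j, hj⟩).2 (show i / 2 = j / 2 by omega)]
          rcases (show i = 6 ∨ i = 7 by omega) with rfl | rfl <;>
            rcases (show j = 6 ∨ j = 7 by omega) with rfl | rfl <;>
            simp [h6, h7, h.b_self, hbff, h.b_comm f' f]
  have hev : ∀ x : Fin 4, (x : ℕ) < 3 → bb (2 * (x : ℕ)) = e x ∧
      bb (2 * (x : ℕ) + 1) = op (triA A) (blkOp false x) (e x) := by
    intro x hx
    have d0 : 2 * (x : ℕ) / 2 = x := by omega
    have d1 : (2 * (x : ℕ) + 1) / 2 = x := by omega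
    have m0 : 2 * (x : ℕ) % 2 = 0 := by omega
    have m1 : (2 * (x : ℕ) + 1) % 2 = 1 := by omega
    constructor
    · rw [hlow _ (by omega), blkVec, d0, m0]; simp only [mulTri]; rw [h.tri.op_zero]; rfl
    · rw [hlow _ (by omega), blkVec, d1, m1]; simp only [mulTri]
  have hblk : ∀ (x : Fin 4) (k : Fin 27), (x : ℕ) < 3 →
      op (triA A) k (e x) = pv bb (blkCode false x k) 8 := fun x k hx =>
    h.op_blk (spin := false) hx (he x hx).1 k (hev x hx).1 (hev x hx).2 hb
  obtain ⟨lx, -, -, bx, -, bts, hfin⟩ := natX_len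
  have hX : ∀ j : Fin 3, matOf bb (triA A j) = natX.getD j [] := by
    intro j
    obtain ⟨x6, x7, xl⟩ := natX_high j
    refine h.matOf_eq hb xl (fun i hi => (bx j ⟨i, hi⟩).2) fun i hi => ?_
    by_cases hi6 : i < 6
    · rw [natX_table j ⟨i, hi6⟩, hlow i hi6]
      show _ = pv bb (blkCode false (i / 2) _) 8
      rw [← hblk ⟨i / 2, by omega⟩ _ (show i / 2 < 3 by omega), (fin27_unit j _).1, ← h.tri.op_add, h.op_unit]
      rfl
    · have hfx : ∀ w ∈ h.comp 0, triA A j w = w := fun w hw => by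
        rw [← h.op_unit j]; exact h.tri.op_fix hw _ fun k => (hfin 0 j k).2.1
      rcases (show i = 6 ∨ i = 7 by omega) with rfl | rfl
      · rw [x6, show 64 = 2 ^ 6 from rfl, h.bb_eq hb (by norm_num), h6, hfx f hf]
      · rw [x7, show 128 = 2 ^ 7 from rfl, h.bb_eq hb (by norm_num), h7, hfx f' hf'm]
  obtain ⟨fa, fb, hT⟩ : ∃ fa fb : Bool, ∀ j : Fin 2, matOf bb (A (alt (invs j))) = (natTs fa fb).getD j [] := by
    classical
    refine ⟨decide (A (alt (invs 0)) f ≠ f), decide (A (alt (invs 1)) f ≠ f), fun j => ?_⟩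
    set fa := decide (A (alt (invs 0)) f ≠ f)
    set fb := decide (A (alt (invs 1)) f ≠ f)
    obtain ⟨t6, t7, tl⟩ := natTs_high fa fb j
    refine h.matOf_eq hb tl (fun i hi => (bts fa fb j).2 ⟨i, hi⟩) fun i hi => ?_
    by_cases hi6 : i < 6
    · rw [natTs_low fa fb j ⟨i, hi6⟩, natT_table j ⟨i, hi6⟩, hlow i hi6]
      show A (alt (invs j)) (op (triA A) (mulTri (i % 2) (blkOp false (i / 2))) (e (i / 2))) =
        pv bb (blkCode false (i / 2) _) 8
      rw [← hblk ⟨i / 2, by omega⟩ _ (show i / 2 < 3 by omega), ← MulAut.mul_apply, h.invs_op,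
        MulAut.mul_apply, hperm j (i / 2) (by omega)]
    · have hflag : (if (j : ℕ) = 0 then fa else fb) = decide (A (alt (invs j)) f ≠ f) := by
        fin_cases j <;> rfl
      have hne : f' ≠ f := fun hh => hu1 (mul_eq_right.mp hh)
      rw [hflag] at t6 t7
      rcases (show i = 6 ∨ i = 7 by omega) with rfl | rfl
      · rw [t6]
        rcases hswap j with ⟨s1, -⟩ | ⟨s1, -⟩
        · simp only [s1, ne_eq, not_true, decide_false, Bool.false_eq_true, if_false]
          rw [h6, s1, show 64 = 2 ^ 6 from rfl, h.bb_eq hb (by norm_num), h6]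
        · simp only [s1, ne_eq, hne, not_false_iff, decide_true, if_true]
          rw [h6, s1, show 128 = 2 ^ 7 from rfl, h.bb_eq hb (by norm_num), h7]
      · rw [t7]
        rcases hswap j with ⟨s1, s2⟩ | ⟨s1, s2⟩
        · simp only [s1, ne_eq, not_true, decide_false, Bool.false_eq_true, if_false]
          rw [h7, s2, show 128 = 2 ^ 7 from rfl, h.bb_eq hb (by norm_num), h7]
        · simp only [s1, ne_eq, hne, not_false_iff, decide_true, if_true]
          rw [h7, s2, show 64 = 2 ^ 6 from rfl, h.bb_eq hb (by norm_num), h6]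
  set y := matOf bb (A (alt (gen4 3))) with hy
  have hT2 : (natTs fa fb).length = 2 := (bts fa fb 0).1
  have hg := h.good4_of hb lx (fun j => (natX_high j).2.2) hT2 hX hT
  have hl : y.length = 8 := matOf_len h bb _
  have hTl : ∀ t ∈ natTs fa fb, t.length = 8 ∧ linComp t y = linComp y t := by
    intro t ht
    obtain ⟨j, hj, rfl⟩ := List.getElem_of_mem ht
    have hg' := hg
    simp only [good4, Bool.and_eq_true, List.all_eq_true, eqL_eq] at hg'
    refine ⟨?_, hg'.1.1.1.1.2 _ ht⟩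
    have := (natTs_high fa fb ⟨j, hT2 ▸ hj⟩).2.2
    rwa [List.getD_eq_getElem?_getD, List.getElem?_eq_getElem hj, Option.getD_some] at this
  have hext : y ∈ extend (natTs fa fb) (natDom.getD (caseIx (q f) fa fb) []) 8 := by
    have hval : ∀ i < 8, y.getD i 0 < 256 ∧ qdC (q f) (y.getD i 0) = qdC (q f) (2 ^ i) := by
      have hg' := hg
      simp only [good4, Bool.and_eq_true, List.all_eq_true, List.mem_range, decide_eq_true_eq, beq_iff_eq] at hg'
      exact hg'.1.1.1.1.1.1
    have hbil : ∀ i < 8, ∀ j < i, bil (y.getD i 0) (y.getD j 0) = bil (2 ^ i) (2 ^ j) := by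
      have hg' := hg
      simp only [good4, Bool.and_eq_true, List.all_eq_true, List.mem_range, decide_eq_true_eq, beq_iff_eq] at hg'
      exact hg'.1.1.1.1.1.2
    have key : ∀ n ≤ 8, y.take n ∈ extend (natTs fa fb) (natDom.getD (caseIx (q f) fa fb) []) n := by
      intro n
      induction n with
      | zero => intro _; simp [extend]
      | succ n ih =>
        intro hn
        rw [extend, List.mem_flatMap]
        refine ⟨_, ih (by omega), ?_⟩
        rw [List.mem_map]
        refine ⟨y.getD n 0, ?_, ?_⟩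
        · have hlen : (y.take n).length = n := by rw [List.length_take]; omega
          have happ : y.take n ++ [y.getD n 0] = y.take (n + 1) := by
            rw [List.take_succ_eq_append_getElem (by omega), List.getD_eq_getElem?_getD,
              List.getElem?_eq_getElem (by omega), Option.getD_some]
          simp only [colsAt, hlen, happ, List.mem_filter, Bool.and_eq_true, List.all_eq_true, List.mem_range]
          refine ⟨?_, fun j hj => ?_, fun t ht j hj => ?_⟩
          · have hd := eqL_eq.mp (natDom_ok (q f) fa fb ⟨n, hn⟩)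
            rw [← hd]
            simp only [domAt, List.mem_filter, List.mem_range, Bool.and_eq_true, beq_iff_eq, List.all_eq_true]
            refine ⟨(hval n hn).1, (hval n hn).2, fun t ht => ?_⟩
            rw [Bool.or_eq_true, Bool.not_eq_true']
            by_cases hfx : linV t (2 ^ n) = 2 ^ n
            · refine Or.inr (Nat.beq_eq.mpr ?_)
              rw [comm_entry (hTl t ht).1 hl (hTl t ht).2 hn, ← linV_pow t hn, hfx, linV_pow y hn]
            · exact Or.inl (Bool.eq_false_iff.mpr fun hh => hfx (Nat.eq_of_beq_eq_true hh))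
          · rw [beq_iff_eq, getD_take y hj]
            exact hbil n hn j hj
          · rw [Bool.or_eq_true, Bool.not_eq_true']
            by_cases hlt : linV t (2 ^ j) < 2 ^ (n + 1)
            · refine Or.inr (Nat.beq_eq.mpr ?_)
              rw [linV_take y hlt, getD_take y hj, comm_entry (hTl t ht).1 hl (hTl t ht).2 (by omega),
                linV_pow t (by omega)]
            · exact Or.inl (Bool.eq_false_iff.mpr fun hh => hlt (by simpa [Nat.blt_eq] using hh))
        · rw [List.take_succ_eq_append_getElem (by omega), List.getD_eq_getElem?_getD,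
            List.getElem?_eq_getElem (by omega), Option.getD_some]
    have := key 8 le_rfl
    rwa [List.take_of_length_le (le_of_eq hl)] at this
  have hs : natSearch (q f) fa fb = true := by
    cases q f <;> cases fa <;> cases fb
    exacts [natSearch_fff, natSearch_fft, natSearch_ftf, natSearch_ftt, natSearch_tff, natSearch_tft,
      natSearch_ttf, natSearch_ttt]
  simp only [natSearch, List.all_eq_true, Bool.or_eq_true, Bool.and_eq_true, Bool.not_eq_true',
    List.any_eq_true] at hs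
  rcases hs y hext with hbad | ⟨⟨⟨hc', -⟩, -⟩, x, hx, hxe⟩
  · rw [hg] at hbad; exact Bool.noConfusion hbad
  rw [hc'] at hb
  obtain ⟨s, hsl, rfl⟩ := List.getElem_of_mem hx
  have hsl' : s < 6 := (nat_certs 0 0).2.1 ▸ hsl
  have hys : y = natSols.getD s [] := by
    rw [eqL_eq.mp hxe, List.getD_eq_getElem?_getD, List.getElem?_eq_getElem hsl, Option.getD_some]
  obtain ⟨-, -, hNl, -, -⟩ := nat_certs ⟨s, hsl'⟩ 0
  obtain ⟨hb', hmat⟩ := h.change_basis hb hNl fun i j => ⟨((cert_forms ⟨s, hsl'⟩ i j).1).2,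
    ((cert_forms ⟨s, hsl'⟩ i j).2.1).2, (cert_forms ⟨s, hsl'⟩ i j).2.2.2⟩
  refine ⟨_, hb', fun k => ?_⟩
  obtain ⟨-, -, -, hMl, he'⟩ := nat_certs ⟨s, hsl'⟩ k
  refine hmat _ _ hMl (fun i hi => (gens_bound k ⟨i, hi⟩).2) ?_
  have hw := word7_ok false k
  rw [← Equiv.ext fun i => (hw i).1,
    (h.matOf_word hb (getD_append4 h lx hX (fun j => (natX_high j).2.2)) _ (hw 0).2).2, ← hy, hys]
  exact he'

/-- A faithful action of the alternating group of degree nine on such a space has one of two lists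
of matrices on the seven generators. -/
theorem classify :
    ∃ (sp fl : Bool) (bb : ℕ → V), Basis8 q b true bb ∧
      ∀ k : Fin 7, matOf bb (A (alt (gen7 fl k))) = (if sp then spinM else natM).getD k [] := by
  rcases h.comp_cases with hc | ⟨hc, h0⟩
  · obtain ⟨fl, bb, hb, hM⟩ := h.classify_spin hc
    exact ⟨true, fl, bb, hb, hM⟩
  · obtain ⟨bb, hb, hM⟩ := h.classify_nat hc h0
    exact ⟨false, false, bb, hb, hM⟩

end Mo

end CfsgLib.ThType
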