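import Cfsg.Agent.Lib.ThType.Coords

/-!
Arithmetic of codes of automorphisms and elements inducing them.
-/

set_option autoImplicit false
set_option Elab.async false

namespace CfsgLib.ThType

/-- the code of the inverse -/
def invCode (e : ℕ) : ℕ := e ^^^ (if qd (e &&& 255) then 256 else 0)

/-- the code of the commutator of an automorphism with an element -/
def comCode (A : List ℕ) (s : ℕ) : ℕ := emul (autApp A s) (invCode s)

/-- the code of the automorphism induced by an element -/
def innCode (e : ℕ) : List ℕ :=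
  (List.range 8).map fun i => 2 ^ i ^^^ (if bil (e &&& 255) (2 ^ i) then 256 else 0)

/-- the product along a word -/
def prodX {C : Type*} [Group C] (x : ℕ → C) : List ℕ → C
  | [] => 1
  | k :: w => x k * prodX x w

theorem linPart_getD (A : List ℕ) (n : ℕ) : (linPart A).getD n 0 = A.getD n 0 &&& 255 := by
  by_cases h : n < A.length
  · simp [linPart, List.getD_eq_getElem?_getD, h]
  · simp [linPart, List.getD_eq_getElem?_getD, Nat.le_of_not_lt h]

theorem prodTo_low (A : List ℕ) (x : ℕ) : ∀ n ≤ 8,
    prodTo A x n &&& 255 = linApp (linPart A) (x &&& 255) n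
  | 0, _ => by simp [prodTo, linApp]
  | n + 1, hn => by
    rw [prodTo, linApp, testBit_and_255 x hn, linPart_getD]
    split
    · rw [emul_and_255, prodTo_low A x n (Nat.le_of_succ_le hn)]
    · exact prodTo_low A x n (Nat.le_of_succ_le hn)

theorem autApp_low (A : List ℕ) (x : ℕ) : autApp A x &&& 255 = linV (linPart A) (x &&& 255) := by
  rw [autApp, Nat.and_xor_distrib_right, prodTo_low A x 8 le_rfl,
    show x &&& 256 &&& 255 = 0 by rw [Nat.and_assoc]; simp, Nat.xor_zero]
  rfl

theorem linPart_comp (A B : List ℕ) : linPart (autComp A B) = linComp (linPart A) (linPart B) := by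
  simp only [linPart, autComp, linComp, List.map_map]
  refine List.map_congr_left fun x _ => ?_
  exact autApp_low A x

theorem invCode_low (e : ℕ) : invCode e &&& 255 = e &&& 255 := by
  rw [invCode, Nat.and_xor_distrib_right]
  split <;> simp

theorem invCode_lt {e : ℕ} (he : e < 512) : invCode e < 512 :=
  xor_lt (k := 9) he (by split <;> norm_num)

theorem emul_invCode : ∀ e : Fin 512, emul (e : ℕ) (invCode e) = 0 := by
  decide +kernel

theorem autId_linV : ∀ v : Fin 256, linV autId v = v := by decide +kernel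

theorem comCode_low (A : List ℕ) (s : ℕ) :
    comCode A s &&& 255 = linV (linPart A) (s &&& 255) ^^^ (s &&& 255) := by
  rw [comCode, emul_and_255, autApp_low, invCode_low]

namespace Coords

variable {C : Type*} [Group C] {Q : Subgroup C} {z : C} {g : ℕ → C} (h : Coords Q z g)

include h

theorem z_inv : z⁻¹ = z := inv_eq_of_mul_eq_one_right h.z_sq

theorem el_sq {x : ℕ} (hx : x < 512) : el z g x * el z g x = zp z (qd (x &&& 255)) := by
  rw [h.el_mul hx, show emul x x = if qd (x &&& 255) then 256 else 0 by rw [emul_eq, Nat.xor_self, Nat.zero_xor]; rfl]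
  split
  · rename_i hh; rw [h.el_256, hh]; rfl
  · rename_i hh; rw [h.el_zero, Bool.eq_false_iff.mpr hh]; rfl

theorem el_inv {e : ℕ} (he : e < 512) : (el z g e)⁻¹ = el z g (invCode e) := by
  apply inv_eq_of_mul_eq_one_right
  rw [h.el_mul (invCode_lt he), emul_invCode ⟨e, he⟩, h.el_zero]

theorem el_lowzero {e : ℕ} (he : e < 512) (h0 : e &&& 255 = 0) : el z g e = 1 ∨ el z g e = z := by
  have h1 : e % 256 = 0 := by
    rw [show (256 : ℕ) = 2 ^ 8 from rfl, ← Nat.and_two_pow_sub_one_eq_mod]; exact h0
  rcases (show e = 0 ∨ e = 256 by omega) with rfl | rfl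
  · exact Or.inl h.el_zero
  · exact Or.inr h.el_256

/-- Two elements with the same low part differ at most by the centre. -/
theorem el_low {a b : ℕ} (ha : a < 512) (hb : b < 512) (e : a &&& 255 = b &&& 255) :
    el z g a = el z g b ∨ el z g a = el z g b * z := by
  have hm : emul (invCode b) a &&& 255 = 0 := by rw [emul_and_255, invCode_low, e, Nat.xor_self]
  have e1 : el z g a = el z g b * el z g (emul (invCode b) a) := by
    rw [← h.el_mul (x := invCode b) ha, ← h.el_inv hb, mul_inv_cancel_left]
  rcases h.el_lowzero (emul_lt (invCode_lt hb) ha) hm with h1 | h1 <;> rw [h1] at e1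
  · exact Or.inl (e1.trans (mul_one _))
  · exact Or.inr e1

theorem exists_acts (c : C) : ∃ A, Acts z g c A := by
  have hc : ∀ i < 8, ∃ e < 512, el z g e = c * g i * c⁻¹ :=
    fun i hi => h.surj _ (h.normal.conj_mem _ (h.mem i hi) c)
  choose f hf1 hf2 using hc
  refine ⟨(List.range 8).map fun i => if hi : i < 8 then f i hi else 0, by simp, fun i hi => ?_, fun i hi => ?_⟩
  · simpa [List.getD_eq_getElem?_getD, hi] using hf1 i hi
  · simpa [List.getD_eq_getElem?_getD, hi] using (hf2 i hi).symm

theorem acts_zp (b : Bool) : Acts z g (zp z b) autId := by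
  refine ⟨rfl, (h.acts_one).2.1, fun i hi => ?_⟩
  rw [← h.el_two_pow hi, ← zp_comm h.z_comm, mul_inv_cancel_right, h.autId_getD hi]

theorem acts_mul_zp {c : C} {A : List ℕ} (hA : Acts z g c A) (b : Bool) : Acts z g (c * zp z b) A :=
  ⟨hA.1, hA.2.1, fun i hi => by
    rw [zp_comm h.z_comm, mul_inv_rev, show zp z b * c * g i * (c⁻¹ * (zp z b)⁻¹) =
      zp z b * (c * g i * c⁻¹) * (zp z b)⁻¹ by group, ← zp_comm h.z_comm, mul_inv_cancel_right, hA.2.2 i hi]⟩

/-- Elements inducing the same automorphism differ by the centre. -/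
theorem acts_same {c d : C} {A : List ℕ} (hc : Acts z g c A) (hd : Acts z g d A) :
    c = d ∨ c = d * z := by
  obtain ⟨B, hB⟩ := h.exists_acts d⁻¹
  have h1 : autComp B A = autId := by
    have := h.acts_mul hB hd
    rw [inv_mul_cancel] at this
    exact h.acts_eq this h.acts_one
  have h2 := h.acts_mul hB hc
  rw [h1] at h2
  rcases h.eq_of_acts_id h2 with e | e
  · exact Or.inl (inv_mul_eq_one.mp e).symm
  · exact Or.inr (inv_mul_eq_iff_eq_mul.mp e)

theorem acts_id_zp {c : C} (hc : Acts z g c autId) : ∃ b, c = zp z b := by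
  rcases h.eq_of_acts_id hc with e | e
  · exact ⟨false, e⟩
  · exact ⟨true, e⟩

theorem acts_prodX {x : ℕ → C} {Y : List (List ℕ)} : ∀ w : List ℕ,
    (∀ k ∈ w, Acts z g (x k) (Y.getD k autId)) → Acts z g (prodX x w) (autWord Y w)
  | [], _ => h.acts_one
  | k :: w, hk => h.acts_mul (hk k List.mem_cons_self) (acts_prodX w fun j hj => hk j (List.mem_cons_of_mem _ hj))

/-- the commutator with an element of the normal subgroup -/
theorem comm_el {c : C} {A : List ℕ} (hA : Acts z g c A) {s : ℕ} (hs : s < 512) :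
    c * el z g s * c⁻¹ * (el z g s)⁻¹ = el z g (comCode A s) ∧ comCode A s < 512 := by
  obtain ⟨e, hlt⟩ := h.acts_el hA hs
  rw [e, h.el_inv hs, h.el_mul (invCode_lt hs)]
  exact ⟨rfl, emul_lt hlt (invCode_lt hs)⟩

theorem acts_qd {c : C} {A : List ℕ} (hA : Acts z g c A) {v : ℕ} (hv : v < 256) :
    qd (linV (linPart A) v) = qd v := by
  obtain ⟨e, hlt⟩ := h.acts_el hA (x := v) (hv.trans (by norm_num))
  have h1 : el z g (autApp A v) * el z g (autApp A v) = zp z (qd v) := by
    rw [← e, show c * el z g v * c⁻¹ * (c * el z g v * c⁻¹) = c * (el z g v * el z g v) * c⁻¹ by group,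
      h.el_sq (hv.trans (by norm_num)), and_255_of_lt hv, zp_comm h.z_comm, mul_inv_cancel_right]
  rw [h.el_sq hlt, autApp_low, and_255_of_lt hv] at h1
  revert h1
  cases qd (linV (linPart A) v) <;> cases qd v <;> simp [zp, h.z_ne, Ne.symm h.z_ne]

theorem acts_el_self {e : ℕ} (he : e < 512) : Acts z g (el z g e) (innCode e) := h.acts_inner he

end Coords

end CfsgLib.ThType
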