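import Cfsg.Agent.Lib.ThType.Form

/-!
Coordinates in the extraspecial group and the codes of the automorphisms induced by conjugation.
-/

set_option autoImplicit false
set_option Elab.async false

namespace CfsgLib.ThType

variable {C : Type*} [Group C]

/-- a power of the central involution -/
def zp (z : C) (b : Bool) : C := if b then z else 1

/-- the product of the first `n` generators occurring in a code, the last first -/
def prd (g : ℕ → C) (v : ℕ) : ℕ → C
  | 0 => 1
  | n + 1 => if v.testBit n then g n * prd g v n else prd g v n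

/-- the element with a given code -/
def el (z : C) (g : ℕ → C) (e : ℕ) : C := zp z (e.testBit 8) * prd g e 8

/-- Coordinates in `Q`. -/
structure Coords (Q : Subgroup C) (z : C) (g : ℕ → C) : Prop where
  normal : Q.Normal
  self : Subgroup.centralizer (Q : Set C) ≤ Q
  card : Nat.card Q = 512
  mem : ∀ i < 8, g i ∈ Q
  z_mem : z ∈ Q
  z_sq : z * z = 1
  z_ne : z ≠ 1
  z_comm : ∀ c : C, c * z = z * c
  sq : ∀ i < 8, g i * g i = zp z (qd (2 ^ i))
  comm : ∀ i < 8, ∀ j < 8, g i * g j = g j * g i * zp z (bil (2 ^ i) (2 ^ j))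
  surj : ∀ x ∈ Q, ∃ e < 512, el z g e = x

/-- `c` induces the automorphism with the code `A`. -/
def Acts (z : C) (g : ℕ → C) (c : C) (A : List ℕ) : Prop :=
  A.length = 8 ∧ (∀ i < 8, A.getD i 0 < 512) ∧ ∀ i < 8, c * g i * c⁻¹ = el z g (A.getD i 0)

/-- the sum of the forms with the generators below `n` that occur in a code -/
def bilTo (v : ℕ) : ℕ → ℕ → Bool
  | 0, _ => false
  | n + 1, m => xor (v.testBit n && bil (2 ^ n) (2 ^ m)) (bilTo v n m)

theorem bet_basis : ∀ v : Fin 256, ∀ k : Fin 8,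
    bet v (2 ^ (k : ℕ)) = xor (bilTo v k k) ((v : ℕ).testBit k && qd (2 ^ (k : ℕ))) := by
  decide +kernel

theorem bet_low : ∀ n : Fin 8, ∀ l : Fin 256, (l : ℕ) < 2 ^ (n : ℕ) → bet (2 ^ (n : ℕ)) l = false := by
  decide +kernel

theorem and_255_of_lt {v : ℕ} (h : v < 256) : v &&& 255 = v := by
  rw [show (255 : ℕ) = 2 ^ 8 - 1 from rfl, Nat.and_two_pow_sub_one_eq_mod]
  exact Nat.mod_eq_of_lt h

theorem and_255_lt (v : ℕ) : v &&& 255 < 256 := Nat.lt_succ_of_le Nat.and_le_right

theorem testBit_and_255 (v : ℕ) {i : ℕ} (h : i < 8) : (v &&& 255).testBit i = v.testBit i := by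
  rw [show (255 : ℕ) = 2 ^ 8 - 1 from rfl, Nat.testBit_and, Nat.testBit_two_pow_sub_one]
  simp [h]

theorem emul_and_255 (x y : ℕ) : emul x y &&& 255 = (x &&& 255) ^^^ (y &&& 255) := by
  simp only [emul, Nat.and_xor_distrib_right]
  split <;> simp

theorem emul_testBit_8 {x y : ℕ} :
    (emul x y).testBit 8 = xor (xor (x.testBit 8) (y.testBit 8)) (bet (x &&& 255) (y &&& 255)) := by
  simp only [emul, Nat.testBit_xor]
  cases bet (x &&& 255) (y &&& 255) <;> simp [show Nat.testBit 256 8 = true from rfl]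

theorem emul_eq (x y : ℕ) : emul x y =
    x ^^^ y ^^^ (if bet (x &&& 255) (y &&& 255) then 256 else 0) := rfl

/-- Multiplication of codes is associative where the two later factors have no cocycle. -/
theorem emul_emul {x a b : ℕ} (ha : a < 256) (hb : b < 256) (h : bet a b = false) :
    emul (emul x a) b = emul x (a ^^^ b) := by
  rw [emul_eq (emul x a) b, emul_and_255, and_255_of_lt ha, and_255_of_lt hb, emul_eq x a,
    and_255_of_lt ha, emul_eq x (a ^^^ b), and_255_of_lt (xor_lt (k := 8) ha hb),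
    bet_xor_left (and_255_lt x) ha, h, Bool.xor_false, bet_xor_right (and_255_lt x)]
  cases bet (x &&& 255) a <;> cases bet (x &&& 255) b <;>
    simp [Nat.xor_assoc, Nat.xor_comm, Nat.xor_left_comm, Nat.xor_self]

theorem zp_mul {z : C} (hz : z * z = 1) (a b : Bool) : zp z a * zp z b = zp z (xor a b) := by
  cases a <;> cases b <;> simp [zp, hz]

theorem zp_comm {z : C} (hz : ∀ c : C, c * z = z * c) (a : Bool) (c : C) :
    c * zp z a = zp z a * c := by
  cases a <;> simp [zp, hz c]

theorem prd_congr (g : ℕ → C) {u v : ℕ} : ∀ n, (∀ i < n, u.testBit i = v.testBit i) →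
    prd g u n = prd g v n
  | 0, _ => rfl
  | n + 1, h => by
    rw [prd, prd, prd_congr g n (fun i hi => h i (Nat.lt_succ_of_lt hi)), h n (Nat.lt_succ_self n)]

theorem el_eq (z : C) (g : ℕ → C) (e : ℕ) : el z g e = zp z (e.testBit 8) * prd g (e &&& 255) 8 := by
  rw [el, prd_congr g 8 fun i hi => (testBit_and_255 e hi).symm]

namespace Coords

variable {Q : Subgroup C} {z : C} {g : ℕ → C} (h : Coords Q z g)

include h

theorem zp_mem (b : Bool) : zp z b ∈ Q := by
  cases b
  · exact Q.one_mem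
  · exact h.z_mem

theorem prd_mem (v : ℕ) : ∀ n ≤ 8, prd g v n ∈ Q
  | 0, _ => Q.one_mem
  | n + 1, hn => by
    rw [prd]
    split
    · exact Q.mul_mem (h.mem n hn) (prd_mem v n (Nat.le_of_succ_le hn))
    · exact prd_mem v n (Nat.le_of_succ_le hn)

theorem el_mem (e : ℕ) : el z g e ∈ Q := Q.mul_mem (h.zp_mem _) (h.prd_mem e 8 le_rfl)

theorem el_zero : el z g 0 = 1 := by simp [el, zp, prd]

theorem el_256 : el z g 256 = z := by
  simp [el, zp, prd, show Nat.testBit 256 8 = true from rfl, show Nat.testBit 256 7 = false from rfl,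
    show Nat.testBit 256 6 = false from rfl, show Nat.testBit 256 5 = false from rfl,
    show Nat.testBit 256 4 = false from rfl, show Nat.testBit 256 3 = false from rfl,
    show Nat.testBit 256 2 = false from rfl, show Nat.testBit 256 1 = false from rfl]

theorem prd_comm (v : ℕ) {m : ℕ} (hm : m < 8) : ∀ n ≤ 8,
    prd g v n * g m = g m * prd g v n * zp z (bilTo v n m)
  | 0, _ => by simp [prd, bilTo, zp]
  | n + 1, hn => by
    have ih := prd_comm v hm n (Nat.le_of_succ_le hn)
    rw [prd, bilTo]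
    by_cases hb : v.testBit n
    · rw [if_pos hb, mul_assoc, ih, ← mul_assoc, ← mul_assoc, h.comm n hn m hm,
        mul_assoc (g m * g n), ← zp_comm h.z_comm _ (prd g v n), ← mul_assoc, mul_assoc, zp_mul h.z_sq, hb,
        Bool.true_and, mul_assoc (g m) (g n)]
    · rw [if_neg hb, ih]
      simp [Bool.eq_false_iff.mpr hb]

theorem prd_gen (v : ℕ) {k : ℕ} (hk : k < 8) : ∀ n ≤ 8, k < n →
    prd g v n * g k = prd g (v ^^^ 2 ^ k) n *
      zp z (xor (bilTo v k k) (v.testBit k && qd (2 ^ k)))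
  | 0, _, h0 => absurd h0 (Nat.not_lt_zero k)
  | n + 1, hn, hkn => by
    have htb : ∀ i, (v ^^^ 2 ^ k).testBit i = xor (v.testBit i) (decide (k = i)) := fun i => by
      rw [Nat.testBit_xor, Nat.testBit_two_pow]
    rcases Nat.lt_succ_iff_lt_or_eq.mp hkn with hlt | rfl
    · have ih := prd_gen v hk n (Nat.le_of_succ_le hn) hlt
      rw [prd, prd, htb n, decide_eq_false hlt.ne, Bool.xor_false]
      by_cases hb : v.testBit n
      · rw [if_pos hb, if_pos hb, mul_assoc, ih, ← mul_assoc]
      · rw [if_neg hb, if_neg hb, ih]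
    · have hlow : prd g (v ^^^ 2 ^ k) k = prd g v k := prd_congr g k fun i hi => by
        rw [htb i, decide_eq_false hi.ne', Bool.xor_false]
      have ih := h.prd_comm v hk k (Nat.le_of_succ_le hn)
      rw [prd, prd, htb k, decide_eq_true rfl, hlow]
      by_cases hb : v.testBit k
      · simp only [hb, if_true, Bool.xor_true, Bool.not_true, Bool.false_eq_true, if_false, Bool.true_and]
        rw [mul_assoc, ih, ← mul_assoc, ← mul_assoc, h.sq k hk,
          ← zp_comm h.z_comm _ (prd g v k), mul_assoc, zp_mul h.z_sq, Bool.xor_comm]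
      · simp [Bool.eq_false_iff.mpr hb, ih]

theorem el_mul_gen {x k : ℕ} (hk : k < 8) : el z g x * g k = el z g (emul x (2 ^ k)) := by
  have h2 : 2 ^ k < 256 := by
    calc 2 ^ k < 2 ^ 8 := Nat.pow_lt_pow_right (by norm_num) hk
      _ = 256 := rfl
  rw [el_eq, el_eq z g (emul x (2 ^ k)), emul_and_255, emul_testBit_8, mul_assoc,
    h.prd_gen _ hk 8 le_rfl hk, and_255_of_lt h2, ← bet_basis ⟨_, and_255_lt x⟩ ⟨k, hk⟩,
    zp_comm h.z_comm, ← mul_assoc, zp_mul h.z_sq, Nat.testBit_two_pow]
  simp [show k ≠ 8 from hk.ne]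

theorem el_mul_prd {x y : ℕ} : ∀ n ≤ 8, el z g x * prd g y n = el z g (emul x (y % 2 ^ n))
  | 0, _ => by
    simp [prd, emul, Nat.mod_one, bet_zero_right]
  | n + 1, hn => by
    have hl : y % 2 ^ n < 2 ^ n := Nat.mod_lt _ (Nat.two_pow_pos n)
    have h8 : 2 ^ n ≤ 128 := Nat.pow_le_pow_right (by norm_num) (Nat.lt_succ_iff.mp hn : n ≤ 7)
    rw [prd, Nat.mod_pow_succ, ← Nat.toNat_testBit]
    by_cases hb : y.testBit n
    · rw [if_pos hb, ← mul_assoc, h.el_mul_gen hn, el_mul_prd n (Nat.le_of_succ_le hn), hb,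
        emul_emul (a := 2 ^ n) (b := y % 2 ^ n) (by omega) (by omega)
          (bet_low ⟨n, hn⟩ ⟨y % 2 ^ n, by omega⟩ hl)]
      congr 2
      rw [Bool.toNat_true, Nat.mul_one, Nat.add_comm, show 2 ^ n + y % 2 ^ n = 2 ^ n * 1 + y % 2 ^ n by rw [Nat.mul_one],
        Nat.two_pow_add_eq_or_of_lt hl, Nat.mul_one]
      apply Nat.eq_of_testBit_eq
      intro i
      simp only [Nat.testBit_xor, Nat.testBit_or, Nat.testBit_two_pow]
      by_cases hi : n = i
      · subst hi
        simp [Nat.testBit_lt_two_pow hl]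
      · simp [hi]
    · rw [if_neg hb, el_mul_prd n (Nat.le_of_succ_le hn)]
      simp [Bool.eq_false_iff.mpr hb]

theorem el_mul {x y : ℕ} (hy : y < 512) : el z g x * el z g y = el z g (emul x y) := by
  rw [el_eq z g y, ← mul_assoc, zp_comm h.z_comm, mul_assoc, h.el_mul_prd 8 le_rfl,
    Nat.mod_eq_of_lt (show y &&& 255 < 2 ^ 8 from and_255_lt y), el_eq, el_eq z g (emul x y), emul_and_255, emul_and_255,
    emul_testBit_8, emul_testBit_8, and_255_of_lt (and_255_lt y), ← mul_assoc, zp_mul h.z_sq,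
    show (y &&& 255).testBit 8 = false from Nat.testBit_lt_two_pow (and_255_lt y)]
  congr 2
  cases x.testBit 8 <;> cases y.testBit 8 <;> cases bet (x &&& 255) (y &&& 255) <;> rfl

theorem el_inj : ∀ a < 512, ∀ b < 512, el z g a = el z g b → a = b := by
  have hcard := h.card
  haveI : Finite Q := Nat.finite_of_card_ne_zero (by rw [hcard]; norm_num)
  let f : Fin 512 → Q := fun e => ⟨el z g e, h.el_mem _⟩
  have hs : Function.Surjective f := fun x => by
    obtain ⟨e, he, hx⟩ := h.surj x x.2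
    exact ⟨⟨e, he⟩, Subtype.ext hx⟩
  have hb : Function.Bijective f :=
    (Nat.bijective_iff_surjective_and_card f).mpr ⟨hs, by simp [hcard]⟩
  intro a ha b hb' e
  exact Fin.val_eq_of_eq (hb.1 (a₁ := ⟨a, ha⟩) (a₂ := ⟨b, hb'⟩) (Subtype.ext e))

theorem el_two_pow {k : ℕ} (hk : k < 8) : el z g (2 ^ k) = g k := by
  have e := h.el_mul_gen (x := 0) hk
  rw [h.el_zero, one_mul] at e
  rw [e]
  congr 1
  simp [emul, bet_zero_left]

/-- conjugation by an element with a code -/
theorem conj_prd {c : C} {A : List ℕ} (hA : Acts z g c A) (x : ℕ) : ∀ n ≤ 8,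
    c * prd g x n * c⁻¹ = el z g (prodTo A x n) ∧ prodTo A x n < 512
  | 0, _ => ⟨by simp [prd, prodTo, h.el_zero], by simp [prodTo]⟩
  | n + 1, hn => by
    obtain ⟨ih, hlt⟩ := conj_prd hA x n (Nat.le_of_succ_le hn)
    rw [prd, prodTo]
    split
    · refine ⟨?_, emul_lt (hA.2.1 n hn) hlt⟩
      rw [show c * (g n * prd g x n) * c⁻¹ = (c * g n * c⁻¹) * (c * prd g x n * c⁻¹) by group,
        hA.2.2 n hn, ih, h.el_mul hlt]
    · exact ⟨ih, hlt⟩

theorem acts_el {c : C} {A : List ℕ} (hA : Acts z g c A) {x : ℕ} (hx : x < 512) :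
    c * el z g x * c⁻¹ = el z g (autApp A x) ∧ autApp A x < 512 := by
  obtain ⟨e, hlt⟩ := h.conj_prd hA x 8 le_rfl
  have hx8 : x &&& 256 < 512 := lt_of_le_of_lt Nat.and_le_left hx
  refine ⟨?_, xor_lt (k := 9) hlt hx8⟩
  rw [el, show c * (zp z (x.testBit 8) * prd g x 8) * c⁻¹ =
      (c * zp z (x.testBit 8) * c⁻¹) * (c * prd g x 8 * c⁻¹) by group, e,
    zp_comm h.z_comm, mul_inv_cancel_right, el_eq, autApp, el_eq z g (_ ^^^ _), ← mul_assoc,
    zp_mul h.z_sq, Nat.testBit_xor, Nat.and_xor_distrib_right, Nat.testBit_and,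
    show Nat.testBit 256 8 = true from rfl, Bool.and_true,
    show x &&& 256 &&& 255 = 0 by rw [Nat.and_assoc]; simp, Nat.xor_zero, Bool.xor_comm]

theorem acts_mul {a b : C} {A B : List ℕ} (hA : Acts z g a A) (hB : Acts z g b B) :
    Acts z g (a * b) (autComp A B) := by
  have hget : ∀ i < 8, (autComp A B).getD i 0 = autApp A (B.getD i 0) := fun i hi => by
    simp [autComp, List.getD_eq_getElem?_getD, hB.1, hi]
  refine ⟨by simp [autComp, hB.1], fun i hi => ?_, fun i hi => ?_⟩
  · rw [hget i hi]; exact (h.acts_el hA (hB.2.1 i hi)).2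
  · rw [hget i hi, ← (h.acts_el hA (hB.2.1 i hi)).1, ← hB.2.2 i hi]; group

theorem autId_getD {i : ℕ} (hi : i < 8) : autId.getD i 0 = 2 ^ i := by
  interval_cases i <;> rfl

theorem acts_one : Acts z g 1 autId :=
  ⟨rfl, fun i hi => by
    rw [h.autId_getD hi]
    exact lt_of_lt_of_le (Nat.pow_lt_pow_right (by norm_num) hi) (by norm_num),
    fun i hi => by rw [h.autId_getD hi, h.el_two_pow hi]; group⟩

theorem acts_inner {e : ℕ} (he : e < 512) :
    Acts z g (el z g e) ((List.range 8).map fun i => 2 ^ i ^^^ (if bil (e &&& 255) (2 ^ i) then 256 else 0)) := by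
  have h2 : ∀ i < 8, 2 ^ i < 256 := fun i hi =>
    lt_of_lt_of_le (Nat.pow_lt_pow_right (by norm_num) hi) (by norm_num)
  have hget : ∀ i < 8, ((List.range 8).map fun i => 2 ^ i ^^^
      (if bil (e &&& 255) (2 ^ i) then 256 else 0)).getD i 0 =
      2 ^ i ^^^ (if bil (e &&& 255) (2 ^ i) then 256 else 0) := fun i hi => by
    simp [List.getD_eq_getElem?_getD, hi]
  refine ⟨by simp, fun i hi => ?_, fun i hi => ?_⟩
  · rw [hget i hi]
    exact xor_lt (k := 9) ((h2 i hi).trans (by norm_num)) (by split <;> norm_num)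
  · rw [hget i hi, mul_inv_eq_iff_eq_mul, ← h.el_two_pow hi, h.el_mul (x := e) ((h2 i hi).trans (by norm_num)),
      h.el_mul he]
    congr 1
    rw [emul_eq, emul_eq, Nat.and_xor_distrib_right, and_255_of_lt (h2 i hi)]
    have : (if bil (e &&& 255) (2 ^ i) then 256 else 0) &&& 255 = 0 := by split <;> rfl
    rw [this, Nat.xor_zero, bil]
    cases bet (e &&& 255) (2 ^ i) <;> cases bet (2 ^ i) (e &&& 255) <;>
      simp [Nat.xor_assoc, Nat.xor_comm, Nat.xor_left_comm, Nat.xor_self]

theorem acts_eq {c : C} {A : List ℕ} (hA : Acts z g c A) {B : List ℕ} (hB : Acts z g c B) : A = B := by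
  refine List.ext_getElem (hA.1.trans hB.1.symm) fun i h1 h2 => ?_
  have hi : i < 8 := hA.1 ▸ h1
  have := h.el_inj _ (hA.2.1 i hi) _ (hB.2.1 i hi) ((hA.2.2 i hi).symm.trans (hB.2.2 i hi))
  simpa [List.getD_eq_getElem?_getD, List.getElem?_eq_getElem h1, List.getElem?_eq_getElem h2] using this

end Coords

/-- the vector pairing with the generators as prescribed -/
def dualv (p : ℕ) : ℕ := ((p >>> 1) &&& 85) ||| ((p &&& 85) <<< 1)

theorem dual_spec : ∀ p : Fin 256, dualv p < 256 ∧ ∀ i : Fin 8,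
    bil (dualv p) (2 ^ (i : ℕ)) = (p : ℕ).testBit i := by
  decide +kernel

theorem perp_zero : ∀ v : Fin 256, (∀ i : Fin 8, bil v (2 ^ (i : ℕ)) = false) → v = 0 := by
  decide +kernel

namespace Coords

variable {Q : Subgroup C} {z : C} {g : ℕ → C} (h : Coords Q z g)

include h

/-- An element with the linear action of a code can be changed by `Q` to induce the code. -/
theorem exists_adjust {c : C} {A B : List ℕ} (hA : Acts z g c A) (hBl : B.length = 8)
    (hB : ∀ i < 8, B.getD i 0 < 512) (hl : linPart A = linPart B) :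
    ∃ q ∈ Q, Acts z g (c * q) B := by
  obtain ⟨p, hp⟩ : ∃ p : Fin 256, ∀ i < 8, (p : ℕ).testBit i =
      xor ((A.getD i 0).testBit 8) ((B.getD i 0).testBit 8) := by
    refine ⟨⟨((List.range 8).map fun i => if xor ((A.getD i 0).testBit 8) ((B.getD i 0).testBit 8)
      then 2 ^ i else 0).sum % 256, Nat.mod_lt _ (by norm_num)⟩, fun i hi => ?_⟩
    simp only [List.range_succ, List.range_zero, List.nil_append, List.cons_append, List.map_cons,
      List.map_nil, List.sum_cons, List.sum_nil]
    interval_cases i <;>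
      cases xor ((A.getD 0 0).testBit 8) ((B.getD 0 0).testBit 8) <;>
      cases xor ((A.getD 1 0).testBit 8) ((B.getD 1 0).testBit 8) <;>
      cases xor ((A.getD 2 0).testBit 8) ((B.getD 2 0).testBit 8) <;>
      cases xor ((A.getD 3 0).testBit 8) ((B.getD 3 0).testBit 8) <;>
      cases xor ((A.getD 4 0).testBit 8) ((B.getD 4 0).testBit 8) <;>
      cases xor ((A.getD 5 0).testBit 8) ((B.getD 5 0).testBit 8) <;>
      cases xor ((A.getD 6 0).testBit 8) ((B.getD 6 0).testBit 8) <;>
      cases xor ((A.getD 7 0).testBit 8) ((B.getD 7 0).testBit 8) <;> rfl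
  obtain ⟨hd, hdual⟩ := dual_spec p
  refine ⟨el z g (dualv p), h.el_mem _, hBl, hB, fun i hi => ?_⟩
  have h2 : 2 ^ i < 256 := lt_of_lt_of_le (Nat.pow_lt_pow_right (by norm_num) hi) (by norm_num)
  have hd' : dualv p < 512 := hd.trans (by norm_num)
  have key := (h.acts_inner hd').2.2 i hi
  rw [List.getD_eq_getElem?_getD] at key
  simp only [List.getElem?_map, List.getElem?_range hi, Option.map_some, Option.getD_some] at key
  rw [and_255_of_lt hd, hdual ⟨i, hi⟩] at key
  rw [show c * el z g (dualv p) * g i * (c * el z g (dualv p))⁻¹ =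
    c * (el z g (dualv p) * g i * (el z g (dualv p))⁻¹) * c⁻¹ by group, key]
  have hz : el z g (2 ^ i ^^^ (if (p : ℕ).testBit i then 256 else 0)) = zp z ((p : ℕ).testBit i) * g i := by
    rw [el_eq, ← h.el_two_pow hi, el_eq z g (2 ^ i), Nat.testBit_xor, Nat.testBit_two_pow,
      decide_eq_false (Nat.ne_of_lt hi), Bool.false_xor, Nat.and_xor_distrib_right, and_255_of_lt h2]
    cases (p : ℕ).testBit i <;> simp [zp, show Nat.testBit 256 8 = true from rfl]
  rw [hz, show c * (zp z ((p : ℕ).testBit i) * g i) * c⁻¹ =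
    (c * zp z ((p : ℕ).testBit i) * c⁻¹) * (c * g i * c⁻¹) by group, zp_comm h.z_comm,
    mul_inv_cancel_right, hA.2.2 i hi, el_eq, el_eq z g (B.getD i 0), ← mul_assoc, zp_mul h.z_sq, hp i hi]
  have hl' : A.getD i 0 &&& 255 = B.getD i 0 &&& 255 := by
    have := congrArg (fun l => l.getD i 0) hl
    simpa [linPart, List.getD_eq_getElem?_getD, hA.1, hBl, hi] using this
  rw [hl']
  congr 2
  cases (A.getD i 0).testBit 8 <;> cases (B.getD i 0).testBit 8 <;> rfl

/-- Only the centre induces the identity. -/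
theorem eq_of_acts_id {c : C} (hc : Acts z g c autId) : c = 1 ∨ c = z := by
  have hcQ : c ∈ Q := h.self (Subgroup.mem_centralizer_iff.mpr fun q hq => by
    obtain ⟨e, he, rfl⟩ := h.surj q hq
    have := (h.acts_el hc he).1
    have hid : autApp autId e = e := by
      have h1 := (h.acts_el h.acts_one he).1
      have h2 := (h.acts_el h.acts_one he).2
      simp only [one_mul, inv_one, mul_one] at h1
      exact (h.el_inj e he _ h2 h1).symm
    rw [hid] at this
    exact (mul_inv_eq_iff_eq_mul.mp this).symm)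
  obtain ⟨e, he, rfl⟩ := h.surj c hcQ
  have heq := h.acts_eq (h.acts_inner he) hc
  have hperp : ∀ i : Fin 8, bil (e &&& 255) (2 ^ (i : ℕ)) = false := fun i => by
    have := congrArg (fun l => l.getD (i : ℕ) 0) heq
    simp only [h.autId_getD i.2, List.getD_eq_getElem?_getD, List.getElem?_map,
      List.getElem?_range i.2, Option.map_some, Option.getD_some] at this
    by_contra hne
    rw [Bool.not_eq_false] at hne
    rw [hne] at this
    simp at this
  have := congrArg Fin.val (perp_zero ⟨_, and_255_lt e⟩ hperp)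
  have h256 : e = 0 ∨ e = 256 := by
    have h1 : e % 256 = 0 := by
      rw [show (256 : ℕ) = 2 ^ 8 from rfl, ← Nat.and_two_pow_sub_one_eq_mod]; exact this
    omega
  rcases h256 with rfl | rfl
  · exact Or.inl h.el_zero
  · exact Or.inr h.el_256

end Coords

end CfsgLib.ThType
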