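import Mathlib

/-!
Codes for an extraspecial group of order `2 ^ 9` of plus type with four quaternion factors, and for
its automorphisms.

A number below `512` stands for an element: the low eight bits for the image in the factor group by
the centre, the ninth bit for the central part. An automorphism is coded by the images of the eight
generators.
-/

set_option autoImplicit false

namespace CfsgLib.ThType

/-- the parity of a number below `256` -/
def par8 (x : ℕ) : Bool :=
  let a := x ^^^ (x >>> 4)
  let b := a ^^^ (a >>> 2)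
  (b ^^^ (b >>> 1)).testBit 0

/-- the second argument of the cocycle, as a linear map -/
def rowv (v : ℕ) : ℕ := v ^^^ ((v >>> 1) &&& 85)

/-- the cocycle -/
def bet (u v : ℕ) : Bool := par8 (u &&& rowv v)

/-- the quadratic form -/
def qd (v : ℕ) : Bool := bet v v

/-- the bilinear form -/
def bil (u v : ℕ) : Bool := xor (bet u v) (bet v u)

/-- the product of two codes -/
def emul (x y : ℕ) : ℕ := x ^^^ y ^^^ (if bet (x &&& 255) (y &&& 255) then 256 else 0)

/-- the code of the product of the images of the first `n` generators, the last first -/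
def prodTo (c : List ℕ) (x : ℕ) : ℕ → ℕ
  | 0 => 0
  | n + 1 => if x.testBit n then emul (c.getD n 0) (prodTo c x n) else prodTo c x n

/-- the image of a code -/
def autApp (c : List ℕ) (x : ℕ) : ℕ := (prodTo c x 8) ^^^ (x &&& 256)

/-- the composite, the second first -/
def autComp (a b : List ℕ) : List ℕ := b.map (autApp a)

/-- the identity -/
def autId : List ℕ := [1, 2, 4, 8, 16, 32, 64, 128]

/-- the composite along a word -/
def autWord (Y : List (List ℕ)) : List ℕ → List ℕ
  | [] => autId
  | k :: w => autComp (Y.getD k autId) (autWord Y w)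

/-- the linear part -/
def linPart (c : List ℕ) : List ℕ := c.map (· &&& 255)

/-- the image of a vector under a linear map -/
def linApp (M : List ℕ) (v : ℕ) : ℕ → ℕ
  | 0 => 0
  | n + 1 => if v.testBit n then (M.getD n 0) ^^^ linApp M v n else linApp M v n

/-- the image of a vector under a linear map of the eight-dimensional space -/
def linV (M : List ℕ) (v : ℕ) : ℕ := linApp M v 8

/-- the composite of linear maps, the second first -/
def linComp (A B : List ℕ) : List ℕ := B.map (linV A)

theorem linApp_succ (M : List ℕ) (v n : ℕ) :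
    linApp M v (n + 1) = if v.testBit n then (M.getD n 0) ^^^ linApp M v n else linApp M v n := by
  rw [linApp.eq_def]

theorem par8_zero : par8 0 = false := rfl

theorem xor_lt {x y : ℕ} {k : ℕ} (hx : x < 2 ^ k) (hy : y < 2 ^ k) : x ^^^ y < 2 ^ k :=
  Nat.xor_lt_two_pow hx hy

theorem par8_xor : ∀ x : Fin 256, ∀ y : Fin 256,
    par8 ((x : ℕ) ^^^ y) = xor (par8 x) (par8 y) := by
  intro x y
  have h : ∀ k a b : ℕ, (a ^^^ b) ^^^ ((a ^^^ b) >>> k) = (a ^^^ a >>> k) ^^^ (b ^^^ b >>> k) := by
    intro k a b
    rw [Nat.shiftRight_xor_distrib]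
    ac_rfl
  simp only [par8, h, Nat.testBit_xor]

theorem rowv_xor (a b : ℕ) : rowv (a ^^^ b) = rowv a ^^^ rowv b := by
  simp only [rowv, Nat.shiftRight_xor_distrib, Nat.and_xor_distrib_right]
  ac_rfl

theorem rowv_lt {v : ℕ} (h : v < 256) : rowv v < 256 :=
  xor_lt (k := 8) h (lt_of_le_of_lt Nat.and_le_right (by norm_num))

theorem bet_xor_left {a b v : ℕ} (ha : a < 256) (hb : b < 256) :
    bet (a ^^^ b) v = xor (bet a v) (bet b v) := by
  have h1 : a &&& rowv v < 256 := lt_of_le_of_lt Nat.and_le_left ha
  have h2 : b &&& rowv v < 256 := lt_of_le_of_lt Nat.and_le_left hb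
  simp only [bet, Nat.and_xor_distrib_right]
  exact par8_xor ⟨_, h1⟩ ⟨_, h2⟩

theorem bet_xor_right {u a b : ℕ} (hu : u < 256) :
    bet u (a ^^^ b) = xor (bet u a) (bet u b) := by
  simp only [bet, rowv_xor, Nat.and_xor_distrib_left]
  exact par8_xor ⟨_, lt_of_le_of_lt Nat.and_le_left hu⟩ ⟨_, lt_of_le_of_lt Nat.and_le_left hu⟩

theorem bet_zero_left (v : ℕ) : bet 0 v = false := by simp [bet, par8_zero]

theorem bet_zero_right (u : ℕ) : bet u 0 = false := by simp [bet, rowv, par8_zero]

theorem bil_comm (u v : ℕ) : bil u v = bil v u := Bool.xor_comm _ _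

theorem bil_eq_qd {u v : ℕ} (hu : u < 256) (hv : v < 256) :
    bil u v = xor (qd (u ^^^ v)) (xor (qd u) (qd v)) := by
  simp only [bil, qd, bet_xor_left hu hv, bet_xor_right hu, bet_xor_right hv]
  cases bet u u <;> cases bet u v <;> cases bet v u <;> cases bet v v <;> rfl

theorem emul_lt {x y : ℕ} (hx : x < 512) (hy : y < 512) : emul x y < 512 := by
  unfold emul
  exact xor_lt (k := 9) (xor_lt (k := 9) hx hy) (by split <;> norm_num)

end CfsgLib.ThType
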