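import Cfsg.Agent.Lib.ThType.Alt9

/-!
Consequences of coordinates with matrices for the generators.
-/

set_option autoImplicit false
set_option linter.style.haveILetI false
set_option Elab.async false

namespace CfsgLib.ThType

theorem linPart_autId : linPart autId = autId := by decide +kernel

theorem linPart_inn : ∀ e : Fin 512, linPart (innCode e) = autId := by decide +kernel

theorem perp_card_0 : ∀ v : Fin 32, 0 + (v : ℕ) ≠ 0 →
    ((List.range 256).filter fun x => !bil x (0 + v)).length = 128 := by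
  decide +kernel

theorem perp_card_1 : ∀ v : Fin 32, 32 + (v : ℕ) ≠ 0 →
    ((List.range 256).filter fun x => !bil x (32 + v)).length = 128 := by
  decide +kernel

theorem perp_card_2 : ∀ v : Fin 32, 64 + (v : ℕ) ≠ 0 →
    ((List.range 256).filter fun x => !bil x (64 + v)).length = 128 := by
  decide +kernel

theorem perp_card_3 : ∀ v : Fin 32, 96 + (v : ℕ) ≠ 0 →
    ((List.range 256).filter fun x => !bil x (96 + v)).length = 128 := by
  decide +kernel

theorem perp_card_4 : ∀ v : Fin 32, 128 + (v : ℕ) ≠ 0 →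
    ((List.range 256).filter fun x => !bil x (128 + v)).length = 128 := by
  decide +kernel

theorem perp_card_5 : ∀ v : Fin 32, 160 + (v : ℕ) ≠ 0 →
    ((List.range 256).filter fun x => !bil x (160 + v)).length = 128 := by
  decide +kernel

theorem perp_card_6 : ∀ v : Fin 32, 192 + (v : ℕ) ≠ 0 →
    ((List.range 256).filter fun x => !bil x (192 + v)).length = 128 := by
  decide +kernel

theorem perp_card_7 : ∀ v : Fin 32, 224 + (v : ℕ) ≠ 0 →
    ((List.range 256).filter fun x => !bil x (224 + v)).length = 128 := by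
  decide +kernel

theorem perp_card : ∀ v : Fin 256, v ≠ 0 →
    ((List.range 256).filter fun x => !bil x v).length = 128 := by
  intro v hv
  have h0 : (v : ℕ) ≠ 0 := fun h => hv (Fin.ext h)
  obtain ⟨q, hq, r, hr⟩ : ∃ q < 8, ∃ r : Fin 32, (v : ℕ) = 32 * q + r :=
    ⟨v / 32, by omega, ⟨v % 32, Nat.mod_lt _ (by norm_num)⟩, (Nat.div_add_mod _ _).symm⟩
  rw [hr] at h0 ⊢
  interval_cases q
  · exact perp_card_0 r h0
  · exact perp_card_1 r h0
  · exact perp_card_2 r h0
  · exact perp_card_3 r h0
  · exact perp_card_4 r h0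
  · exact perp_card_5 r h0
  · exact perp_card_6 r h0
  · exact perp_card_7 r h0

namespace Fr

variable {C : Type*} [Group C] {Q : Subgroup C} {z : C} {g : ℕ → C}
  {π : C →* ↥(alternatingGroup (Fin 9))} {M : List (List ℕ)} (h : Fr Q z g π M)

include h

theorem mem_iff (c : C) : c ∈ Q ↔ π c = 1 := by rw [← h.ker, MonoidHom.mem_ker]

theorem pi_el (e : ℕ) : π (el z g e) = 1 := (h.mem_iff _).mp (h.coords.el_mem e)

theorem pi_zp (b : Bool) : π (zp z b) = 1 := (h.mem_iff _).mp (h.coords.zp_mem b)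

theorem pi_conj_el (c : C) (e : ℕ) : π (el z g e * c * (el z g e)⁻¹) = π c := by
  rw [map_mul, map_mul, map_inv, h.pi_el, one_mul, inv_one, mul_one]

/-- The linear part of an element over a word. -/
theorem lift (hM : M.length = 7) : ∀ (w : List ℕ), (∀ k ∈ w, k < 7) → ∀ (c : C) (A : List ℕ),
    π c = g7Word w → Acts z g c A → linPart A = linWord M w
  | [], _, c, A, hc, hA => by
    obtain ⟨e, he, rfl⟩ := h.coords.surj c ((h.mem_iff c).mpr hc)
    rw [h.coords.acts_eq hA (h.coords.acts_el_self he)]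
    exact linPart_inn ⟨e, he⟩
  | k :: w, hw, c, A, hc, hA => by
    have hk : k < 7 := hw k List.mem_cons_self
    obtain ⟨d, hd⟩ := h.surj (g7 ⟨k, hk⟩)
    obtain ⟨D, hD⟩ := h.coords.exists_acts d
    obtain ⟨R, hR⟩ := h.coords.exists_acts (d⁻¹ * c)
    have hr : π (d⁻¹ * c) = g7Word w := by
      rw [map_mul, map_inv, hd, hc, g7Word, inv_mul_eq_iff_eq_mul]
      simp [Nat.mod_eq_of_lt hk]
    have ih := lift hM w (fun j hj => hw j (List.mem_cons_of_mem _ hj)) _ R hr hR
    have hA' := h.coords.acts_mul hD hR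
    rw [mul_inv_cancel_left] at hA'
    rw [h.coords.acts_eq hA hA', linPart_comp, h.lin d ⟨k, hk⟩ D hd hD, ih, linWord,
      List.getD_eq_getElem _ _ (by rw [hM]; exact hk), List.getD_eq_getElem _ _ (by rw [hM]; exact hk)]

/-- An element over each word. -/
theorem exists_over (w : List ℕ) : ∃ c, π c = g7Word w := h.surj _

theorem word_mod : ∀ w : List ℕ, ∀ k ∈ w.map (· % 7), k < 7 := fun w k hk => by
  obtain ⟨j, -, rfl⟩ := List.mem_map.mp hk
  exact Nat.mod_lt _ (by norm_num)

/-- Preimages of the generators and the normal subgroup generate. -/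
theorem gen_top {x : Fin 7 → C} (hx : ∀ k, π (x k) = g7 k) :
    Q ⊔ Subgroup.closure (Set.range x) = ⊤ := by
  refine eq_top_iff.mpr fun c _ => ?_
  have hmap : (Subgroup.closure (Set.range x)).map π = ⊤ := by
    rw [MonoidHom.map_closure, ← Set.range_comp, show π ∘ x = g7 from funext hx, closure_g7]
  obtain ⟨d, hd, hdc⟩ := hmap.ge (Subgroup.mem_top (π c))
  have hq : c * d⁻¹ ∈ Q := (h.mem_iff _).mpr (by rw [map_mul, map_inv, hdc, mul_inv_cancel])
  have := Subgroup.mul_mem (Q ⊔ Subgroup.closure (Set.range x))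
    (Subgroup.mem_sup_left hq) (Subgroup.mem_sup_right hd)
  rwa [inv_mul_cancel_right] at this

/-- An element of `Q` moving a vector. -/
theorem exists_move {e : ℕ} (he : e < 512) (h0 : e &&& 255 ≠ 0) :
    ∃ x < 256, el z g x * el z g e * (el z g x)⁻¹ = el z g e * z := by
  obtain ⟨i, hi⟩ : ∃ i : Fin 8, bil (e &&& 255) (2 ^ (i : ℕ)) = true := by
    by_contra hne
    push Not at hne
    exact h0 (congrArg Fin.val (perp_zero ⟨_, and_255_lt e⟩ fun i => by simpa using hne i))
  have h2 : 2 ^ (i : ℕ) < 256 := lt_of_lt_of_le (Nat.pow_lt_pow_right (by norm_num) i.2) (by norm_num)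
  refine ⟨2 ^ (i : ℕ), h2, ?_⟩
  have hc := (h.coords.acts_el_self he).2.2 i i.2
  rw [h.coords.el_two_pow i.2, innCode, List.getD_eq_getElem?_getD] at *
  simp only [List.getElem?_map, List.getElem?_range i.2, Option.map_some, Option.getD_some, hi, if_true] at hc
  have hz : el z g (2 ^ (i : ℕ) ^^^ 256) = z * g i := by
    rw [el_eq, Nat.testBit_xor, Nat.testBit_two_pow, decide_eq_false (Nat.ne_of_lt i.2),
      show Nat.testBit 256 8 = true from rfl, Nat.and_xor_distrib_right, and_255_of_lt h2,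
      show 256 &&& 255 = 0 from rfl, Nat.xor_zero, ← h.coords.el_two_pow i.2, el_eq z g (2 ^ (i : ℕ)),
      Nat.testBit_two_pow, decide_eq_false (Nat.ne_of_lt i.2), and_255_of_lt h2]
    simp [zp]
  rw [hz] at hc
  calc g i * el z g e * (g i)⁻¹ = g i * (el z g e * g i * (el z g e)⁻¹)⁻¹ * el z g e := by group
    _ = g i * (g i)⁻¹ * z⁻¹ * el z g e := by rw [hc, mul_inv_rev]; simp only [mul_assoc]
    _ = el z g e * z := by rw [mul_inv_cancel, one_mul, h.coords.z_inv, h.coords.z_comm]

end Fr

end CfsgLib.ThType
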