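import Cfsg.Agent.Lib.ThType.Coords
import Cfsg.Agent.Lib.ThType.Split
import Cfsg.Agent.Lib.ThType.Search

/-!
The coordinates of a group of exponent two and order `256` with a quadratic form and a faithful
action of the alternating group of degree nine.
-/

set_option autoImplicit false
set_option Elab.async false

open Equiv

namespace CfsgLib.ThType

/-- the three-cycle `a → b → c → a` -/
def cyc3 (a b c : Fin 9) : Perm (Fin 9) := swap a b * swap b c

/-- a permutation, as an even permutation if it is one -/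
def alt (p : Perm (Fin 9)) : ↥(alternatingGroup (Fin 9)) :=
  if h : Perm.sign p = 1 then ⟨p, Perm.mem_alternatingGroup.mpr h⟩ else 1

/-- the four generating three-cycles -/
def gen4 (k : ℕ) : Perm (Fin 9) :=
  [cyc3 0 1 2, cyc3 3 4 5, cyc3 6 7 8, cyc3 2 5 8].getD k 1

/-- the two double transpositions normalising the elementary group of order `27` -/
def invs (k : ℕ) : Perm (Fin 9) := [swap 0 1 * swap 3 4, swap 0 1 * swap 6 7].getD k 1

/-- the product along a word in the four generators -/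
def gen4Word : List ℕ → Perm (Fin 9)
  | [] => 1
  | k :: w => gen4 k * gen4Word w

/-- the seven generators, renamed by an odd permutation or not -/
def gen7 (flip : Bool) (k : Fin 7) : Perm (Fin 9) :=
  if flip then swap 0 1 * cyc3 0 1 ⟨k + 2, by omega⟩ * swap 0 1 else cyc3 0 1 ⟨k + 2, by omega⟩

/-- the words of the seven generators -/
def word7 (flip : Bool) (k : Fin 7) : List ℕ :=
  if flip then flipWords.getD k [] else genWords.getD k []

theorem alt_of_mem {p : Perm (Fin 9)} (hp : p ∈ alternatingGroup (Fin 9)) : alt p = ⟨p, hp⟩ := by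
  rw [alt, dif_pos (Perm.mem_alternatingGroup.mp hp)]

theorem gen4_even : ∀ k : Fin 4, gen4 k ∈ alternatingGroup (Fin 9) := fun k =>
  Perm.mem_alternatingGroup.mpr (by revert k; decide +kernel)

theorem invs_even : ∀ k : Fin 2, invs k ∈ alternatingGroup (Fin 9) := fun k =>
  Perm.mem_alternatingGroup.mpr (by revert k; decide +kernel)

theorem word7_ok : ∀ f : Bool, ∀ k : Fin 7, ∀ i : Fin 9,
    gen4Word (word7 f k) i = gen7 f k i ∧ ∀ j ∈ word7 f k, j < 4 := by
  decide +kernel

variable {V : Type*} [CommGroup V]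

/-- A quadratic form of a group of exponent two and order `256` with a faithful action of the
alternating group of degree nine. -/
structure Mo (q : V → Bool) (b : V → V → Bool) (A : ↥(alternatingGroup (Fin 9)) →* MulAut V) : Prop where
  two : ∀ v : V, v * v = 1
  card : Nat.card V = 256
  q_one : q 1 = false
  q_mul : ∀ u v, q (u * v) = xor (xor (q u) (q v)) (b u v)
  b_mul : ∀ u v w, b u (v * w) = xor (b u v) (b u w)
  nondeg : ∀ u, u ≠ 1 → ∃ v, b u v = true
  faithful : Function.Injective A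
  inv : ∀ σ v, q (A σ v) = q v

/-- the product of the basis vectors occurring in a code -/
def pv (bb : ℕ → V) (v : ℕ) : ℕ → V
  | 0 => 1
  | n + 1 => if v.testBit n then bb n * pv bb v n else pv bb v n

/-- Eight vectors with the standard values of the forms. -/
structure Basis8 (q : V → Bool) (b : V → V → Bool) (c : Bool) (bb : ℕ → V) : Prop where
  q_bb : ∀ i < 8, q (bb i) = qdC c (2 ^ i)
  b_bb : ∀ i < 8, ∀ j < 8, b (bb i) (bb j) = bil (2 ^ i) (2 ^ j)

theorem qdC_step : ∀ c : Bool, ∀ n : Fin 8, ∀ l : Fin 256, (l : ℕ) < 2 ^ (n : ℕ) →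
    qdC c (2 ^ (n : ℕ) ^^^ l) = xor (xor (qdC c (2 ^ (n : ℕ))) (qdC c l)) (bilTo l n n) := by
  decide +kernel

theorem bilTo_eq : ∀ m : Fin 8, ∀ v : Fin 256, bilTo v 8 m = bil v (2 ^ (m : ℕ)) := by
  decide +kernel

namespace Mo

variable {q : V → Bool} {b : V → V → Bool} {A : ↥(alternatingGroup (Fin 9)) →* MulAut V} (h : Mo q b A)

include h

theorem finite : Finite V := Nat.finite_of_card_ne_zero (by rw [h.card]; norm_num)

theorem b_one (u : V) : b u 1 = false := by
  have := h.b_mul u 1 1; rw [one_mul] at this; revert this; cases b u 1 <;> simp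

theorem b_comm (u v : V) : b u v = b v u := by
  have h1 := h.q_mul u v
  rw [mul_comm, h.q_mul] at h1
  revert h1; cases q u <;> cases q v <;> cases b u v <;> cases b v u <;> simp

theorem b_mul' (u v w : V) : b (u * v) w = xor (b u w) (b v w) := by
  rw [h.b_comm, h.b_mul, h.b_comm w u, h.b_comm w v]

theorem b_self (u : V) : b u u = false := by
  have := h.q_mul u u
  rw [h.two, h.q_one] at this
  revert this; cases q u <;> simp

theorem b_inv (σ : ↥(alternatingGroup (Fin 9))) (u v : V) : b (A σ u) (A σ v) = b u v := by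
  have h1 := h.q_mul (A σ u) (A σ v)
  rw [← map_mul, h.inv, h.inv, h.inv, h.q_mul] at h1
  revert h1; cases q u <;> cases q v <;> cases b u v <;> cases b (A σ u) (A σ v) <;> simp

theorem b_pv (bb : ℕ → V) {c : Bool} (hb : Basis8 q b c bb) (v : ℕ) {m : ℕ} (hm : m < 8) :
    ∀ n ≤ 8, b (pv bb v n) (bb m) = bilTo v n m
  | 0, _ => by rw [pv, h.b_comm, h.b_one]; rfl
  | n + 1, hn => by
    rw [pv, bilTo]
    by_cases hv : v.testBit n
    · rw [if_pos hv, h.b_mul', b_pv bb hb v hm n (Nat.le_of_succ_le hn), hb.b_bb n hn m hm, hv, Bool.true_and]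
    · rw [if_neg hv, b_pv bb hb v hm n (Nat.le_of_succ_le hn)]
      simp [Bool.eq_false_iff.mpr hv]

theorem pv_congr (bb : ℕ → V) {u v : ℕ} : ∀ n, (∀ i < n, u.testBit i = v.testBit i) → pv bb u n = pv bb v n
  | 0, _ => rfl
  | n + 1, hh => by
    rw [pv, pv, pv_congr bb n (fun i hi => hh i (Nat.lt_succ_of_lt hi)), hh n (Nat.lt_succ_self n)]

theorem q_pv {bb : ℕ → V} {c : Bool} (hb : Basis8 q b c bb) (v : ℕ) :
    ∀ n ≤ 8, q (pv bb v n) = qdC c (v % 2 ^ n)
  | 0, _ => by rw [pv, h.q_one, Nat.pow_zero, Nat.mod_one]; cases c <;> rfl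
  | n + 1, hn => by
    have hl : v % 2 ^ n < 2 ^ n := Nat.mod_lt _ (Nat.two_pow_pos n)
    have h8 : 2 ^ n ≤ 128 := Nat.pow_le_pow_right (by norm_num) (Nat.lt_succ_iff.mp hn : n ≤ 7)
    rw [pv, Nat.mod_pow_succ, ← Nat.toNat_testBit]
    by_cases hv : v.testBit n
    · rw [if_pos hv, h.q_mul, q_pv hb v n (Nat.le_of_succ_le hn), hb.q_bb n hn, hv, Bool.toNat_true,
        Nat.mul_one, h.b_comm, h.b_pv bb hb v hn n (Nat.le_of_succ_le hn),
        show v % 2 ^ n + 2 ^ n = 2 ^ n ^^^ v % 2 ^ n by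
          rw [Nat.add_comm, show 2 ^ n + v % 2 ^ n = 2 ^ n * 1 + v % 2 ^ n by rw [Nat.mul_one],
            Nat.two_pow_add_eq_or_of_lt hl, Nat.mul_one]
          apply Nat.eq_of_testBit_eq
          intro i
          simp only [Nat.testBit_xor, Nat.testBit_or, Nat.testBit_two_pow]
          by_cases hi : n = i
          · subst hi; simp [Nat.testBit_lt_two_pow hl]
          · simp [hi],
        qdC_step c ⟨n, hn⟩ ⟨v % 2 ^ n, by omega⟩ hl]
      congr 1
      have : ∀ k ≤ n, bilTo v k n = bilTo (v % 2 ^ n) k n := by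
        intro k
        induction k with
        | zero => intro _; rfl
        | succ k ih =>
          intro hk
          rw [bilTo, bilTo, ih (Nat.le_of_succ_le hk), Nat.testBit_mod_two_pow, decide_eq_true (show k < n from hk),
            Bool.true_and]
      exact this n le_rfl
    · rw [if_neg hv, q_pv hb v n (Nat.le_of_succ_le hn)]
      simp [Bool.eq_false_iff.mpr hv]

theorem vec_xor (bb : ℕ → V) (u v : ℕ) : ∀ n, pv bb (u ^^^ v) n = pv bb u n * pv bb v n
  | 0 => (one_mul 1).symm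
  | n + 1 => by
    rw [pv, pv, pv, Nat.testBit_xor, vec_xor bb u v n]
    cases u.testBit n <;> cases v.testBit n <;>
      simp [mul_assoc, mul_comm, mul_left_comm, h.two, ← mul_assoc (bb n) (bb n)]

theorem vec_inj {bb : ℕ → V} {c : Bool} (hb : Basis8 q b c bb) {u v : ℕ} (hu : u < 256) (hv : v < 256)
    (e : pv bb u 8 = pv bb v 8) : u = v := by
  have h1 : pv bb (u ^^^ v) 8 = 1 := by rw [h.vec_xor bb u v 8, e, h.two]
  have h2 : u ^^^ v < 256 := xor_lt (k := 8) hu hv
  have h3 : ∀ i : Fin 8, bil (u ^^^ v) (2 ^ (i : ℕ)) = false := fun i => by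
    have e1 : bilTo (u ^^^ v) 8 i = bil (u ^^^ v) (2 ^ (i : ℕ)) := bilTo_eq i ⟨u ^^^ v, h2⟩
    rw [← e1, ← h.b_pv bb hb _ i.2 8 le_rfl, h1, h.b_comm, h.b_one]
  have h4 := congrArg Fin.val (perp_zero ⟨u ^^^ v, h2⟩ h3)
  exact Nat.xor_eq_zero_iff.mp h4

theorem vec_bij {bb : ℕ → V} {c : Bool} (hb : Basis8 q b c bb) :
    Function.Bijective fun v : Fin 256 => pv bb v 8 := by
  haveI := h.finite
  refine (Nat.bijective_iff_injective_and_card _).mpr ⟨?_, by rw [h.card]; simp⟩
  rintro ⟨u, hu⟩ ⟨v, hv⟩ e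
  exact Fin.ext (h.vec_inj hb hu hv e)

end Mo

open Classical in
/-- the code of a vector -/
noncomputable def cod (bb : ℕ → V) (w : V) : ℕ :=
  if hh : ∃ v : Fin 256, pv bb v 8 = w then (hh.choose : ℕ) else 0

/-- the matrix of an automorphism -/
noncomputable def matOf (bb : ℕ → V) (n : MulAut V) : List ℕ :=
  (List.range 8).map fun i => cod bb (n (bb i))

namespace Mo

variable {q : V → Bool} {b : V → V → Bool} {A : ↥(alternatingGroup (Fin 9)) →* MulAut V} (h : Mo q b A)
  {bb : ℕ → V} {c : Bool} (hb : Basis8 q b c bb)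

include h hb

theorem pv_cod (w : V) : cod bb w < 256 ∧ pv bb (cod bb w) 8 = w := by
  have hx : ∃ v : Fin 256, pv bb v 8 = w := (h.vec_bij hb).2 w
  rw [cod, dif_pos hx]
  exact ⟨hx.choose.2, hx.choose_spec⟩

theorem cod_pv {v : ℕ} (hv : v < 256) : cod bb (pv bb v 8) = v := by
  obtain ⟨h1, h2⟩ := h.pv_cod hb (pv bb v 8)
  exact h.vec_inj hb h1 hv h2

theorem matOf_getD (n : MulAut V) {i : ℕ} (hi : i < 8) : (matOf bb n).getD i 0 = cod bb (n (bb i)) := by
  simp [matOf, List.getD_eq_getElem?_getD, hi]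

theorem linApp_lt {M : List ℕ} (hM : ∀ i < 8, M.getD i 0 < 256) (v : ℕ) : ∀ n ≤ 8, linApp M v n < 256
  | 0, _ => by simp [linApp]
  | n + 1, hn => by
    rw [linApp]
    split
    · exact xor_lt (k := 8) (hM n hn) (linApp_lt hM v n (Nat.le_of_succ_le hn))
    · exact linApp_lt hM v n (Nat.le_of_succ_le hn)

theorem pv_linApp (n : MulAut V) (v : ℕ) : ∀ m ≤ 8, pv bb (linApp (matOf bb n) v m) 8 = n (pv bb v m)
  | 0, _ => by
    rw [linApp, show pv bb v 0 = 1 from rfl, map_one]
    rfl
  | m + 1, hm => by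
    rw [linApp, show pv bb v (m + 1) = if v.testBit m then bb m * pv bb v m else pv bb v m from rfl]
    split
    · rw [h.vec_xor bb _ _ 8, pv_linApp n v m (Nat.le_of_succ_le hm), h.matOf_getD hb n hm, (h.pv_cod hb _).2, map_mul]
    · exact pv_linApp n v m (Nat.le_of_succ_le hm)

theorem apply_pv (n : MulAut V) (v : ℕ) : n (pv bb v 8) = pv bb (linV (matOf bb n) v) 8 :=
  (h.pv_linApp hb n v 8 le_rfl).symm

theorem matOf_lt (n : MulAut V) : ∀ i < 8, (matOf bb n).getD i 0 < 256 := fun i hi => by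
  rw [h.matOf_getD hb n hi]; exact (h.pv_cod hb _).1

theorem matOf_mul (m n : MulAut V) : matOf bb (m * n) = linComp (matOf bb m) (matOf bb n) := by
  refine List.ext_getElem (by simp [matOf, linComp]) fun i h1 h2 => ?_
  have hi : i < 8 := by simpa [matOf] using h1
  have e1 : ∀ k : MulAut V, ∀ hh : i < (matOf bb k).length, (matOf bb k)[i] = cod bb (k (bb i)) := fun k hh => by
    rw [← h.matOf_getD hb k hi, List.getD_eq_getElem?_getD, List.getElem?_eq_getElem hh, Option.getD_some]
  have hn : i < (matOf bb n).length := by simpa [matOf] using hi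
  have e2 : ∀ (f : ℕ → ℕ) (l : List ℕ) (hl : i < (l.map f).length) (hl' : i < l.length),
      (l.map f)[i] = f l[i] := fun f l _ _ => List.getElem_map f
  rw [e1 _ h1]
  refine Eq.trans ?_ (e2 (linV (matOf bb m)) (matOf bb n) h2 hn).symm
  rw [e1 n hn, MulAut.mul_apply]
  conv_lhs => rw [← (h.pv_cod hb (n (bb i))).2, h.apply_pv hb]
  exact h.cod_pv hb (h.linApp_lt hb (h.matOf_lt hb m) _ 8 le_rfl)

theorem bb_eq {i : ℕ} (hi : i < 8) : pv bb (2 ^ i) 8 = bb i := by
  interval_cases i <;> exact mul_one _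

theorem matOf_one : matOf bb (1 : MulAut V) = autId := by
  have : ∀ i < 8, cod bb (bb i) = 2 ^ i := fun i hi => by
    rw [← h.bb_eq hb hi, h.cod_pv hb (lt_of_lt_of_le (Nat.pow_lt_pow_right (by norm_num) hi) (by norm_num))]
  refine List.ext_getElem (by simp [matOf, autId]) fun i h1 h2 => ?_
  have hi : i < 8 := by simpa [matOf] using h1
  simp only [matOf, List.getElem_map, List.getElem_range]
  rw [MulAut.one_apply, this i hi]
  interval_cases i <;> rfl

theorem matOf_word {M : List (List ℕ)} (hM : ∀ k < 4, matOf bb (A (alt (gen4 k))) = M.getD k autId) :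
    ∀ w : List ℕ, (∀ k ∈ w, k < 4) →
      gen4Word w ∈ alternatingGroup (Fin 9) ∧ matOf bb (A (alt (gen4Word w))) = linWord M w
  | [], _ => by
    refine ⟨one_mem _, ?_⟩
    rw [gen4Word, show alt (1 : Perm (Fin 9)) = 1 by rw [alt_of_mem (one_mem _)]; rfl, map_one]
    exact h.matOf_one hb
  | k :: w, hw => by
    obtain ⟨h1, h2⟩ := matOf_word hM w fun j hj => hw j (List.mem_cons_of_mem _ hj)
    have hk : k < 4 := hw k List.mem_cons_self
    have hk' := gen4_even ⟨k, hk⟩
    have he : gen4Word (k :: w) ∈ alternatingGroup (Fin 9) := mul_mem hk' h1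
    refine ⟨he, ?_⟩
    rw [show alt (gen4Word (k :: w)) = alt (gen4 k) * alt (gen4Word w) by
      rw [alt_of_mem he, alt_of_mem hk', alt_of_mem h1]; rfl, map_mul, h.matOf_mul hb, hM k hk, h2]
    rfl

end Mo

end CfsgLib.ThType
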