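import Cfsg.Agent.Lib.ThType.Local

/-!
Moving a fused involution by elements over given words.
-/

set_option autoImplicit false
set_option linter.style.haveILetI false
set_option Elab.async false

namespace CfsgLib.ThType

instance (L : List ℕ) : Decidable (Crit L) := inferInstanceAs (Decidable (_ ∧ _))

namespace Ctx

variable {G : Type*} [Group G] {t : G} {Q : Subgroup (Subgroup.centralizer ({t} : Set G))}
  {z : Subgroup.centralizer ({t} : Set G)} {g : ℕ → Subgroup.centralizer ({t} : Set G)}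
  {π : ↥(Subgroup.centralizer ({t} : Set G)) →* ↥(alternatingGroup (Fin 9))} {M : List (List ℕ)}
  (h : Ctx Q z g π M)

include h

/-- A fused involution as a code. -/
theorem fused_el (hf : Fused Q) : ∃ e < 512, ∃ γ : G, e &&& 255 ≠ 0 ∧ qd (e &&& 255) = false ∧
    γ * t * γ⁻¹ = ((el z g e : Cn t) : G) := by
  have hC := h.fr.coords
  obtain ⟨w, hw, hwt, hconj⟩ := hf
  obtain ⟨e, he, rfl⟩ := hC.surj w hw
  obtain ⟨γ, hγ⟩ := isConj_iff.mp hconj
  have hsq : el z g e * el z g e = 1 := Subtype.ext (h.conj_sq hconj)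
  refine ⟨e, he, γ, fun h0 => ?_, ?_, hγ⟩
  · rcases hC.el_lowzero he h0 with e1 | e1
    · refine h.t_ne ?_
      rw [e1, Subgroup.coe_one] at hγ
      calc t = γ⁻¹ * (γ * t * γ⁻¹) * γ := by group
        _ = 1 := by rw [hγ]; group
    · exact hwt (by rw [e1]; exact h.zt)
  · rw [hC.el_sq he] at hsq
    by_contra hq
    rw [Bool.not_eq_false] at hq
    rw [hq] at hsq
    exact hC.z_ne hsq

/-- An element over a word, with its matrix, acting on an element of `Q`. -/
theorem conj_over {w : List ℕ} (hw : ∀ k ∈ w, k < 7) {c : Subgroup.centralizer ({t} : Set G)}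
    (hc : π c = g7Word w) {e : ℕ} (he : e < 512) :
    ∃ e' < 512, c * el z g e * c⁻¹ = el z g e' ∧ e' &&& 255 = linV (linWord M w) (e &&& 255) := by
  obtain ⟨A, hA⟩ := h.fr.coords.exists_acts c
  obtain ⟨h1, h2⟩ := h.fr.coords.acts_el hA he
  refine ⟨_, h2, h1, ?_⟩
  rw [autApp_low, h.fr.lift h.len w hw c A hc hA]

/-- A fused involution can be moved by a word. -/
theorem fused_moved {e : ℕ} (he : e < 512) {γ : G} (hγ : γ * t * γ⁻¹ = ((el z g e : Cn t) : G))
    {w : List ℕ} (hw : ∀ k ∈ w, k < 7) :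
    ∃ e' < 512, ∃ γ' : G, γ' * t * γ'⁻¹ = ((el z g e' : Cn t) : G) ∧
      e' &&& 255 = linV (linWord M w) (e &&& 255) := by
  obtain ⟨c, hc⟩ := h.fr.exists_over w
  obtain ⟨e', he', hce, hlow⟩ := h.conj_over hw hc he
  refine ⟨e', he', (c : G) * γ, ?_, hlow⟩
  rw [← hce]
  show (c : G) * γ * t * ((c : G) * γ)⁻¹ = (c : G) * ((el z g e : Cn t) : G) * (c : G)⁻¹
  rw [← hγ]; group

/-- The other element with the same vector is fused as well. -/
theorem fused_flip {e : ℕ} (he : e < 512) (h0 : e &&& 255 ≠ 0) {γ : G}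
    (hγ : γ * t * γ⁻¹ = ((el z g e : Cn t) : G)) :
    ∃ γ' : G, γ' * t * γ'⁻¹ = ((el z g e * z : Cn t) : G) := by
  obtain ⟨x, -, hx⟩ := h.fr.exists_move he h0
  refine ⟨((el z g x : Cn t) : G) * γ, ?_⟩
  rw [← hx]
  show _ = ((el z g x : Cn t) : G) * ((el z g e : Cn t) : G) * ((el z g x : Cn t) : G)⁻¹
  rw [← hγ]; group

/-- An element over a word fixing a vector, commuting with a given element of that vector. -/
theorem cent_over {w : List ℕ} (hw : ∀ k ∈ w, k < 7) {e : ℕ} (he : e < 512) (h0 : e &&& 255 ≠ 0)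
    (hfix : linV (linWord M w) (e &&& 255) = e &&& 255) :
    ∃ c, π c = g7Word w ∧ c * el z g e = el z g e * c := by
  have hC := h.fr.coords
  obtain ⟨c, hc⟩ := h.fr.exists_over w
  obtain ⟨e', he', hce, hlow⟩ := h.conj_over hw hc he
  rw [hfix] at hlow
  rcases hC.el_low he' he hlow with e1 | e1
  · exact ⟨c, hc, mul_inv_eq_iff_eq_mul.mp (hce.trans e1)⟩
  · obtain ⟨x, -, hx⟩ := h.fr.exists_move he h0
    refine ⟨c * el z g x, by rw [map_mul, h.fr.pi_el, mul_one, hc], mul_inv_eq_iff_eq_mul.mp ?_⟩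
    calc c * el z g x * el z g e * (c * el z g x)⁻¹
        = c * (el z g x * el z g e * (el z g x)⁻¹) * c⁻¹ := by group
      _ = (c * el z g e * c⁻¹) * (c * z * c⁻¹) := by rw [hx]; group
      _ = el z g e := by rw [hce, e1, hC.z_comm c, mul_inv_cancel_right, mul_assoc, hC.z_sq, mul_one]

/-- Commuting elements of `Q` have orthogonal vectors. -/
theorem bil_of_comm {a b : ℕ} (ha : a < 512) (hb : b < 512)
    (hab : el z g a * el z g b = el z g b * el z g a) : bil (a &&& 255) (b &&& 255) = false := by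
  have hC := h.fr.coords
  rw [hC.el_mul hb, hC.el_mul ha] at hab
  have e := hC.el_inj _ (emul_lt ha hb) _ (emul_lt hb ha) hab
  rw [emul_eq, emul_eq, Nat.xor_comm b a] at e
  have e2 := Nat.xor_right_inj.mp e
  rw [bil]
  revert e2
  cases bet (a &&& 255) (b &&& 255) <;> cases bet (b &&& 255) (a &&& 255) <;> simp

/-- A conjugating element commuting with the fused pair normalises the meeting subgroup. -/
theorem invariant [Finite G] {γ : G} {w f : Subgroup.centralizer ({t} : Set G)}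
    (hγ : γ * t * γ⁻¹ = (w : G)) (hf : f * w = w * f)
    {a : Subgroup.centralizer ({t} : Set G)}
    (ha : γ⁻¹ * (a : G) * γ ∈ Q.map (Subgroup.centralizer ({t} : Set G)).subtype) :
    γ⁻¹ * ((f * a * f⁻¹ : Cn t) : G) * γ ∈ Q.map (Subgroup.centralizer ({t} : Set G)).subtype := by
  have hf' : (f : G) * (w : G) = (w : G) * f := congrArg Subtype.val hf
  have hc : γ⁻¹ * (f : G) * γ ∈ Subgroup.centralizer ({t} : Set G) := by
    rw [Subgroup.mem_centralizer_singleton_iff]
    calc γ⁻¹ * (f : G) * γ * t = γ⁻¹ * ((f : G) * (γ * t * γ⁻¹)) * γ := by group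
      _ = γ⁻¹ * ((γ * t * γ⁻¹) * f) * γ := by rw [hγ, hf']
      _ = t * (γ⁻¹ * (f : G) * γ) := by group
  have := (Subgroup.mem_normalizer_iff.mp (h.setting.cz hc) _).mp ha
  show γ⁻¹ * ((f : G) * a * (f : G)⁻¹) * γ ∈ _
  have e : γ⁻¹ * ((f : G) * a * (f : G)⁻¹) * γ =
      γ⁻¹ * (f : G) * γ * (γ⁻¹ * (a : G) * γ) * (γ⁻¹ * (f : G) * γ)⁻¹ := by group
  rw [e]; exact this

end Ctx

end CfsgLib.ThType
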