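import Cfsg.Agent.Lib.ThType.Move
import Cfsg.Agent.Lib.ThType.OrbitData

/-!
The second module does not occur.
-/

set_option autoImplicit false
set_option linter.style.haveILetI false
set_option Elab.async false

namespace CfsgLib.ThType

/-- the five-cycle for a representative -/
def natFive (r : Bool) : List ℕ := if r then [3, 0, 6, 5, 4, 3, 0] else [2, 1, 0]

/-- the representative -/
def natRep (r : Bool) : ℕ := if r then 5 else 80

/-- the powers of a matrix on a vector -/
def linPow (F : List ℕ) : ℕ → ℕ → ℕ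
  | 0, v => v
  | i + 1, v => linV F (linPow F i v)

/-- the fixed nonzero singular vectors -/
def fixSing (F : List ℕ) : List ℕ :=
  (List.range 256).filter fun v => !(Nat.beq v 0) && (!qd v && Nat.beq (linV F v) v)

theorem code_split : ∀ d : Fin 512,
    ((d : ℕ) &&& 255) % 256 ^^^ (if (d : ℕ).testBit 8 then 256 else 0) = d := by
  decide +kernel

theorem natM_len : natM.length = 7 := by decide +kernel

theorem nat_crit : Crit (linWord natM w2) ∧ Crit (linWord natM w4) := by decide +kernel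

theorem w_lt : (∀ k ∈ w2, k < 7) ∧ (∀ k ∈ w4, k < 7) ∧ (∀ k ∈ wb, k < 7) ∧ ∀ r, ∀ k ∈ natFive r, k < 7 := by
  decide +kernel

theorem natOrb_ok : ∀ v : Fin 256, v ≠ 0 → qd v = false →
    (∀ k ∈ natOrb.getD v [], k < 7) ∧ ∃ r : Bool, linV (linWord natM (natOrb.getD v [])) v = natRep r := by
  decide +kernel

theorem natFive_fix : ∀ r : Bool, linV (linWord natM (natFive r)) (natRep r) = natRep r := by
  decide +kernel

theorem natFive_moved : ∀ r : Bool, ∀ d : Fin 256,
    (∀ i : Fin 5, bil d (linPow (linWord natM (natFive r)) i d) = false) →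
      linV (linWord natM (natFive r)) d = d := by
  decide +kernel

theorem natFive_iso : ∀ r : Bool, ∀ a ∈ fixSing (linWord natM (natFive r)),
    ∀ b ∈ fixSing (linWord natM (natFive r)), ∀ c ∈ fixSing (linWord natM (natFive r)),
      bil a b = false → bil a c = false → bil b c = false → a ≠ b → c = a ∨ c = b ∨ c = a ^^^ b := by
  decide +kernel

theorem Ctx.nat_false {G : Type*} [Group G] [Finite G] {t : G}
    {Q : Subgroup (Subgroup.centralizer ({t} : Set G))} {z : Subgroup.centralizer ({t} : Set G)}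
    {g : ℕ → Subgroup.centralizer ({t} : Set G)}
    {π : ↥(Subgroup.centralizer ({t} : Set G)) →* ↥(alternatingGroup (Fin 9))}
    (h : Ctx Q z g π natM) (hG : Subgroup.centralizer ({t} : Set G) ⊔ Cfsg.oddCore G ≠ ⊤) : False := by
  classical
  have hC := h.fr.coords
  obtain ⟨l2, l4, -, l5⟩ := w_lt
  have hf : Fused Q := h.fused_of_crit hG fun _ u A hu hπ hA => by
    rcases hπ with e | e
    · rw [h.fr.lift h.len w2 l2 u A e hA]; exact nat_crit.1
    · rw [h.fr.lift h.len w4 l4 u A e hA]; exact nat_crit.2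
  obtain ⟨e₀, he₀, γ₀, h0, hq0, hγ₀⟩ := h.fused_el hf
  obtain ⟨hwl, r, hr⟩ := natOrb_ok ⟨_, and_255_lt e₀⟩ (fun e => h0 (congrArg Fin.val e)) hq0
  obtain ⟨e, he, γ, hγ, hlow⟩ := h.fused_moved he₀ hγ₀ hwl
  have hlow' : e &&& 255 = natRep r := hlow.trans hr
  have hne : e &&& 255 ≠ 0 := by rw [hlow']; cases r <;> decide
  obtain ⟨f, hf, hfw⟩ := h.cent_over (l5 r) he hne (by rw [hlow']; exact natFive_fix r)
  obtain ⟨R, hR, hcard, helem, hab⟩ := h.fused_group (hC.el_mem e) (h.el_ne he hne).1 hγ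
  set F := linWord natM (natFive r) with hF
  obtain ⟨AF, hAF⟩ := hC.exists_acts f
  have hlin : linPart AF = F := h.fr.lift h.len _ (l5 r) f AF hf hAF
  -- the vectors of the intersection
  set S : Set ℕ := {v | ∃ d < 512, d &&& 255 = v ∧ el z g d ∈ R} with hS
  have hsing : ∀ v ∈ S, qd v = false := by
    rintro v ⟨d, hd, rfl, hm⟩
    have e1 := (helem _ hm _ hm (hC.el_mem d) (hC.el_mem d)).2
    rw [hC.el_sq hd] at e1
    by_contra hq
    rw [Bool.not_eq_false] at hq
    rw [hq] at e1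
    exact hC.z_ne e1
  have horth : ∀ u ∈ S, ∀ v ∈ S, bil u v = false := by
    rintro u ⟨a, ha, rfl, hma⟩ v ⟨b, hb, rfl, hmb⟩
    exact h.bil_of_comm ha hb (helem _ hma _ hmb (hC.el_mem a) (hC.el_mem b)).1
  have hinv : ∀ v ∈ S, linV F v ∈ S := by
    rintro v ⟨d, hd, rfl, hm⟩
    obtain ⟨e1, e2⟩ := hC.acts_el hAF hd
    refine ⟨_, e2, by rw [autApp_low, hlin], (hR _).mpr ?_⟩
    rw [← e1]
    exact h.invariant hγ hfw ((hR _).mp hm)
  have hfixed : ∀ v ∈ S, v ≠ 0 → v ∈ fixSing F := by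
    intro v hv hv0
    obtain ⟨d, -, rfl, -⟩ := id hv
    have hpow : ∀ i, linPow F i (d &&& 255) ∈ S := by
      intro i
      induction i with
      | zero => exact hv
      | succ i ih => exact hinv _ ih
    have := natFive_moved r ⟨_, and_255_lt d⟩ fun i => horth _ hv _ (hpow i)
    simp only [fixSing, List.mem_filter, List.mem_range, Bool.and_eq_true, Bool.not_eq_true']
    exact ⟨and_255_lt d, Bool.eq_false_iff.mpr fun hb => hv0 (Nat.eq_of_beq_eq_true hb), hsing _ hv,
      Nat.beq_eq.mpr this⟩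
  -- at most four vectors
  obtain ⟨a, b, hab4⟩ : ∃ a b, ∀ v ∈ S, v = 0 ∨ v = a ∨ v = b ∨ v = a ^^^ b := by
    by_cases h1 : ∃ a ∈ S, a ≠ 0
    · obtain ⟨a, ha, ha0⟩ := h1
      by_cases h2 : ∃ b ∈ S, b ≠ 0 ∧ b ≠ a
      · obtain ⟨b, hb, hb0, hba⟩ := h2
        refine ⟨a, b, fun v hv => ?_⟩
        by_cases hv0 : v = 0
        · exact Or.inl hv0
        · exact Or.inr (natFive_iso r a (hfixed a ha ha0) b (hfixed b hb hb0) v (hfixed v hv hv0)
            (horth a ha b hb) (horth a ha v hv) (horth b hb v hv) (Ne.symm hba))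
      · push Not at h2
        refine ⟨a, a, fun v hv => ?_⟩
        by_cases hv0 : v = 0
        · exact Or.inl hv0
        · exact Or.inr (Or.inl (h2 v hv hv0))
    · push Not at h1
      exact ⟨0, 0, fun v hv => Or.inl (h1 v hv)⟩
  let pick : Fin 4 × Bool → Subgroup.centralizer ({t} : Set G) :=
    fun p => el z g ((![0, a, b, a ^^^ b] p.1) % 256 ^^^ (if p.2 then 256 else 0))
  have hcov : ∀ x : ↥(π.ker ⊓ R), ∃ p, pick p = (x : Subgroup.centralizer ({t} : Set G)) := by
    rintro ⟨x, hxk, hxR⟩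
    replace hxk : x ∈ Q := (h.fr.mem_iff x).mpr hxk
    obtain ⟨d, hd, rfl⟩ := hC.surj x hxk
    have hcase := hab4 _ ⟨d, hd, rfl, hxR⟩
    have key : ∀ i : Fin 4, d &&& 255 = ![0, a, b, a ^^^ b] i → pick (i, d.testBit 8) = el z g d := by
      intro i hi
      show el z g _ = _
      congr 1
      rw [← hi]
      exact code_split ⟨d, hd⟩
    rcases hcase with h1 | h1 | h1 | h1
    exacts [⟨_, key 0 h1⟩, ⟨_, key 1 h1⟩, ⟨_, key 2 h1⟩, ⟨_, key 3 h1⟩]
  choose pf hpf using hcov
  have h8 : Nat.card ↥(π.ker ⊓ R) ≤ 8 := by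
    have := Nat.card_le_card_of_injective pf fun x y exy => Subtype.ext (by rw [← hpf x, ← hpf y, exy])
    simpa using this
  have := Ctx.card_le_of_image π R hab
  omega

end CfsgLib.ThType
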