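import Cfsg.Agent.Lib.ThType.Search

/-!
The second search on packed columns, for the kernel to evaluate cheaply, and its correctness.
-/

set_option autoImplicit false
set_option Elab.async false

namespace CfsgLib.ThType

/-- a list of bytes as one number -/
def pack : List ℕ → ℕ
  | [] => 0
  | b :: l => b + 256 * pack l

/-- eight bytes equal to one -/
def ones8 : ℕ := 72340172838076673

/-- one summand of a composite of packed maps -/
def pTerm (A B k : ℕ) : ℕ :=
  Nat.mul (Nat.land (Nat.shiftRight A (Nat.mul 8 k)) 255) (Nat.land (Nat.shiftRight B k) ones8)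

/-- the composite of packed maps, the second first -/
def pComp (A B : ℕ) : ℕ :=
  Nat.xor (pTerm A B 7) (Nat.xor (pTerm A B 6) (Nat.xor (pTerm A B 5) (Nat.xor (pTerm A B 4)
    (Nat.xor (pTerm A B 3) (Nat.xor (pTerm A B 2) (Nat.xor (pTerm A B 1) (pTerm A B 0)))))))

/-- the values of the bilinear form with packed vectors, before taking parities -/
def pW (v P : ℕ) : ℕ :=
  Nat.xor (Nat.land (Nat.mul v ones8) (Nat.land (Nat.shiftRight P 1) (Nat.mul 85 ones8)))
    (Nat.land P (Nat.land (Nat.shiftRight (Nat.mul v ones8) 1) (Nat.mul 85 ones8)))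

/-- the parities of the bytes -/
def pPar (w : ℕ) : ℕ :=
  let a := Nat.xor w (Nat.shiftRight w 4)
  let b := Nat.xor a (Nat.shiftRight a 2)
  Nat.land (Nat.xor b (Nat.shiftRight b 1)) ones8

/-- what is tested at one level -/
structure Level where
  shift : ℕ
  dom : List ℕ
  target : ℕ
  tests : List (ℕ × ℕ)

/-- the level of the column `i` -/
def levelAt (T D : List (List ℕ)) (i : ℕ) : Level where
  shift := 8 * i
  dom := D.getD i []
  target := pack ((List.range i).map fun j => (bil (2 ^ i) (2 ^ j)).toNat)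
  tests := T.map fun t => (pack t, pack ((List.range (i + 1)).map fun j =>
    if linV t (2 ^ j) < 2 ^ (i + 1) then 255 else 0))

/-- the levels from the column `i` on -/
def levelsFrom (T D : List (List ℕ)) (i : ℕ) : List Level :=
  (List.range' i (8 - i)).map (levelAt T D)

/-- one test of commuting with a fixed map -/
def pCommTest (P : ℕ) (t : ℕ × ℕ) : Bool :=
  Nat.beq (Nat.land (Nat.xor (pComp P t.1) (pComp t.1 P)) t.2) 0

/-- the search on packed columns -/
def pSearch (leaf : ℕ → Bool) : List Level → ℕ → Bool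
  | [], P => leaf P
  | L :: rest, P => L.dom.all fun v =>
      !(Nat.beq (pPar (pW v P)) L.target && L.tests.all (pCommTest (Nat.add P (Nat.shiftLeft v L.shift)))) ||
        pSearch leaf rest (Nat.add P (Nat.shiftLeft v L.shift))

/-- the conditions at the last level, packed -/
def pGood (X : List ℕ) (I y : ℕ) : Bool :=
  !(Nat.beq y I) && Nat.beq (pComp y (pComp y y)) I &&
  X.all (fun x => let m := pComp x y; Nat.beq (pComp m (pComp (pComp m m) (pComp m m))) I) &&
  Nat.beq (pComp (X.getD 1 0) (pComp y (pComp y (pComp (X.getD 0 0) y))))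
    (pComp y (pComp y (pComp (X.getD 0 0) (pComp y (X.getD 1 0))))) &&
  Nat.beq (pComp (X.getD 2 0) (pComp y (pComp y (pComp (X.getD 1 0) y))))
    (pComp y (pComp y (pComp (X.getD 1 0) (pComp y (X.getD 2 0)))))

/-- the leaves of the second search -/
def natLeaf (c fa fb : Bool) (y : ℕ) : Bool :=
  !(pGood (natX.map pack) (pack autId) y) || (c && !fa && !fb && (natSols.map pack).any (Nat.beq y))

/-- the second search on packed columns -/
def natFast (c fa fb : Bool) : Bool :=
  pSearch (natLeaf c fa fb) (levelsFrom (natTs fa fb) (natDom.getD (caseIx c fa fb) []) 0) 0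

/-- all bytes are bytes -/
def Bytes (l : List ℕ) : Prop := ∀ x ∈ l, x < 256

theorem Bytes.getD {l : List ℕ} (h : Bytes l) (i : ℕ) : l.getD i 0 < 256 := by
  rw [List.getD_eq_getElem?_getD]
  rcases lt_or_ge i l.length with hi | hi
  · rw [List.getElem?_eq_getElem hi]; exact h _ (List.getElem_mem hi)
  · rw [List.getElem?_eq_none hi]; simp

theorem testBit_pack : ∀ {l : List ℕ}, Bytes l → ∀ n,
    (pack l).testBit n = (l.getD (n / 8) 0).testBit (n % 8)
  | [], _, n => by simp [pack]
  | b :: l, h, n => by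
    have hb : b < 2 ^ 8 := h b (by simp)
    have hl : Bytes l := fun x hx => h x (by simp [hx])
    have : pack (b :: l) = 2 ^ 8 * pack l + b := by simp [pack]; ring
    rw [this, Nat.testBit_two_pow_mul_add _ hb]
    split_ifs with hn
    · simp [Nat.div_eq_of_lt hn, Nat.mod_eq_of_lt hn]
    · obtain ⟨m, rfl⟩ : ∃ m, n = m + 8 := ⟨n - 8, by omega⟩
      rw [Nat.add_sub_cancel, testBit_pack hl, Nat.add_div_right m (by norm_num), Nat.add_mod_right]
      rfl

theorem pack_mul (a : ℕ) : ∀ l : List ℕ, pack l * a = pack (l.map (a * ·))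
  | [] => by simp [pack]
  | b :: l => by simp [pack, ← pack_mul a l]; ring

theorem getD_map_zero {f : ℕ → ℕ} (l : List ℕ) (i : ℕ) :
    (l.map f).getD i 0 = if i < l.length then f (l.getD i 0) else 0 := by
  simp only [List.getD_eq_getElem?_getD, List.getElem?_map]
  split_ifs with hi
  · simp [List.getElem?_eq_getElem hi]
  · simp [List.getElem?_eq_none (not_lt.mp hi)]

theorem bytes_map {f : ℕ → ℕ} {l : List ℕ} (h : ∀ x ∈ l, f x < 256) : Bytes (l.map f) := by
  intro y hy
  obtain ⟨x, hx, rfl⟩ := List.mem_map.mp hy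
  exact h x hx

theorem pack_xor_map {f g : ℕ → ℕ} {l : List ℕ} (hf : ∀ x ∈ l, f x < 256) (hg : ∀ x ∈ l, g x < 256) :
    pack (l.map f) ^^^ pack (l.map g) = pack (l.map fun x => f x ^^^ g x) := by
  refine Nat.eq_of_testBit_eq fun n => ?_
  rw [Nat.testBit_xor, testBit_pack (bytes_map hf), testBit_pack (bytes_map hg),
    testBit_pack (bytes_map fun x hx => xor_lt (k := 8) (hf x hx) (hg x hx)), getD_map_zero,
    getD_map_zero, getD_map_zero]
  split_ifs <;> simp [Nat.testBit_xor]

theorem ones8_testBit (n : ℕ) : ones8.testBit n = decide (n % 8 = 0 ∧ n / 8 < 8) := by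
  rw [show ones8 = pack (List.replicate 8 1) from by decide +kernel,
    testBit_pack (fun x hx => by rw [List.eq_of_mem_replicate hx]; norm_num)]
  rcases lt_or_ge (n / 8) 8 with hn | hn
  · rw [List.getD_eq_getElem?_getD, List.getElem?_replicate, if_pos hn, Option.getD_some]
    rcases Nat.eq_zero_or_pos (n % 8) with h0 | h0
    · simp [h0, hn]
    · obtain ⟨m, hm⟩ : ∃ m, n % 8 = m + 1 := ⟨n % 8 - 1, by omega⟩
      simp [hm, Nat.testBit_succ]
  · rw [List.getD_eq_getElem?_getD, List.getElem?_replicate, if_neg (by omega)]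
    simp [not_lt.mpr hn]

theorem toNat_testBit (b : Bool) (k : ℕ) : (b.toNat).testBit k = (decide (k = 0) && b) := by
  cases k <;> cases b <;> simp [Nat.testBit_succ]

theorem pack_bit {l : List ℕ} (hl : Bytes l) (h8 : l.length ≤ 8) {k : ℕ} (hk : k < 8) :
    (pack l >>> k) &&& ones8 = pack (l.map fun b => (b.testBit k).toNat) := by
  refine Nat.eq_of_testBit_eq fun n => ?_
  rw [Nat.testBit_and, Nat.testBit_shiftRight, ones8_testBit, testBit_pack hl,
    testBit_pack (bytes_map fun x _ => lt_of_le_of_lt (Bool.toNat_le _) (by norm_num)), getD_map_zero]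
  by_cases h0 : n % 8 = 0
  · rw [show (k + n) / 8 = n / 8 by omega, show (k + n) % 8 = k by omega]
    split_ifs with hj
    · rw [toNat_testBit, decide_eq_true (show n % 8 = 0 ∧ n / 8 < 8 from ⟨h0, by omega⟩), decide_eq_true h0,
        Bool.and_true, Bool.true_and]
    · rw [List.getD_eq_default _ _ (by omega)]; simp
  · split_ifs <;> simp [toNat_testBit, h0]

theorem pack_byte {l : List ℕ} (hl : Bytes l) (k : ℕ) : (pack l >>> (8 * k)) &&& 255 = l.getD k 0 := by
  refine Nat.eq_of_testBit_eq fun n => ?_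
  rw [Nat.testBit_and, Nat.testBit_shiftRight, testBit_pack hl,
    show (255 : ℕ) = 2 ^ 8 - 1 by norm_num, Nat.testBit_two_pow_sub_one]
  by_cases hn : n < 8
  · rw [show (8 * k + n) / 8 = k by omega, show (8 * k + n) % 8 = n by omega]; simp [hn]
  · simp only [hn, decide_false, Bool.and_false]
    exact (Nat.testBit_lt_two_pow (lt_of_lt_of_le (hl.getD k)
      (show 256 ≤ 2 ^ n from le_trans (by norm_num) (Nat.pow_le_pow_right (by norm_num) (not_lt.mp hn))))).symm

theorem pack_inj {l m : List ℕ} (hl : Bytes l) (hm : Bytes m) (hlen : l.length = m.length)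
    (h : pack l = pack m) : l = m := by
  refine List.ext_getElem hlen fun i h1 h2 => ?_
  have := pack_byte hl i
  rw [h, pack_byte hm i, List.getD_eq_getElem _ _ h1, List.getD_eq_getElem _ _ h2] at this
  exact this.symm

theorem pTerm_eq {A B : List ℕ} (hA : Bytes A) (hB : Bytes B) (h8 : B.length ≤ 8) {k : ℕ} (hk : k < 8) :
    pTerm (pack A) (pack B) k = pack (B.map fun b => A.getD k 0 * (b.testBit k).toNat) := by
  show ((pack A >>> (8 * k)) &&& 255) * ((pack B >>> k) &&& ones8) = _
  rw [pack_byte hA, pack_bit hB h8 hk, Nat.mul_comm, pack_mul, List.map_map]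
  rfl

theorem linApp_step (A : List ℕ) (v n : ℕ) :
    linApp A v (n + 1) = A.getD n 0 * (v.testBit n).toNat ^^^ linApp A v n := by
  rw [linApp]; cases v.testBit n <;> simp

theorem linApp_byte {A : List ℕ} (hA : Bytes A) (v : ℕ) : ∀ n, linApp A v n < 256
  | 0 => by simp [linApp]
  | n + 1 => by
    rw [linApp_step]
    refine xor_lt (k := 8) ?_ (linApp_byte hA v n)
    cases v.testBit n
    · simp
    · simpa using hA.getD n

theorem linV_byte {A : List ℕ} (hA : Bytes A) (v : ℕ) : linV A v < 256 := linApp_byte hA v 8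

theorem bytes_linComp {A : List ℕ} (hA : Bytes A) (B : List ℕ) : Bytes (linComp A B) :=
  bytes_map fun _ _ => linV_byte hA _

theorem pComp_eq {A B : List ℕ} (hA : Bytes A) (hB : Bytes B) (h8 : B.length ≤ 8) :
    pComp (pack A) (pack B) = pack (linComp A B) := by
  have hb : ∀ k, ∀ b ∈ B, A.getD k 0 * (b.testBit k).toNat < 256 := fun k b _ => by
    cases b.testBit k
    · simp
    · simpa using hA.getD k
  have key : ∀ n, n < 8 → pTerm (pack A) (pack B) n ^^^ pack (B.map fun b => linApp A b n) =
      pack (B.map fun b => linApp A b (n + 1)) := by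
    intro n hn
    rw [pTerm_eq hA hB h8 hn, pack_xor_map (hb n) fun b _ => linApp_byte hA b n]
    congr 1
    exact List.map_congr_left fun b _ => (linApp_step A b n).symm
  have h0 : pack (B.map fun b => linApp A b 1) = pTerm (pack A) (pack B) 0 := by
    rw [pTerm_eq hA hB h8 (by norm_num)]
    congr 1
    exact List.map_congr_left fun b _ => by rw [linApp_step]; simp [linApp]
  show _ = pack (B.map fun b => linApp A b 8)
  rw [← key 7 (by norm_num), ← key 6 (by norm_num), ← key 5 (by norm_num), ← key 4 (by norm_num),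
    ← key 3 (by norm_num), ← key 2 (by norm_num), ← key 1 (by norm_num), h0]
  rfl

/-- the parity of eight bits -/
def fold8 (f : ℕ → Bool) : Bool :=
  xor (xor (xor (f 0) (f 4)) (xor (f 2) (f 6))) (xor (xor (f 1) (f 5)) (xor (f 3) (f 7)))

theorem par8_eq (x : ℕ) : par8 x = fold8 fun k => x.testBit k := by
  simp only [par8, fold8, Nat.testBit_xor, Nat.testBit_shiftRight, Nat.add_zero]

theorem mask85_testBit (j k : ℕ) (hk : k < 8) :
    (85 * ones8).testBit (8 * j + k) = (decide (j < 8) && (85 : ℕ).testBit k) := by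
  rw [show 85 * ones8 = pack (List.replicate 8 85) from by decide +kernel,
    testBit_pack (fun x hx => by rw [List.eq_of_mem_replicate hx]; norm_num),
    show (8 * j + k) / 8 = j by omega, show (8 * j + k) % 8 = k by omega,
    List.getD_eq_getElem?_getD, List.getElem?_replicate]
  split_ifs with hj <;> simp [hj]

theorem pPar_pW {v : ℕ} (hv : v < 256) {l : List ℕ} (hl : Bytes l) (h8 : l.length ≤ 8) :
    pPar (pW v (pack l)) = pack (l.map fun u => (bil v u).toNat) := by
  have hV : ∀ n, (v * ones8).testBit n = (decide (n / 8 < 8) && v.testBit (n % 8)) := by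
    intro n
    rw [show v * ones8 = pack (List.replicate 8 v) from ?_, testBit_pack
      (fun x hx => by rw [List.eq_of_mem_replicate hx]; exact hv), List.getD_eq_getElem?_getD,
      List.getElem?_replicate]
    · split_ifs with hn <;> simp [hn]
    · rw [show ones8 = pack (List.replicate 8 1) from by decide +kernel, Nat.mul_comm, pack_mul,
        List.map_replicate, Nat.mul_one]
  refine Nat.eq_of_testBit_eq fun n => ?_
  rw [testBit_pack (bytes_map fun x _ => lt_of_le_of_lt (Bool.toNat_le _) (by norm_num)), getD_map_zero,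
    show pPar (pW v (pack l)) = ((pW v (pack l) ^^^ pW v (pack l) >>> 4) ^^^
      (pW v (pack l) ^^^ pW v (pack l) >>> 4) >>> 2 ^^^
      ((pW v (pack l) ^^^ pW v (pack l) >>> 4) ^^^
      (pW v (pack l) ^^^ pW v (pack l) >>> 4) >>> 2) >>> 1) &&& ones8 from rfl,
    Nat.testBit_and, ones8_testBit]
  rcases em (n % 8 = 0 ∧ n / 8 < 8) with ⟨h0, hj⟩ | h
  · obtain ⟨j, rfl⟩ : ∃ j, n = 8 * j := ⟨n / 8, by omega⟩
    have hjn : 8 * j / 8 = j := by omega
    rw [hjn] at hj
    have e4 : 4 + 8 * j = 8 * j + 4 := by omega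
    have e2 : 2 + 8 * j = 8 * j + 2 := by omega
    have e1 : 1 + 8 * j = 8 * j + 1 := by omega
    have e42 : 4 + (8 * j + 2) = 8 * j + 6 := by omega
    have e41 : 4 + (8 * j + 1) = 8 * j + 5 := by omega
    have e21 : 2 + (8 * j + 1) = 8 * j + 3 := by omega
    have e421 : 4 + (8 * j + 3) = 8 * j + 7 := by omega
    simp only [Nat.mul_mod_right, hjn, hj, and_self, decide_true, Bool.and_true]
    rcases lt_or_ge j l.length with hl' | hl'
    · rw [if_pos hl', toNat_testBit]
      simp only [decide_true, Bool.true_and]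
      set u := l.getD j 0 with hu
      have hu' : u < 256 := hl.getD j
      have hW : ∀ k < 8, (pW v (pack l)).testBit (8 * j + k) =
          ((v &&& rowv u) ^^^ (u &&& rowv v)).testBit k := by
        intro k hk
        show (((v * ones8) &&& ((pack l >>> 1) &&& (85 * ones8))) ^^^
          (pack l &&& (((v * ones8) >>> 1) &&& (85 * ones8)))).testBit _ = _
        simp only [rowv, Nat.testBit_xor, Nat.testBit_and, Nat.testBit_shiftRight, mask85_testBit j k hk,
          hV, testBit_pack hl, hj, decide_true, Bool.true_and]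
        rw [show (8 * j + k) / 8 = j by omega, show (8 * j + k) % 8 = k by omega]
        rcases (show k = 7 ∨ k < 7 by omega) with rfl | hk7
        · simp [show (85 : ℕ).testBit 7 = false by decide, Bool.and_comm]
        · rw [show (1 + (8 * j + k)) / 8 = j by omega, show (1 + (8 * j + k)) % 8 = k + 1 by omega]
          simp only [← hu, hj, decide_true, Bool.true_and, show k + 1 = 1 + k from Nat.add_comm k 1]
          cases v.testBit k <;> cases u.testBit k <;> cases v.testBit (1 + k) <;>
            cases u.testBit (1 + k) <;> cases (85 : ℕ).testBit k <;> rfl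
      rw [show bil v u = par8 ((v &&& rowv u) ^^^ (u &&& rowv v)) from
        (par8_xor ⟨_, lt_of_le_of_lt Nat.and_le_left hv⟩ ⟨_, lt_of_le_of_lt Nat.and_le_left hu'⟩).symm,
        par8_eq]
      simp only [fold8, ← hW 0 (by norm_num), ← hW 1 (by norm_num), ← hW 2 (by norm_num),
        ← hW 3 (by norm_num), ← hW 4 (by norm_num), ← hW 5 (by norm_num), ← hW 6 (by norm_num),
        ← hW 7 (by norm_num)]
      simp only [Nat.testBit_xor, Nat.testBit_shiftRight, Nat.add_zero, e4, e2, e1, e42, e41, e21, e421]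
    · rw [if_neg (by omega), Nat.zero_testBit]
      have hz : ∀ k < 8, (pW v (pack l)).testBit (8 * j + k) = false := by
        intro k hk
        show (((v * ones8) &&& ((pack l >>> 1) &&& (85 * ones8))) ^^^
          (pack l &&& (((v * ones8) >>> 1) &&& (85 * ones8)))).testBit _ = _
        have e : ∀ a, j ≤ a → l.getD a 0 = 0 := fun a ha => List.getD_eq_default _ _ (by omega)
        simp only [Nat.testBit_xor, Nat.testBit_and, Nat.testBit_shiftRight, testBit_pack hl]
        rw [e _ (by omega), e _ (by omega)]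
        simp
      have h0' : (pW v (pack l)).testBit (8 * j) = false := hz 0 (by norm_num)
      simp [Nat.testBit_xor, Nat.testBit_shiftRight, e4, e2, e1, e42, e41, e21, e421, h0', hz]
  · simp only [h, decide_false, Bool.and_false]
    split_ifs with hl'
    · simp [toNat_testBit, show n % 8 ≠ 0 from fun h0 => h ⟨h0, by omega⟩]
    · simp

theorem linV_two_pow (t : List ℕ) {j : ℕ} (hj : j < 8) : linV t (2 ^ j) = t.getD j 0 := by
  interval_cases j <;> simp [linV, linApp, Nat.testBit, Nat.shiftRight_eq_div_pow]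

theorem linComp_autId {y : List ℕ} (hy : y.length = 8) : linComp y autId = y := by
  refine List.ext_getElem (by simp [linComp, autId, hy]) fun i h1 h2 => ?_
  have hi : i < 8 := hy ▸ h2
  rw [← List.getD_eq_getElem _ 0 h2, ← linV_two_pow y hi]
  simp only [linComp, List.getElem_map]
  congr 1
  interval_cases i <;> rfl

theorem eqL_iff : ∀ {l m : List ℕ}, eqL l m = true ↔ l = m
  | [], [] => by simp [eqL]
  | [], _ :: _ => by simp [eqL]
  | _ :: _, [] => by simp [eqL]
  | a :: l, b :: m => by simp [eqL, eqL_iff (l := l) (m := m), Nat.beq_eq]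

theorem pack_append (v : ℕ) : ∀ l : List ℕ, pack (l ++ [v]) = pack l + v <<< (8 * l.length)
  | [] => by simp [pack]
  | b :: l => by
    simp only [List.cons_append, pack, pack_append v l, List.length_cons, Nat.shiftLeft_eq]
    rw [show 8 * (l.length + 1) = 8 * l.length + 8 by ring, pow_add]; ring

theorem natTs_bytes : ∀ fa fb : Bool, ∀ t ∈ natTs fa fb, t.length = 8 ∧ ∀ x ∈ t, x < 256 := by
  decide +kernel

theorem natX_bytes : natX.length = 3 ∧ (∀ x ∈ natX, x.length = 8 ∧ ∀ a ∈ x, a < 256) ∧
    (∀ s ∈ natSols, s.length = 8 ∧ ∀ a ∈ s, a < 256) := by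
  decide +kernel

theorem natDom_bytes : ∀ c fa fb : Bool, ∀ i : Fin 8,
    ∀ v ∈ (natDom.getD (caseIx c fa fb) []).getD i [], v < 256 := by
  decide +kernel

theorem colsAt_tests {T D : List (List ℕ)} (hT : ∀ t ∈ T, t.length = 8 ∧ ∀ x ∈ t, x < 256)
    {cols : List ℕ} (hc : Bytes cols) (hi : cols.length < 8) {v : ℕ} (hv : v < 256)
    (h : v ∈ colsAt T D cols) :
    v ∈ (levelAt T D cols.length).dom ∧
      Nat.beq (pPar (pW v (pack cols))) (levelAt T D cols.length).target = true ∧
      (levelAt T D cols.length).tests.all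
        (pCommTest (Nat.add (pack cols) (Nat.shiftLeft v (levelAt T D cols.length).shift))) = true := by
  simp only [colsAt, List.mem_filter, Bool.and_eq_true, List.all_eq_true, List.mem_range, beq_iff_eq,
    Bool.or_eq_true, Bool.not_eq_true'] at h
  obtain ⟨hd, hb, ht⟩ := h
  refine ⟨hd, ?_, ?_⟩
  · rw [pPar_pW hv hc hi.le]
    refine Nat.beq_eq.mpr (congrArg pack (List.ext_getElem (by simp) fun j h1 h2 => ?_))
    have hj : j < cols.length := by simpa using h1
    simp only [List.getElem_map, List.getElem_range]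
    rw [← hb j hj, List.getD_eq_getElem _ _ hj]
  · rw [List.all_eq_true]
    intro p hp
    obtain ⟨t, htm, rfl⟩ := List.mem_map.mp hp
    obtain ⟨htl, htb⟩ := hT t htm
    have hc' : Bytes (cols ++ [v]) := by
      intro x hx
      rcases List.mem_append.mp hx with hx | hx
      · exact hc x hx
      · simp at hx; omega
    have hP : Nat.add (pack cols) (Nat.shiftLeft v (levelAt T D cols.length).shift) = pack (cols ++ [v]) :=
      (pack_append v cols).symm
    rw [hP]
    refine Nat.beq_eq.mpr (Nat.eq_of_testBit_eq fun n => ?_)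
    show ((pComp (pack (cols ++ [v])) (pack t) ^^^ pComp (pack t) (pack (cols ++ [v]))) &&&
      pack ((List.range (cols.length + 1)).map fun j =>
        if linV t (2 ^ j) < 2 ^ (cols.length + 1) then 255 else 0)).testBit n = _
    rw [pComp_eq hc' htb htl.le, pComp_eq htb hc' (by simp; omega), Nat.testBit_and, Nat.testBit_xor,
      testBit_pack (bytes_linComp hc' _), testBit_pack (bytes_linComp htb _), Nat.zero_testBit]
    have hM : Bytes ((List.range (cols.length + 1)).map fun j =>
        if linV t (2 ^ j) < 2 ^ (cols.length + 1) then 255 else 0) :=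
      bytes_map fun _ _ => by split <;> norm_num
    rw [testBit_pack hM]
    rcases lt_or_ge (n / 8) (cols.length + 1) with hj | hj
    · rw [show ((List.range (cols.length + 1)).map fun j =>
          if linV t (2 ^ j) < 2 ^ (cols.length + 1) then 255 else 0).getD (n / 8) 0 =
          if linV t (2 ^ (n / 8)) < 2 ^ (cols.length + 1) then 255 else 0 by
        simp [List.getD_eq_getElem?_getD, hj]]
      split_ifs with hlt
      · have hjt : n / 8 < t.length := by omega
        rcases ht t htm (n / 8) hj with hf | he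
        · rw [show (linV t (2 ^ (n / 8))).blt (2 ^ (cols.length + 1)) = true from Nat.ble_eq.mpr hlt] at hf
          exact Bool.noConfusion hf
        have he' := Nat.eq_of_beq_eq_true he
        have hcl : n / 8 < (cols ++ [v]).length := by simp; omega
        simp only [linComp, getD_map_zero, if_pos hjt, if_pos hcl]
        rw [← linV_two_pow t (by omega : n / 8 < 8), he']
        simp
      · simp
    · rw [List.getD_eq_default (List.map _ (List.range _)) 0 (by simpa using hj)]
      simp

theorem pSearch_sound {T D : List (List ℕ)} (hT : ∀ t ∈ T, t.length = 8 ∧ ∀ x ∈ t, x < 256)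
    (hD : ∀ i < 8, ∀ v ∈ D.getD i [], v < 256) (leaf : ℕ → Bool)
    (h : pSearch leaf (levelsFrom T D 0) 0 = true) :
    ∀ n ≤ 8, ∀ y ∈ extend T D n,
      y.length = n ∧ Bytes y ∧ pSearch leaf (levelsFrom T D n) (pack y) = true
  | 0, _, y, hy => by
    simp [extend] at hy; subst hy
    exact ⟨rfl, by simp [Bytes], h⟩
  | n + 1, hn, y, hy => by
    simp only [extend, List.mem_flatMap, List.mem_map] at hy
    obtain ⟨cols, hcm, v, hvm, rfl⟩ := hy
    obtain ⟨hl, hb, hs⟩ := pSearch_sound hT hD leaf h n (by omega) cols hcm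
    have hdom : v ∈ D.getD n [] := by
      simp only [colsAt, List.mem_filter] at hvm; rw [hl] at hvm; exact hvm.1
    have hv : v < 256 := hD n (by omega) v hdom
    obtain ⟨-, h2, h3⟩ := colsAt_tests hT hb (by omega) hv hvm
    refine ⟨by simp [hl], ?_, ?_⟩
    · intro x hx
      rcases List.mem_append.mp hx with hx | hx
      · exact hb x hx
      · simp at hx; omega
    have hlev : levelsFrom T D n = levelAt T D n :: levelsFrom T D (n + 1) := by
      simp only [levelsFrom]
      rw [show 8 - n = (8 - (n + 1)) + 1 by omega, List.range'_succ, List.map_cons]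
    rw [hlev, pSearch, List.all_eq_true] at hs
    have := hs v hdom
    rw [← hl, h2, h3] at this
    simp only [Bool.and_self, Bool.not_true, Bool.false_or] at this
    rw [hl] at this
    rw [pack_append, hl]
    exact this

theorem pGood_of_good4 {c : Bool} {X T : List (List ℕ)} (hXl : X.length = 3)
    (hX : ∀ x ∈ X, x.length = 8 ∧ ∀ a ∈ x, a < 256) {y : List ℕ} (hl : y.length = 8) (hb : Bytes y)
    (hg : good4 c X T y = true) : pGood (X.map pack) (pack autId) (pack y) = true := by
  have L : ∀ k < 3, (X.getD k autId).length = 8 := fun k hk => by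
    rw [List.getD_eq_getElem _ _ (by omega)]; exact (hX _ (List.getElem_mem _)).1
  simp only [good4, Bool.and_eq_true, List.all_eq_true, Bool.not_eq_true', eqL_iff] at hg
  obtain ⟨⟨⟨⟨-, hne⟩, h3⟩, hm⟩, hw⟩ := hg
  have hId : Bytes autId := by unfold Bytes; decide
  have hyy := bytes_linComp hb y
  have e2 : pComp (pack y) (pack y) = pack (linComp y y) := pComp_eq hb hb hl.le
  have e3 : pComp (pack y) (pComp (pack y) (pack y)) = pack autId := by
    rw [e2, pComp_eq hb hyy (by simp [linComp, hl]), h3]
  have ne' : Nat.beq (pack y) (pack autId) = false := by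
    refine Bool.eq_false_iff.mpr fun hh => ?_
    have := pack_inj hb hId (by rw [hl]; rfl) (Nat.eq_of_beq_eq_true hh)
    simp [eqL_iff.mpr this] at hne
  have e5 : ∀ x ∈ X, (let m := pComp (pack x) (pack y);
      Nat.beq (pComp m (pComp (pComp m m) (pComp m m))) (pack autId)) = true := by
    intro x hx
    have hx' : Bytes x := (hX x hx).2
    have hmB := bytes_linComp hx' y
    have hmL : (linComp x y).length ≤ 8 := by simp [linComp, hl]
    show Nat.beq _ _ = true
    rw [pComp_eq hx' hb hl.le, pComp_eq hmB hmB hmL,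
      pComp_eq (bytes_linComp hmB _) (bytes_linComp hmB _) (by simp [linComp, hl]),
      pComp_eq hmB (bytes_linComp (bytes_linComp hmB _) _) (by simp [linComp, hl]), hm x hx]
    exact Nat.beq_refl _
  have eX : ∀ k, k < 3 → (X.map pack).getD k 0 = pack (X.getD k autId) ∧
      (X ++ [y]).getD k autId = X.getD k autId ∧ Bytes (X.getD k autId) ∧
      (X.getD k autId).length ≤ 8 := by
    intro k hk
    have hk' : k < X.length := by omega
    refine ⟨?_, ?_, ?_, ?_⟩
    · simp [List.getD_eq_getElem?_getD, List.getElem?_eq_getElem hk']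
    · simp [List.getD_eq_getElem?_getD, List.getElem?_append_left hk']
    · rw [List.getD_eq_getElem _ _ hk']; exact (hX _ (List.getElem_mem hk')).2
    · rw [List.getD_eq_getElem _ _ hk']; exact (hX _ (List.getElem_mem hk')).1.le
  have ey : (X ++ [y]).getD 3 autId = y := by
    simp [List.getD_eq_getElem?_getD, hXl]
  obtain ⟨p0, q0, b0, l0⟩ := eX 0 (by norm_num)
  obtain ⟨p1, q1, b1, l1⟩ := eX 1 (by norm_num)
  obtain ⟨p2, q2, b2, l2⟩ := eX 2 (by norm_num)
  simp only [linWord, q0, q1, q2, ey, linComp_autId hl,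
    linComp_autId (L 1 (by norm_num)),
    linComp_autId (L 2 (by norm_num))] at hw
  have c : ∀ {A B : List ℕ}, Bytes A → (Bytes B ∧ B.length ≤ 8) →
      pComp (pack A) (pack B) = pack (linComp A B) ∧ Bytes (linComp A B) ∧ (linComp A B).length ≤ 8 :=
    fun hA hB => ⟨pComp_eq hA hB.1 hB.2, bytes_linComp hA _, by simpa [linComp] using hB.2⟩
  obtain ⟨r1, s1⟩ := c b0 ⟨hb, hl.le⟩
  obtain ⟨r2, s2⟩ := c hb s1
  obtain ⟨r3, s3⟩ := c hb s2
  obtain ⟨r4, s4⟩ := c b1 s3
  obtain ⟨r5, s5⟩ := c hb ⟨b1, l1⟩
  obtain ⟨r6, s6⟩ := c b0 s5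
  obtain ⟨r7, s7⟩ := c hb s6
  obtain ⟨r8, -⟩ := c hb s7
  obtain ⟨t1, u1⟩ := c b1 ⟨hb, hl.le⟩
  obtain ⟨t2, u2⟩ := c hb u1
  obtain ⟨t3, u3⟩ := c hb u2
  obtain ⟨t4, u4⟩ := c b2 u3
  obtain ⟨t5, u5⟩ := c hb ⟨b2, l2⟩
  obtain ⟨t6, u6⟩ := c b1 u5
  obtain ⟨t7, u7⟩ := c hb u6
  obtain ⟨t8, -⟩ := c hb u7
  have w1 : Nat.beq (pComp ((X.map pack).getD 1 0) (pComp (pack y) (pComp (pack y)
      (pComp ((X.map pack).getD 0 0) (pack y))))) (pComp (pack y) (pComp (pack y)
      (pComp ((X.map pack).getD 0 0) (pComp (pack y) ((X.map pack).getD 1 0))))) = true := by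
    rw [p0, p1, r1, r2, r3, r4, r5, r6, r7, r8, hw.1]; exact Nat.beq_refl _
  have w2 : Nat.beq (pComp ((X.map pack).getD 2 0) (pComp (pack y) (pComp (pack y)
      (pComp ((X.map pack).getD 1 0) (pack y))))) (pComp (pack y) (pComp (pack y)
      (pComp ((X.map pack).getD 1 0) (pComp (pack y) ((X.map pack).getD 2 0))))) = true := by
    rw [p1, p2, t1, t2, t3, t4, t5, t6, t7, t8, hw.2]; exact Nat.beq_refl _
  have e6 : (X.map pack).all (fun x => let m := pComp x (pack y);
      Nat.beq (pComp m (pComp (pComp m m) (pComp m m))) (pack autId)) = true := by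
    rw [List.all_eq_true]
    intro x hx
    obtain ⟨x', hx', rfl⟩ := List.mem_map.mp hx
    exact e5 x' hx'
  have hgood : pGood (X.map pack) (pack autId) (pack y) = true := by
    rw [pGood, ne', Nat.beq_eq.mpr e3, e6, w1, w2]; rfl
  exact hgood

theorem natSearch_of_fast {c fa fb : Bool} (h : natFast c fa fb = true) :
    natSearch c fa fb = true := by
  simp only [natSearch, List.all_eq_true]
  intro y hy
  obtain ⟨hl, hb, hs⟩ := pSearch_sound (natTs_bytes fa fb)
    (fun i hi => natDom_bytes c fa fb ⟨i, hi⟩) _ h 8 le_rfl y hy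
  rw [show levelsFrom (natTs fa fb) (natDom.getD (caseIx c fa fb) []) 8 = [] from rfl] at hs
  change natLeaf c fa fb (pack y) = true at hs
  by_cases hg : good4 c natX (natTs fa fb) y = true
  swap
  · simp [Bool.eq_false_iff.mpr hg]
  obtain ⟨hXl, hX, hS⟩ := natX_bytes
  have hgood := pGood_of_good4 hXl hX hl hb hg
  rw [natLeaf, hgood, Bool.not_true, Bool.false_or, Bool.and_eq_true, List.any_eq_true] at hs
  obtain ⟨hflag, z, hz, hzy⟩ := hs
  obtain ⟨s, hsm, rfl⟩ := List.mem_map.mp hz
  rw [Bool.or_eq_true, Bool.and_eq_true, List.any_eq_true]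
  exact Or.inr ⟨hflag, s, hsm, eqL_iff.mpr (pack_inj hb (hS s hsm).2 (by rw [hl, (hS s hsm).1])
    (Nat.eq_of_beq_eq_true hzy))⟩


/-- the packed columns determined by the first two in the first module -/
def pSpinCols (t s u v : ℕ) : ℕ :=
  let a := pComp t u
  let b := pComp s u
  let a' := Nat.xor (pComp t v) a
  let b' := Nat.xor (pComp s v) b
  Nat.add u (Nat.mul 256 (Nat.add v (Nat.mul 256 (Nat.add a (Nat.mul 256 (Nat.add a' (Nat.mul 256
    (Nat.add b (Nat.mul 256 (Nat.add b' (Nat.mul 256 (Nat.add (pComp t b) (Nat.mul 256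
      (Nat.xor (pComp t (pComp s v)) (pComp t b)))))))))))))))

/-- the search in the first module on packed columns -/
def spinFast : Bool :=
  let t := pack (spinT.getD 0 [])
  let s := pack (spinT.getD 1 [])
  let dom := (List.range 256).filter qd
  dom.all fun u => dom.all fun v => !(Nat.beq (pPar (pW v u)) 1) ||
    (!(pGood (spinX.map pack) (pack autId) (pSpinCols t s u v)) ||
      (spinSols.map pack).any (Nat.beq (pSpinCols t s u v)))

theorem spin_bytes : spinX.length = 3 ∧ (∀ x ∈ spinX, x.length = 8 ∧ ∀ a ∈ x, a < 256) ∧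
    (∀ t ∈ [spinT.getD 0 [], spinT.getD 1 []], t.length = 8 ∧ ∀ a ∈ t, a < 256) ∧
    (∀ s ∈ spinSols, s.length = 8 ∧ ∀ a ∈ s, a < 256) := by
  decide +kernel

theorem pack_single (x : ℕ) : pack [x] = x := by simp [pack]

theorem pComp_vec {A : List ℕ} (hA : Bytes A) {x : ℕ} (hx : x < 256) : pComp (pack A) x = linV A x := by
  have := pComp_eq hA (B := [x]) (by intro y hy; simp at hy; omega) (by simp)
  rwa [pack_single, show linComp A [x] = [linV A x] from rfl, pack_single] at this

theorem spinSearch_of_fast (h : spinFast = true) : spinSearch = true := by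
  obtain ⟨hXl, hX, hT, hS⟩ := spin_bytes
  obtain ⟨-, ht⟩ := hT (spinT.getD 0 []) (by simp)
  obtain ⟨-, hs⟩ := hT (spinT.getD 1 []) (by simp)
  simp only [spinSearch, List.all_eq_true, List.mem_filter, List.mem_range, Bool.and_eq_true]
  intro u hu v hv
  obtain ⟨hu, hqu⟩ := hu
  obtain ⟨hv, hqv, hbil⟩ := hv
  simp only [spinFast, List.all_eq_true, List.mem_filter, List.mem_range] at h
  have hh := h u ⟨hu, hqu⟩ v ⟨hv, hqv⟩
  have hb1 : Nat.beq (pPar (pW v u)) 1 = true := by
    have := pPar_pW hv (l := [u]) (by intro y hy; simp at hy; omega) (by simp)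
    rw [pack_single] at this
    rw [this, bil_comm] at *
    simp [hbil, pack]
  have hb : Bytes (spinCols u v) := by
    intro x hx
    simp only [spinCols, List.mem_cons, List.not_mem_nil, or_false] at hx
    rcases hx with rfl | rfl | rfl | rfl | rfl | rfl | rfl | rfl
    exacts [hu, hv, linV_byte ht _, xor_lt (k := 8) (linV_byte ht _) (linV_byte ht _), linV_byte hs _,
      xor_lt (k := 8) (linV_byte hs _) (linV_byte hs _), linV_byte ht _,
      xor_lt (k := 8) (linV_byte ht _) (linV_byte ht _)]
  have hl : (spinCols u v).length = 8 := rfl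
  have hp : pSpinCols (pack (spinT.getD 0 [])) (pack (spinT.getD 1 [])) u v = pack (spinCols u v) := by
    simp only [pSpinCols, pComp_vec ht hu, pComp_vec hs hu, pComp_vec ht hv, pComp_vec hs hv,
      pComp_vec ht (linV_byte hs u), pComp_vec ht (linV_byte hs v)]
    rfl
  rw [hb1, hp, Bool.not_true, Bool.false_or] at hh
  by_cases hg : good4 true spinX spinT (spinCols u v) = true
  swap
  · simp [Bool.eq_false_iff.mpr hg]
  rw [pGood_of_good4 hXl hX hl hb hg, Bool.not_true, Bool.false_or, List.any_eq_true] at hh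
  obtain ⟨z, hz, hzy⟩ := hh
  obtain ⟨s, hsm, rfl⟩ := List.mem_map.mp hz
  rw [Bool.or_eq_true, List.any_eq_true]
  exact Or.inr ⟨s, hsm, eqL_iff.mpr (pack_inj hb (hS s hsm).2 (by rw [hl, (hS s hsm).1])
    (Nat.eq_of_beq_eq_true hzy))⟩

end CfsgLib.ThType
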