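import Cfsg.Agent.Lib.ThType.Classify
import Cfsg.Agent.Lib.ThType.Codes
import Cfsg.Agent.Lib.Extraspecial.Basics
import Cfsg.Agent.Lib.AltPres.Line

/-!
Coordinates in an extraspecial subgroup whose factor group is alternating of degree nine.
-/

set_option autoImplicit false
set_option linter.style.haveILetI false
set_option Elab.async false

open Equiv
open scoped commutatorElement

namespace CfsgLib.ThType

/-- the seven generators as even permutations -/
def g7 (k : Fin 7) : ↥(alternatingGroup (Fin 9)) := alt (gen7 false k)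

/-- renaming by an odd permutation, if asked -/
noncomputable def ren (fl : Bool) : MulAut ↥(alternatingGroup (Fin 9)) :=
  if fl then MulAut.conjNormal (swap (0 : Fin 9) 1) else 1

theorem gen7_even : ∀ f : Bool, ∀ k : Fin 7, gen7 f k ∈ alternatingGroup (Fin 9) := fun f k =>
  Perm.mem_alternatingGroup.mpr (by revert f k; decide +kernel)

theorem gen7_flip : ∀ k : Fin 7, ∀ x : Fin 9,
    gen7 true k x = (swap (0 : Fin 9) 1 * gen7 false k * (swap (0 : Fin 9) 1)⁻¹) x := by
  decide +kernel

theorem ren_g7 (fl : Bool) (k : Fin 7) : ren fl (g7 k) = alt (gen7 fl k) := by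
  cases fl
  · rfl
  · apply Subtype.ext
    rw [g7, alt_of_mem (gen7_even false k), alt_of_mem (gen7_even true k)]
    simp only [ren, if_true, MulAut.conjNormal_apply]
    exact (Equiv.ext (gen7_flip k)).symm

theorem ren_ren (fl : Bool) (x : ↥(alternatingGroup (Fin 9))) : ren fl (ren fl x) = x := by
  cases fl
  · rfl
  · apply Subtype.ext
    simp only [ren, if_true, MulAut.conjNormal_apply, swap_inv]
    rw [← mul_assoc, ← mul_assoc, swap_mul_self, one_mul, mul_assoc, swap_mul_self, mul_one]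

/-- Coordinates, the map onto the alternating group and the matrices of the generators. -/
structure Fr {C : Type*} [Group C] (Q : Subgroup C) (z : C) (g : ℕ → C)
    (π : C →* ↥(alternatingGroup (Fin 9))) (M : List (List ℕ)) : Prop where
  coords : Coords Q z g
  surj : Function.Surjective π
  ker : π.ker = Q
  lin : ∀ (c : C) (k : Fin 7) (A : List ℕ), π c = g7 k → Acts z g c A → linPart A = M.getD k []

section Quot

variable {C : Type*} [Group C] {Q : Subgroup C}

open scoped _root_.Classical in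
/-- whether the square is the given element -/
noncomputable def sqB (z : C) (a : Q) : Bool := decide ((a : C) * a = z)

open scoped _root_.Classical in
/-- whether two elements fail to commute -/
noncomputable def cmB (a c : Q) : Bool := decide ((a : C) * c ≠ c * a)

/-- the quadratic form on the factor group -/
noncomputable def qV (z : C) (u : ↥Q ⧸ Subgroup.center ↥Q) : Bool := sqB z u.out

/-- the bilinear form on the factor group -/
noncomputable def bV (u v : ↥Q ⧸ Subgroup.center ↥Q) : Bool := cmB u.out v.out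

/-- the action on the factor group -/
noncomputable def tV [Q.Normal] : C →* MulAut (↥Q ⧸ Subgroup.center ↥Q) where
  toFun c := QuotientGroup.congr _ _ (MulAut.conjNormal c)
    (Subgroup.characteristic_iff_map_eq.mp inferInstance _)
  map_one' := MulEquiv.ext fun x => by
    induction x using QuotientGroup.induction_on with
    | _ a => simp
  map_mul' c d := MulEquiv.ext fun x => by
    induction x using QuotientGroup.induction_on with
    | _ a =>
      show ((MulAut.conjNormal (c * d) a : Q) : ↥Q ⧸ Subgroup.center ↥Q) =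
        ((MulAut.conjNormal c (MulAut.conjNormal d a) : Q) : ↥Q ⧸ Subgroup.center ↥Q)
      rw [map_mul]
      rfl

theorem tV_mk [Q.Normal] (c : C) (a : Q) :
    tV c (a : ↥Q ⧸ Subgroup.center ↥Q) = ((MulAut.conjNormal c a : Q) : ↥Q ⧸ Subgroup.center ↥Q) := rfl

end Quot

/-- Coordinates exist, with one of two lists of matrices. -/
theorem exists_frame {C : Type*} [Group C] [Finite C] (Q : Subgroup C) [Q.Normal]
    (hQ : Cfsg.IsExtraspecial 2 Q) (hcard : Nat.card Q = 512)
    (hCQ : Subgroup.centralizer (Q : Set C) ≤ Q) (e : C ⧸ Q ≃* ↥(alternatingGroup (Fin 9))) (z : C)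
    (hz : ∀ c : C, c * z = z * c) (hz2 : z * z = 1) (hz1 : z ≠ 1) :
    ∃ (g : ℕ → C) (π : C →* ↥(alternatingGroup (Fin 9))) (M : List (List ℕ)),
      Fr Q z g π M ∧ (M = spinM ∨ M = natM) := by
  classical
  haveI := Fact.mk Nat.prime_two
  have hzQ : z ∈ Q := hCQ (Subgroup.mem_centralizer_iff.mpr fun q _ => hz q)
  have hzc : (⟨z, hzQ⟩ : Q) ∈ Subgroup.center Q := Subgroup.mem_center_iff.mpr fun a => Subtype.ext (hz a)
  have hzne : (⟨z, hzQ⟩ : Q) ≠ 1 := fun hh => hz1 (congrArg Subtype.val hh)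
  have hcen : ∀ a : Q, a ∈ Subgroup.center Q → (a : C) = 1 ∨ (a : C) = z := by
    intro a ha
    obtain ⟨hze, -⟩ := CfsgLib.Extraspecial.center_eq hQ hzc hzne
    rw [← hze] at ha
    obtain ⟨n, rfl⟩ := Subgroup.mem_zpowers_iff.mp ha
    rcases Int.even_or_odd' n with ⟨m, rfl | rfl⟩
    · left
      rw [Subgroup.coe_zpow, zpow_mul, zpow_two, hz2, one_zpow]
    · right
      rw [Subgroup.coe_zpow, zpow_add, zpow_mul, zpow_two, hz2, one_zpow, one_mul, zpow_one]
  have hzin : ∀ b, zp z b ∈ Q := fun b => by cases b <;> [exact one_mem _; exact hzQ]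
  have hcomm : ∀ a c : Q, (a : C) * c = c * a * zp z (cmB a c) := by
    intro a c
    by_cases hh : (a : C) * c = c * a
    · simp [cmB, hh, zp]
    · have e0 : (a : C) * c = c * a * ((c : C)⁻¹ * (a : C)⁻¹ * c * a)⁻¹ := by group
      have e1 : ((⁅c⁻¹, a⁻¹⁆ : Q) : C) = (c : C)⁻¹ * (a : C)⁻¹ * c * a := by
        simp [commutatorElement_def]
      rcases hcen _ (CfsgLib.Extraspecial.comm_mem hQ c⁻¹ a⁻¹) with h1 | h1 <;> rw [e1] at h1
      · rw [h1, inv_one, mul_one] at e0
        exact absurd e0 hh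
      · rw [h1, inv_eq_of_mul_eq_one_right hz2] at e0
        simp only [cmB, ne_eq, hh, not_false_iff, decide_true, zp, if_true]
        exact e0
  have hsq : ∀ a : Q, (a : C) * a = zp z (sqB z a) := by
    intro a
    have h2 := CfsgLib.Extraspecial.pow_mem_center hQ a
    rw [pow_two] at h2
    rcases hcen _ h2 with h1 | h1 <;> rw [Subgroup.coe_mul] at h1
    · rw [sqB, decide_eq_false (by rw [h1]; exact Ne.symm hz1), h1]; rfl
    · rw [sqB, decide_eq_true h1, h1]; rfl
  have zinj : ∀ {a b : Bool}, zp z a = zp z b → a = b := by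
    intro a b
    cases a <;> cases b <;> simp [zp, hz1, Ne.symm hz1]
  have zc := fun (b : Bool) (c : C) => zp_comm hz b c
  have hcm_mul : ∀ a c d : Q, cmB a (c * d) = xor (cmB a c) (cmB a d) := by
    intro a c d
    apply zinj
    apply mul_left_cancel (a := ((c * d : Q) : C) * a)
    rw [← hcomm, Subgroup.coe_mul, ← mul_assoc, hcomm a c, mul_assoc _ (zp z _), ← zc _ (d : C), ← mul_assoc,
      mul_assoc (c : C) (a : C) d, hcomm a d]
    simp only [← mul_assoc]
    rw [mul_assoc _ (zp z _) (zp z _), zp_mul hz2, Bool.xor_comm]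
  have hcm_symm : ∀ a c : Q, cmB a c = cmB c a := fun a c => by
    simp only [cmB, decide_eq_decide, ne_eq]
    exact not_congr ⟨Eq.symm, Eq.symm⟩
  have hsq_mul : ∀ a c : Q, sqB z (a * c) = xor (xor (sqB z a) (sqB z c)) (cmB a c) := by
    intro a c
    apply zinj
    rw [← hsq, Subgroup.coe_mul, show (a : C) * c * (a * c) = a * (c * a) * c by group, hcomm c a,
      hcm_symm c a, show (a : C) * (a * c * zp z (cmB a c)) * c = a * a * c * (zp z (cmB a c) * c) by group,
      ← zc, show (a : C) * a * c * (c * zp z (cmB a c)) = a * a * (c * c) * zp z (cmB a c) by group,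
      hsq a, hsq c, zp_mul hz2, zp_mul hz2]
  have hcm_cent : ∀ a c : Q, c ∈ Subgroup.center Q → cmB a c = false := fun a c hc => by
    simp only [cmB, decide_eq_false_iff_not, not_not]
    exact congrArg Subtype.val (Subgroup.mem_center_iff.mp hc a)
  have hsq_cent : ∀ c : Q, c ∈ Subgroup.center Q → sqB z c = false := fun c hc => by
    apply zinj
    rw [← hsq]
    rcases hcen c hc with h1 | h1 <;> simp [h1, zp, hz2]
  have qmk : ∀ a : Q, qV z (a : ↥Q ⧸ Subgroup.center ↥Q) = sqB z a := fun a => by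
    obtain ⟨d, hd⟩ := QuotientGroup.mk_out_eq_mul (Subgroup.center ↥Q) a
    rw [qV, hd, hsq_mul, hsq_cent _ d.2, hcm_cent _ _ d.2, Bool.xor_false, Bool.xor_false]
  have bmk : ∀ a c : Q, bV (a : ↥Q ⧸ Subgroup.center ↥Q) (c : ↥Q ⧸ Subgroup.center ↥Q) = cmB a c := by
    intro a c
    obtain ⟨d, hd⟩ := QuotientGroup.mk_out_eq_mul (Subgroup.center ↥Q) a
    obtain ⟨d', hd'⟩ := QuotientGroup.mk_out_eq_mul (Subgroup.center ↥Q) c
    rw [bV, hd, hd', hcm_mul, hcm_cent _ _ d'.2, Bool.xor_false, hcm_symm, hcm_mul, hcm_cent _ _ d.2,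
      Bool.xor_false, hcm_symm]
  letI : CommGroup (↥Q ⧸ Subgroup.center ↥Q) :=
    { QuotientGroup.Quotient.group (Subgroup.center ↥Q) with
      mul_comm := fun u v => by
        induction u using QuotientGroup.induction_on with
        | _ a =>
          induction v using QuotientGroup.induction_on with
          | _ c =>
            rw [← QuotientGroup.mk_mul, ← QuotientGroup.mk_mul, QuotientGroup.eq]
            have := CfsgLib.Extraspecial.comm_mem hQ c⁻¹ a⁻¹
            rwa [commutatorElement_def, inv_inv, inv_inv, mul_assoc, ← mul_inv_rev] at this }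
  have hker : Q ≤ (tV (Q := Q)).ker := by
    intro x hx
    refine MulEquiv.ext fun u => ?_
    induction u using QuotientGroup.induction_on with
    | _ a =>
      rw [tV_mk, MulAut.one_apply, QuotientGroup.eq]
      have key : (MulAut.conjNormal x a : Q) = ⟨x, hx⟩ * a * (⟨x, hx⟩ : Q)⁻¹ := Subtype.ext (by simp)
      rw [key]
      have := CfsgLib.Extraspecial.comm_mem hQ (⟨x, hx⟩ : Q) a⁻¹
      rw [commutatorElement_def, inv_inv] at this
      rw [show ((⟨x, hx⟩ : Q) * a * (⟨x, hx⟩ : Q)⁻¹)⁻¹ * a = ⟨x, hx⟩ * a⁻¹ * (⟨x, hx⟩ : Q)⁻¹ * a by group]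
      exact this
  set A : ↥(alternatingGroup (Fin 9)) →* MulAut (↥Q ⧸ Subgroup.center ↥Q) :=
    (QuotientGroup.lift Q (tV (Q := Q)) hker).comp e.symm.toMonoidHom with hAdef
  have hA : ∀ c : C, A (e (c : C ⧸ Q)) = tV c := fun c => by simp [hAdef]
  have hfaith : Function.Injective A := by
    haveI : IsSimpleGroup ↥(alternatingGroup (Fin 9)) := alternatingGroup.isSimpleGroup (by simp)
    rw [← MonoidHom.ker_eq_bot_iff]
    refine (IsSimpleGroup.eq_bot_or_eq_top_of_normal A.ker inferInstance).resolve_right fun htop => ?_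
    have htriv : ∀ (c : C) (a : Q), ∃ b, c * (a : C) * c⁻¹ = a * zp z b := by
      intro c a
      have h1 : tV c (a : ↥Q ⧸ Subgroup.center ↥Q) = (a : ↥Q ⧸ Subgroup.center ↥Q) := by
        rw [← hA, show A (e (c : C ⧸ Q)) = 1 from MonoidHom.mem_ker.mp (htop ▸ Subgroup.mem_top _)]
        rfl
      rw [tV_mk, eq_comm, QuotientGroup.eq] at h1
      rcases hcen _ h1 with h2 | h2 <;>
        simp only [Subgroup.coe_mul, InvMemClass.coe_inv, MulAut.conjNormal_apply] at h2
      · exact ⟨false, (inv_mul_eq_iff_eq_mul.mp h2)⟩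
      · exact ⟨true, (inv_mul_eq_iff_eq_mul.mp h2)⟩
    have hcc : ∀ c d : C, c * d * c⁻¹ * d⁻¹ ∈ Q := fun c d => by
      have heq : ∀ r ∈ Q, c * d * r * (c * d)⁻¹ = d * c * r * (d * c)⁻¹ := fun r hr => by
        obtain ⟨bd, hd⟩ := htriv d ⟨r, hr⟩
        obtain ⟨bc, hc⟩ := htriv c ⟨r, hr⟩
        rw [show c * d * r * (c * d)⁻¹ = c * (d * r * d⁻¹) * c⁻¹ by group, hd,
          show c * (r * zp z bd) * c⁻¹ = c * r * c⁻¹ * (c * zp z bd * c⁻¹) by group, hc, zc bd c,
          mul_inv_cancel_right, show d * c * r * (d * c)⁻¹ = d * (c * r * c⁻¹) * d⁻¹ by group, hc,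
          show d * (r * zp z bc) * d⁻¹ = d * r * d⁻¹ * (d * zp z bc * d⁻¹) by group, hd, zc bc d,
          mul_inv_cancel_right, mul_assoc r, mul_assoc r, zp_mul hz2, zp_mul hz2, Bool.xor_comm]
      refine hCQ (Subgroup.mem_centralizer_iff.mpr fun q hq => ?_)
      have hq' : (d * c)⁻¹ * q * (d * c) ∈ Q := by
        simpa using ‹Q.Normal›.conj_mem q hq (d * c)⁻¹
      have e1 : c * d * c⁻¹ * d⁻¹ * q * (c * d * c⁻¹ * d⁻¹)⁻¹ = q := by
        have := heq _ hq'
        calc c * d * c⁻¹ * d⁻¹ * q * (c * d * c⁻¹ * d⁻¹)⁻¹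
            = c * d * ((d * c)⁻¹ * q * (d * c)) * (c * d)⁻¹ := by group
          _ = q := by rw [this]; group
      exact (mul_inv_eq_iff_eq_mul.mp e1).symm
    obtain ⟨x, hx⟩ : ∃ x : C, e (x : C ⧸ Q) = alt (gen4 0) := by
      obtain ⟨y, hy⟩ := e.surjective (alt (gen4 0))
      obtain ⟨x, rfl⟩ := QuotientGroup.mk_surjective y
      exact ⟨x, hy⟩
    obtain ⟨y, hy⟩ : ∃ x : C, e (x : C ⧸ Q) = alt (gen4 3) := by
      obtain ⟨y, hy⟩ := e.surjective (alt (gen4 3))
      obtain ⟨x, rfl⟩ := QuotientGroup.mk_surjective y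
      exact ⟨x, hy⟩
    have h3 : alt (gen4 0) * alt (gen4 3) = alt (gen4 3) * alt (gen4 0) := by
      rw [← hx, ← hy, ← map_mul, ← map_mul, ← QuotientGroup.mk_mul, ← QuotientGroup.mk_mul]
      refine congrArg e ((QuotientGroup.eq).mpr ?_)
      rw [show (x * y)⁻¹ * (y * x) = y⁻¹ * x⁻¹ * y * x by group]
      have := hcc y⁻¹ x⁻¹
      rwa [inv_inv, inv_inv] at this
    have h4 := congrArg (fun s : ↥(alternatingGroup (Fin 9)) => (s : Perm (Fin 9)) 2) h3
    have g0 : gen4 0 ∈ alternatingGroup (Fin 9) := gen4_even 0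
    have g3 : gen4 3 ∈ alternatingGroup (Fin 9) := gen4_even 3
    simp only [alt_of_mem g0, alt_of_mem g3, Subgroup.coe_mul] at h4
    revert h4
    decide +kernel
  have hmo : Mo (qV z) bV A := by
    refine ⟨fun u => ?_, ?_, ?_, fun u v => ?_, fun u v w => ?_, fun u hu => ?_, hfaith, fun σ u => ?_⟩
    · induction u using QuotientGroup.induction_on with
      | _ a =>
        rw [← QuotientGroup.mk_mul, QuotientGroup.eq_one_iff, ← pow_two]
        exact CfsgLib.Extraspecial.pow_mem_center hQ a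
    · have h2 := (Subgroup.center ↥Q).card_eq_card_quotient_mul_card_subgroup
      rw [hcard, hQ.2] at h2
      omega
    · rw [← QuotientGroup.mk_one, qmk, hsq_cent _ (one_mem _)]
    · induction u using QuotientGroup.induction_on with
      | _ a =>
        induction v using QuotientGroup.induction_on with
        | _ c => rw [← QuotientGroup.mk_mul, qmk, qmk, qmk, bmk, hsq_mul]
    · induction u using QuotientGroup.induction_on with
      | _ a =>
        induction v using QuotientGroup.induction_on with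
        | _ c =>
          induction w using QuotientGroup.induction_on with
          | _ d => rw [← QuotientGroup.mk_mul, bmk, bmk, bmk, hcm_mul]
    · induction u using QuotientGroup.induction_on with
      | _ a =>
        rw [Ne, QuotientGroup.eq_one_iff, Subgroup.mem_center_iff] at hu
        push Not at hu
        obtain ⟨c, hc⟩ := hu
        refine ⟨(c : ↥Q ⧸ Subgroup.center ↥Q), ?_⟩
        rw [bmk, cmB, decide_eq_true_eq]
        exact fun hh => hc (Subtype.ext hh.symm)
    · obtain ⟨y, rfl⟩ := e.surjective σ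
      obtain ⟨c, rfl⟩ := QuotientGroup.mk_surjective y
      induction u using QuotientGroup.induction_on with
      | _ a =>
        rw [hA, tV_mk, qmk, qmk]
        apply zinj
        rw [← hsq, ← hsq, MulAut.conjNormal_apply,
          show c * (a : C) * c⁻¹ * (c * a * c⁻¹) = c * (a * a) * c⁻¹ by group, hsq, zc, mul_inv_cancel_right]
  obtain ⟨sp, fl, bb, hb, hM⟩ := hmo.classify
  let g : ℕ → C := fun i => ((bb i).out : Q)
  have hgm : ∀ i, g i ∈ Q := fun i => (bb i).out.2
  have hgq : ∀ i, ((⟨g i, hgm i⟩ : Q) : ↥Q ⧸ Subgroup.center ↥Q) = bb i := fun i => (bb i).out_eq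
  have hprdm : ∀ v n, prd g v n ∈ Q := by
    intro v n
    induction n with
    | zero => exact one_mem _
    | succ n ih =>
      rw [prd]
      split
      · exact mul_mem (hgm n) ih
      · exact ih
  have hprdq : ∀ v n, ((⟨prd g v n, hprdm v n⟩ : Q) : ↥Q ⧸ Subgroup.center ↥Q) = pv bb v n := by
    intro v n
    induction n with
    | zero => rfl
    | succ n ih =>
      by_cases hv : v.testBit n
      · rw [pv, if_pos hv, ← ih, ← hgq n, ← QuotientGroup.mk_mul]
        refine congrArg _ (Subtype.ext ?_)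
        show prd g v (n + 1) = g n * prd g v n
        rw [prd, if_pos hv]
      · rw [pv, if_neg hv, ← ih]
        refine congrArg _ (Subtype.ext ?_)
        show prd g v (n + 1) = prd g v n
        rw [prd, if_neg hv]
  have hqd : ∀ i < 8, qV z (bb i) = qd (2 ^ i) := fun i hi => by
    rw [hb.q_bb i hi, qdC]; simp
  have hC : Coords Q z g := by
    refine ⟨inferInstance, hCQ, hcard, fun i _ => hgm i, hzQ, hz2, hz1, hz, fun i hi => ?_, fun i hi j hj => ?_,
      fun x hx => ?_⟩
    · rw [← hqd i hi, ← hgq i, qmk, ← hsq]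
    · rw [← hb.b_bb i hi j hj, ← hgq i, ← hgq j, bmk]
      exact hcomm ⟨g i, hgm i⟩ ⟨g j, hgm j⟩
    · obtain ⟨hlt, hv⟩ := hmo.pv_cod hb ((⟨x, hx⟩ : Q) : ↥Q ⧸ Subgroup.center ↥Q)
      set v := cod bb ((⟨x, hx⟩ : Q) : ↥Q ⧸ Subgroup.center ↥Q) with hvdef
      rw [← hprdq, QuotientGroup.eq] at hv
      rcases hcen _ hv with h1 | h1 <;> simp only [Subgroup.coe_mul, InvMemClass.coe_inv] at h1
      · refine ⟨v, hlt.trans (by norm_num), ?_⟩
        rw [el, Nat.testBit_lt_two_pow hlt]
        simpa [zp] using inv_mul_eq_one.mp h1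
      · refine ⟨v ^^^ 256, xor_lt (k := 9) (hlt.trans (by norm_num)) (by norm_num), ?_⟩
        rw [el_eq, Nat.testBit_xor, Nat.testBit_lt_two_pow hlt, Nat.and_xor_distrib_right, and_255_of_lt hlt]
        simp only [show Nat.testBit 256 8 = true from rfl, Bool.false_xor, zp, if_true,
          show 256 &&& 255 = 0 from rfl, Nat.xor_zero]
        rw [← hz]
        exact (inv_mul_eq_iff_eq_mul.mp h1).symm
  have hsurj : Function.Surjective
      (((ren fl).toMonoidHom.comp e.toMonoidHom).comp (QuotientGroup.mk' Q)) :=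
    ((ren fl).surjective.comp e.surjective).comp (QuotientGroup.mk'_surjective Q)
  refine ⟨g, _, if sp then spinM else natM, ⟨hC, hsurj, ?_, ?_⟩, by cases sp <;> simp⟩
  · ext x
    rw [MonoidHom.mem_ker]
    show ren fl (e (x : C ⧸ Q)) = 1 ↔ _
    rw [MulEquiv.map_eq_one_iff, MulEquiv.map_eq_one_iff, QuotientGroup.eq_one_iff]
  · intro c k B hc hB
    have h1 : e (c : C ⧸ Q) = alt (gen7 fl k) := by
      rw [← ren_g7, ← hc]
      exact (ren_ren fl _).symm
    rw [← hM k, ← h1, hA]
    refine List.ext_getElem (by simp [linPart, matOf, hB.1]) fun i h1' h2' => ?_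
    have hi : i < 8 := by simpa [matOf] using h2'
    have e1 : (linPart B).getD i 0 = (matOf bb (tV c)).getD i 0 := by
      rw [linPart_getD, hmo.matOf_getD hb _ hi]
      have hm2 : el z g (B.getD i 0) ∈ Q := hC.el_mem _
      have e2 : tV c (bb i) = ((⟨el z g (B.getD i 0), hm2⟩ : Q) : ↥Q ⧸ Subgroup.center ↥Q) := by
        rw [← hgq i, tV_mk]
        exact congrArg _ (Subtype.ext (by simpa using hB.2.2 i hi))
      have e3 : ((⟨el z g (B.getD i 0), hm2⟩ : Q) : ↥Q ⧸ Subgroup.center ↥Q) =
          pv bb (B.getD i 0 &&& 255) 8 := by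
        rw [← hprdq, eq_comm, QuotientGroup.eq]
        have e4 : ((⟨prd g (B.getD i 0 &&& 255) 8, hprdm _ 8⟩ : Q)⁻¹ * ⟨el z g (B.getD i 0), hm2⟩ : Q) =
            ⟨zp z ((B.getD i 0).testBit 8), hzin _⟩ := Subtype.ext (by
          show (prd g (B.getD i 0 &&& 255) 8)⁻¹ * el z g (B.getD i 0) = _
          rw [el_eq, ← zc, inv_mul_cancel_left])
        rw [e4, Subgroup.mem_center_iff]
        exact fun a => Subtype.ext (zc _ _)
      rw [e2, e3, hmo.cod_pv hb (and_255_lt _)]
    simpa [List.getD_eq_getElem?_getD, List.getElem?_eq_getElem h1', List.getElem?_eq_getElem h2'] using e1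

end CfsgLib.ThType
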